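import Cfsg.Agent.Lib.Helper4.F24M.PtOK
set_option autoImplicit false
set_option maxRecDepth 1000000
set_option Elab.async false

/-! # The checks of the tables of the triple cover of the Fischer group at the points from 0 to 12799 -/

namespace Cfsg.Agent.Lib.Helper4.F24M
open Cfsg.Agent.Lib.Helper4.TCov

theorem c_w_0_0 : chkPtRange 3 920808 MLF MCF WLF 0 256 = true := by decide +kernel
theorem c_w_0_1 : chkPtRange 3 920808 MLF MCF WLF 256 256 = true := by decide +kernel
theorem c_w_0_2 : chkPtRange 3 920808 MLF MCF WLF 512 256 = true := by decide +kernel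
theorem c_w_0_3 : chkPtRange 3 920808 MLF MCF WLF 768 256 = true := by decide +kernel
theorem c_w_0_4 : chkPtRange 3 920808 MLF MCF WLF 1024 256 = true := by decide +kernel
theorem c_w_0_5 : chkPtRange 3 920808 MLF MCF WLF 1280 256 = true := by decide +kernel
theorem c_w_0_6 : chkPtRange 3 920808 MLF MCF WLF 1536 256 = true := by decide +kernel
theorem c_w_0_7 : chkPtRange 3 920808 MLF MCF WLF 1792 256 = true := by decide +kernel
theorem c_w_0_8 : chkPtRange 3 920808 MLF MCF WLF 2048 256 = true := by decide +kernel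
theorem c_w_0_9 : chkPtRange 3 920808 MLF MCF WLF 2304 256 = true := by decide +kernel
theorem c_w_0_10 : chkPtRange 3 920808 MLF MCF WLF 2560 256 = true := by decide +kernel
theorem c_w_0_11 : chkPtRange 3 920808 MLF MCF WLF 2816 256 = true := by decide +kernel
theorem c_w_0_12 : chkPtRange 3 920808 MLF MCF WLF 3072 256 = true := by decide +kernel
theorem c_w_0_13 : chkPtRange 3 920808 MLF MCF WLF 3328 256 = true := by decide +kernel
theorem c_w_0_14 : chkPtRange 3 920808 MLF MCF WLF 3584 256 = true := by decide +kernel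
theorem c_w_0_15 : chkPtRange 3 920808 MLF MCF WLF 3840 256 = true := by decide +kernel
theorem c_w_0_16 : chkPtRange 3 920808 MLF MCF WLF 4096 256 = true := by decide +kernel
theorem c_w_0_17 : chkPtRange 3 920808 MLF MCF WLF 4352 256 = true := by decide +kernel
theorem c_w_0_18 : chkPtRange 3 920808 MLF MCF WLF 4608 256 = true := by decide +kernel
theorem c_w_0_19 : chkPtRange 3 920808 MLF MCF WLF 4864 256 = true := by decide +kernel
theorem c_w_0_20 : chkPtRange 3 920808 MLF MCF WLF 5120 256 = true := by decide +kernel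
theorem c_w_0_21 : chkPtRange 3 920808 MLF MCF WLF 5376 256 = true := by decide +kernel
theorem c_w_0_22 : chkPtRange 3 920808 MLF MCF WLF 5632 256 = true := by decide +kernel
theorem c_w_0_23 : chkPtRange 3 920808 MLF MCF WLF 5888 256 = true := by decide +kernel
theorem c_w_0_24 : chkPtRange 3 920808 MLF MCF WLF 6144 256 = true := by decide +kernel
theorem c_w_0_25 : chkPtRange 3 920808 MLF MCF WLF 6400 256 = true := by decide +kernel
theorem c_w_0_26 : chkPtRange 3 920808 MLF MCF WLF 6656 256 = true := by decide +kernel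
theorem c_w_0_27 : chkPtRange 3 920808 MLF MCF WLF 6912 256 = true := by decide +kernel
theorem c_w_0_28 : chkPtRange 3 920808 MLF MCF WLF 7168 256 = true := by decide +kernel
theorem c_w_0_29 : chkPtRange 3 920808 MLF MCF WLF 7424 256 = true := by decide +kernel
theorem c_w_0_30 : chkPtRange 3 920808 MLF MCF WLF 7680 256 = true := by decide +kernel
theorem c_w_0_31 : chkPtRange 3 920808 MLF MCF WLF 7936 256 = true := by decide +kernel
theorem c_w_0_32 : chkPtRange 3 920808 MLF MCF WLF 8192 256 = true := by decide +kernel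
theorem c_w_0_33 : chkPtRange 3 920808 MLF MCF WLF 8448 256 = true := by decide +kernel
theorem c_w_0_34 : chkPtRange 3 920808 MLF MCF WLF 8704 256 = true := by decide +kernel
theorem c_w_0_35 : chkPtRange 3 920808 MLF MCF WLF 8960 256 = true := by decide +kernel
theorem c_w_0_36 : chkPtRange 3 920808 MLF MCF WLF 9216 256 = true := by decide +kernel
theorem c_w_0_37 : chkPtRange 3 920808 MLF MCF WLF 9472 256 = true := by decide +kernel
theorem c_w_0_38 : chkPtRange 3 920808 MLF MCF WLF 9728 256 = true := by decide +kernel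
theorem c_w_0_39 : chkPtRange 3 920808 MLF MCF WLF 9984 256 = true := by decide +kernel
theorem c_w_0_40 : chkPtRange 3 920808 MLF MCF WLF 10240 256 = true := by decide +kernel
theorem c_w_0_41 : chkPtRange 3 920808 MLF MCF WLF 10496 256 = true := by decide +kernel
theorem c_w_0_42 : chkPtRange 3 920808 MLF MCF WLF 10752 256 = true := by decide +kernel
theorem c_w_0_43 : chkPtRange 3 920808 MLF MCF WLF 11008 256 = true := by decide +kernel
theorem c_w_0_44 : chkPtRange 3 920808 MLF MCF WLF 11264 256 = true := by decide +kernel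
theorem c_w_0_45 : chkPtRange 3 920808 MLF MCF WLF 11520 256 = true := by decide +kernel
theorem c_w_0_46 : chkPtRange 3 920808 MLF MCF WLF 11776 256 = true := by decide +kernel
theorem c_w_0_47 : chkPtRange 3 920808 MLF MCF WLF 12032 256 = true := by decide +kernel
theorem c_w_0_48 : chkPtRange 3 920808 MLF MCF WLF 12288 256 = true := by decide +kernel
theorem c_w_0_49 : chkPtRange 3 920808 MLF MCF WLF 12544 256 = true := by decide +kernel

theorem ptOK_0 (j : ℕ) (h1 : 0 ≤ j) (h2 : j < 12800) : PtOK j := by
  rcases Nat.lt_or_ge j 256 with g | g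
  · exact ptOK_of_chk 0 256 c_w_0_0 j (by omega) (by omega)
  clear h1
  have h1 := g
  clear g
  rcases Nat.lt_or_ge j 512 with g | g
  · exact ptOK_of_chk 256 256 c_w_0_1 j (by omega) (by omega)
  clear h1
  have h1 := g
  clear g
  rcases Nat.lt_or_ge j 768 with g | g
  · exact ptOK_of_chk 512 256 c_w_0_2 j (by omega) (by omega)
  clear h1
  have h1 := g
  clear g
  rcases Nat.lt_or_ge j 1024 with g | g
  · exact ptOK_of_chk 768 256 c_w_0_3 j (by omega) (by omega)
  clear h1
  have h1 := g
  clear g
  rcases Nat.lt_or_ge j 1280 with g | g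
  · exact ptOK_of_chk 1024 256 c_w_0_4 j (by omega) (by omega)
  clear h1
  have h1 := g
  clear g
  rcases Nat.lt_or_ge j 1536 with g | g
  · exact ptOK_of_chk 1280 256 c_w_0_5 j (by omega) (by omega)
  clear h1
  have h1 := g
  clear g
  rcases Nat.lt_or_ge j 1792 with g | g
  · exact ptOK_of_chk 1536 256 c_w_0_6 j (by omega) (by omega)
  clear h1
  have h1 := g
  clear g
  rcases Nat.lt_or_ge j 2048 with g | g
  · exact ptOK_of_chk 1792 256 c_w_0_7 j (by omega) (by omega)
  clear h1
  have h1 := g
  clear g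
  rcases Nat.lt_or_ge j 2304 with g | g
  · exact ptOK_of_chk 2048 256 c_w_0_8 j (by omega) (by omega)
  clear h1
  have h1 := g
  clear g
  rcases Nat.lt_or_ge j 2560 with g | g
  · exact ptOK_of_chk 2304 256 c_w_0_9 j (by omega) (by omega)
  clear h1
  have h1 := g
  clear g
  rcases Nat.lt_or_ge j 2816 with g | g
  · exact ptOK_of_chk 2560 256 c_w_0_10 j (by omega) (by omega)
  clear h1
  have h1 := g
  clear g
  rcases Nat.lt_or_ge j 3072 with g | g
  · exact ptOK_of_chk 2816 256 c_w_0_11 j (by omega) (by omega)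
  clear h1
  have h1 := g
  clear g
  rcases Nat.lt_or_ge j 3328 with g | g
  · exact ptOK_of_chk 3072 256 c_w_0_12 j (by omega) (by omega)
  clear h1
  have h1 := g
  clear g
  rcases Nat.lt_or_ge j 3584 with g | g
  · exact ptOK_of_chk 3328 256 c_w_0_13 j (by omega) (by omega)
  clear h1
  have h1 := g
  clear g
  rcases Nat.lt_or_ge j 3840 with g | g
  · exact ptOK_of_chk 3584 256 c_w_0_14 j (by omega) (by omega)
  clear h1
  have h1 := g
  clear g
  rcases Nat.lt_or_ge j 4096 with g | g
  · exact ptOK_of_chk 3840 256 c_w_0_15 j (by omega) (by omega)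
  clear h1
  have h1 := g
  clear g
  rcases Nat.lt_or_ge j 4352 with g | g
  · exact ptOK_of_chk 4096 256 c_w_0_16 j (by omega) (by omega)
  clear h1
  have h1 := g
  clear g
  rcases Nat.lt_or_ge j 4608 with g | g
  · exact ptOK_of_chk 4352 256 c_w_0_17 j (by omega) (by omega)
  clear h1
  have h1 := g
  clear g
  rcases Nat.lt_or_ge j 4864 with g | g
  · exact ptOK_of_chk 4608 256 c_w_0_18 j (by omega) (by omega)
  clear h1
  have h1 := g
  clear g
  rcases Nat.lt_or_ge j 5120 with g | g
  · exact ptOK_of_chk 4864 256 c_w_0_19 j (by omega) (by omega)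
  clear h1
  have h1 := g
  clear g
  rcases Nat.lt_or_ge j 5376 with g | g
  · exact ptOK_of_chk 5120 256 c_w_0_20 j (by omega) (by omega)
  clear h1
  have h1 := g
  clear g
  rcases Nat.lt_or_ge j 5632 with g | g
  · exact ptOK_of_chk 5376 256 c_w_0_21 j (by omega) (by omega)
  clear h1
  have h1 := g
  clear g
  rcases Nat.lt_or_ge j 5888 with g | g
  · exact ptOK_of_chk 5632 256 c_w_0_22 j (by omega) (by omega)
  clear h1
  have h1 := g
  clear g
  rcases Nat.lt_or_ge j 6144 with g | g
  · exact ptOK_of_chk 5888 256 c_w_0_23 j (by omega) (by omega)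
  clear h1
  have h1 := g
  clear g
  rcases Nat.lt_or_ge j 6400 with g | g
  · exact ptOK_of_chk 6144 256 c_w_0_24 j (by omega) (by omega)
  clear h1
  have h1 := g
  clear g
  rcases Nat.lt_or_ge j 6656 with g | g
  · exact ptOK_of_chk 6400 256 c_w_0_25 j (by omega) (by omega)
  clear h1
  have h1 := g
  clear g
  rcases Nat.lt_or_ge j 6912 with g | g
  · exact ptOK_of_chk 6656 256 c_w_0_26 j (by omega) (by omega)
  clear h1
  have h1 := g
  clear g
  rcases Nat.lt_or_ge j 7168 with g | g
  · exact ptOK_of_chk 6912 256 c_w_0_27 j (by omega) (by omega)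
  clear h1
  have h1 := g
  clear g
  rcases Nat.lt_or_ge j 7424 with g | g
  · exact ptOK_of_chk 7168 256 c_w_0_28 j (by omega) (by omega)
  clear h1
  have h1 := g
  clear g
  rcases Nat.lt_or_ge j 7680 with g | g
  · exact ptOK_of_chk 7424 256 c_w_0_29 j (by omega) (by omega)
  clear h1
  have h1 := g
  clear g
  rcases Nat.lt_or_ge j 7936 with g | g
  · exact ptOK_of_chk 7680 256 c_w_0_30 j (by omega) (by omega)
  clear h1
  have h1 := g
  clear g
  rcases Nat.lt_or_ge j 8192 with g | g
  · exact ptOK_of_chk 7936 256 c_w_0_31 j (by omega) (by omega)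
  clear h1
  have h1 := g
  clear g
  rcases Nat.lt_or_ge j 8448 with g | g
  · exact ptOK_of_chk 8192 256 c_w_0_32 j (by omega) (by omega)
  clear h1
  have h1 := g
  clear g
  rcases Nat.lt_or_ge j 8704 with g | g
  · exact ptOK_of_chk 8448 256 c_w_0_33 j (by omega) (by omega)
  clear h1
  have h1 := g
  clear g
  rcases Nat.lt_or_ge j 8960 with g | g
  · exact ptOK_of_chk 8704 256 c_w_0_34 j (by omega) (by omega)
  clear h1
  have h1 := g
  clear g
  rcases Nat.lt_or_ge j 9216 with g | g
  · exact ptOK_of_chk 8960 256 c_w_0_35 j (by omega) (by omega)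
  clear h1
  have h1 := g
  clear g
  rcases Nat.lt_or_ge j 9472 with g | g
  · exact ptOK_of_chk 9216 256 c_w_0_36 j (by omega) (by omega)
  clear h1
  have h1 := g
  clear g
  rcases Nat.lt_or_ge j 9728 with g | g
  · exact ptOK_of_chk 9472 256 c_w_0_37 j (by omega) (by omega)
  clear h1
  have h1 := g
  clear g
  rcases Nat.lt_or_ge j 9984 with g | g
  · exact ptOK_of_chk 9728 256 c_w_0_38 j (by omega) (by omega)
  clear h1
  have h1 := g
  clear g
  rcases Nat.lt_or_ge j 10240 with g | g
  · exact ptOK_of_chk 9984 256 c_w_0_39 j (by omega) (by omega)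
  clear h1
  have h1 := g
  clear g
  rcases Nat.lt_or_ge j 10496 with g | g
  · exact ptOK_of_chk 10240 256 c_w_0_40 j (by omega) (by omega)
  clear h1
  have h1 := g
  clear g
  rcases Nat.lt_or_ge j 10752 with g | g
  · exact ptOK_of_chk 10496 256 c_w_0_41 j (by omega) (by omega)
  clear h1
  have h1 := g
  clear g
  rcases Nat.lt_or_ge j 11008 with g | g
  · exact ptOK_of_chk 10752 256 c_w_0_42 j (by omega) (by omega)
  clear h1
  have h1 := g
  clear g
  rcases Nat.lt_or_ge j 11264 with g | g
  · exact ptOK_of_chk 11008 256 c_w_0_43 j (by omega) (by omega)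
  clear h1
  have h1 := g
  clear g
  rcases Nat.lt_or_ge j 11520 with g | g
  · exact ptOK_of_chk 11264 256 c_w_0_44 j (by omega) (by omega)
  clear h1
  have h1 := g
  clear g
  rcases Nat.lt_or_ge j 11776 with g | g
  · exact ptOK_of_chk 11520 256 c_w_0_45 j (by omega) (by omega)
  clear h1
  have h1 := g
  clear g
  rcases Nat.lt_or_ge j 12032 with g | g
  · exact ptOK_of_chk 11776 256 c_w_0_46 j (by omega) (by omega)
  clear h1
  have h1 := g
  clear g
  rcases Nat.lt_or_ge j 12288 with g | g
  · exact ptOK_of_chk 12032 256 c_w_0_47 j (by omega) (by omega)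
  clear h1
  have h1 := g
  clear g
  rcases Nat.lt_or_ge j 12544 with g | g
  · exact ptOK_of_chk 12288 256 c_w_0_48 j (by omega) (by omega)
  clear h1
  have h1 := g
  clear g
  exact ptOK_of_chk 12544 256 c_w_0_49 j (by omega) (by omega)

end Cfsg.Agent.Lib.Helper4.F24M
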