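import Cfsg.Agent.Lib.Helper4.F24M.PtOK
set_option autoImplicit false
set_option maxRecDepth 1000000
set_option Elab.async false

/-! # The checks of the tables of the triple cover of the Fischer group at the points from 12800 to 25599 -/

namespace Cfsg.Agent.Lib.Helper4.F24M
open Cfsg.Agent.Lib.Helper4.TCov

theorem c_w_1_0 : chkPtRange 3 920808 MLF MCF WLF 12800 256 = true := by decide +kernel
theorem c_w_1_1 : chkPtRange 3 920808 MLF MCF WLF 13056 256 = true := by decide +kernel
theorem c_w_1_2 : chkPtRange 3 920808 MLF MCF WLF 13312 256 = true := by decide +kernel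
theorem c_w_1_3 : chkPtRange 3 920808 MLF MCF WLF 13568 256 = true := by decide +kernel
theorem c_w_1_4 : chkPtRange 3 920808 MLF MCF WLF 13824 256 = true := by decide +kernel
theorem c_w_1_5 : chkPtRange 3 920808 MLF MCF WLF 14080 256 = true := by decide +kernel
theorem c_w_1_6 : chkPtRange 3 920808 MLF MCF WLF 14336 256 = true := by decide +kernel
theorem c_w_1_7 : chkPtRange 3 920808 MLF MCF WLF 14592 256 = true := by decide +kernel
theorem c_w_1_8 : chkPtRange 3 920808 MLF MCF WLF 14848 256 = true := by decide +kernel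
theorem c_w_1_9 : chkPtRange 3 920808 MLF MCF WLF 15104 256 = true := by decide +kernel
theorem c_w_1_10 : chkPtRange 3 920808 MLF MCF WLF 15360 256 = true := by decide +kernel
theorem c_w_1_11 : chkPtRange 3 920808 MLF MCF WLF 15616 256 = true := by decide +kernel
theorem c_w_1_12 : chkPtRange 3 920808 MLF MCF WLF 15872 256 = true := by decide +kernel
theorem c_w_1_13 : chkPtRange 3 920808 MLF MCF WLF 16128 256 = true := by decide +kernel
theorem c_w_1_14 : chkPtRange 3 920808 MLF MCF WLF 16384 256 = true := by decide +kernel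
theorem c_w_1_15 : chkPtRange 3 920808 MLF MCF WLF 16640 256 = true := by decide +kernel
theorem c_w_1_16 : chkPtRange 3 920808 MLF MCF WLF 16896 256 = true := by decide +kernel
theorem c_w_1_17 : chkPtRange 3 920808 MLF MCF WLF 17152 256 = true := by decide +kernel
theorem c_w_1_18 : chkPtRange 3 920808 MLF MCF WLF 17408 256 = true := by decide +kernel
theorem c_w_1_19 : chkPtRange 3 920808 MLF MCF WLF 17664 256 = true := by decide +kernel
theorem c_w_1_20 : chkPtRange 3 920808 MLF MCF WLF 17920 256 = true := by decide +kernel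
theorem c_w_1_21 : chkPtRange 3 920808 MLF MCF WLF 18176 256 = true := by decide +kernel
theorem c_w_1_22 : chkPtRange 3 920808 MLF MCF WLF 18432 256 = true := by decide +kernel
theorem c_w_1_23 : chkPtRange 3 920808 MLF MCF WLF 18688 256 = true := by decide +kernel
theorem c_w_1_24 : chkPtRange 3 920808 MLF MCF WLF 18944 256 = true := by decide +kernel
theorem c_w_1_25 : chkPtRange 3 920808 MLF MCF WLF 19200 256 = true := by decide +kernel
theorem c_w_1_26 : chkPtRange 3 920808 MLF MCF WLF 19456 256 = true := by decide +kernel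
theorem c_w_1_27 : chkPtRange 3 920808 MLF MCF WLF 19712 256 = true := by decide +kernel
theorem c_w_1_28 : chkPtRange 3 920808 MLF MCF WLF 19968 256 = true := by decide +kernel
theorem c_w_1_29 : chkPtRange 3 920808 MLF MCF WLF 20224 256 = true := by decide +kernel
theorem c_w_1_30 : chkPtRange 3 920808 MLF MCF WLF 20480 256 = true := by decide +kernel
theorem c_w_1_31 : chkPtRange 3 920808 MLF MCF WLF 20736 256 = true := by decide +kernel
theorem c_w_1_32 : chkPtRange 3 920808 MLF MCF WLF 20992 256 = true := by decide +kernel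
theorem c_w_1_33 : chkPtRange 3 920808 MLF MCF WLF 21248 256 = true := by decide +kernel
theorem c_w_1_34 : chkPtRange 3 920808 MLF MCF WLF 21504 256 = true := by decide +kernel
theorem c_w_1_35 : chkPtRange 3 920808 MLF MCF WLF 21760 256 = true := by decide +kernel
theorem c_w_1_36 : chkPtRange 3 920808 MLF MCF WLF 22016 256 = true := by decide +kernel
theorem c_w_1_37 : chkPtRange 3 920808 MLF MCF WLF 22272 256 = true := by decide +kernel
theorem c_w_1_38 : chkPtRange 3 920808 MLF MCF WLF 22528 256 = true := by decide +kernel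
theorem c_w_1_39 : chkPtRange 3 920808 MLF MCF WLF 22784 256 = true := by decide +kernel
theorem c_w_1_40 : chkPtRange 3 920808 MLF MCF WLF 23040 256 = true := by decide +kernel
theorem c_w_1_41 : chkPtRange 3 920808 MLF MCF WLF 23296 256 = true := by decide +kernel
theorem c_w_1_42 : chkPtRange 3 920808 MLF MCF WLF 23552 256 = true := by decide +kernel
theorem c_w_1_43 : chkPtRange 3 920808 MLF MCF WLF 23808 256 = true := by decide +kernel
theorem c_w_1_44 : chkPtRange 3 920808 MLF MCF WLF 24064 256 = true := by decide +kernel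
theorem c_w_1_45 : chkPtRange 3 920808 MLF MCF WLF 24320 256 = true := by decide +kernel
theorem c_w_1_46 : chkPtRange 3 920808 MLF MCF WLF 24576 256 = true := by decide +kernel
theorem c_w_1_47 : chkPtRange 3 920808 MLF MCF WLF 24832 256 = true := by decide +kernel
theorem c_w_1_48 : chkPtRange 3 920808 MLF MCF WLF 25088 256 = true := by decide +kernel
theorem c_w_1_49 : chkPtRange 3 920808 MLF MCF WLF 25344 256 = true := by decide +kernel

theorem ptOK_1 (j : ℕ) (h1 : 12800 ≤ j) (h2 : j < 25600) : PtOK j := by
  rcases Nat.lt_or_ge j 13056 with g | g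
  · exact ptOK_of_chk 12800 256 c_w_1_0 j (by omega) (by omega)
  clear h1
  have h1 := g
  clear g
  rcases Nat.lt_or_ge j 13312 with g | g
  · exact ptOK_of_chk 13056 256 c_w_1_1 j (by omega) (by omega)
  clear h1
  have h1 := g
  clear g
  rcases Nat.lt_or_ge j 13568 with g | g
  · exact ptOK_of_chk 13312 256 c_w_1_2 j (by omega) (by omega)
  clear h1
  have h1 := g
  clear g
  rcases Nat.lt_or_ge j 13824 with g | g
  · exact ptOK_of_chk 13568 256 c_w_1_3 j (by omega) (by omega)
  clear h1
  have h1 := g
  clear g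
  rcases Nat.lt_or_ge j 14080 with g | g
  · exact ptOK_of_chk 13824 256 c_w_1_4 j (by omega) (by omega)
  clear h1
  have h1 := g
  clear g
  rcases Nat.lt_or_ge j 14336 with g | g
  · exact ptOK_of_chk 14080 256 c_w_1_5 j (by omega) (by omega)
  clear h1
  have h1 := g
  clear g
  rcases Nat.lt_or_ge j 14592 with g | g
  · exact ptOK_of_chk 14336 256 c_w_1_6 j (by omega) (by omega)
  clear h1
  have h1 := g
  clear g
  rcases Nat.lt_or_ge j 14848 with g | g
  · exact ptOK_of_chk 14592 256 c_w_1_7 j (by omega) (by omega)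
  clear h1
  have h1 := g
  clear g
  rcases Nat.lt_or_ge j 15104 with g | g
  · exact ptOK_of_chk 14848 256 c_w_1_8 j (by omega) (by omega)
  clear h1
  have h1 := g
  clear g
  rcases Nat.lt_or_ge j 15360 with g | g
  · exact ptOK_of_chk 15104 256 c_w_1_9 j (by omega) (by omega)
  clear h1
  have h1 := g
  clear g
  rcases Nat.lt_or_ge j 15616 with g | g
  · exact ptOK_of_chk 15360 256 c_w_1_10 j (by omega) (by omega)
  clear h1
  have h1 := g
  clear g
  rcases Nat.lt_or_ge j 15872 with g | g
  · exact ptOK_of_chk 15616 256 c_w_1_11 j (by omega) (by omega)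
  clear h1
  have h1 := g
  clear g
  rcases Nat.lt_or_ge j 16128 with g | g
  · exact ptOK_of_chk 15872 256 c_w_1_12 j (by omega) (by omega)
  clear h1
  have h1 := g
  clear g
  rcases Nat.lt_or_ge j 16384 with g | g
  · exact ptOK_of_chk 16128 256 c_w_1_13 j (by omega) (by omega)
  clear h1
  have h1 := g
  clear g
  rcases Nat.lt_or_ge j 16640 with g | g
  · exact ptOK_of_chk 16384 256 c_w_1_14 j (by omega) (by omega)
  clear h1
  have h1 := g
  clear g
  rcases Nat.lt_or_ge j 16896 with g | g
  · exact ptOK_of_chk 16640 256 c_w_1_15 j (by omega) (by omega)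
  clear h1
  have h1 := g
  clear g
  rcases Nat.lt_or_ge j 17152 with g | g
  · exact ptOK_of_chk 16896 256 c_w_1_16 j (by omega) (by omega)
  clear h1
  have h1 := g
  clear g
  rcases Nat.lt_or_ge j 17408 with g | g
  · exact ptOK_of_chk 17152 256 c_w_1_17 j (by omega) (by omega)
  clear h1
  have h1 := g
  clear g
  rcases Nat.lt_or_ge j 17664 with g | g
  · exact ptOK_of_chk 17408 256 c_w_1_18 j (by omega) (by omega)
  clear h1
  have h1 := g
  clear g
  rcases Nat.lt_or_ge j 17920 with g | g
  · exact ptOK_of_chk 17664 256 c_w_1_19 j (by omega) (by omega)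
  clear h1
  have h1 := g
  clear g
  rcases Nat.lt_or_ge j 18176 with g | g
  · exact ptOK_of_chk 17920 256 c_w_1_20 j (by omega) (by omega)
  clear h1
  have h1 := g
  clear g
  rcases Nat.lt_or_ge j 18432 with g | g
  · exact ptOK_of_chk 18176 256 c_w_1_21 j (by omega) (by omega)
  clear h1
  have h1 := g
  clear g
  rcases Nat.lt_or_ge j 18688 with g | g
  · exact ptOK_of_chk 18432 256 c_w_1_22 j (by omega) (by omega)
  clear h1
  have h1 := g
  clear g
  rcases Nat.lt_or_ge j 18944 with g | g
  · exact ptOK_of_chk 18688 256 c_w_1_23 j (by omega) (by omega)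
  clear h1
  have h1 := g
  clear g
  rcases Nat.lt_or_ge j 19200 with g | g
  · exact ptOK_of_chk 18944 256 c_w_1_24 j (by omega) (by omega)
  clear h1
  have h1 := g
  clear g
  rcases Nat.lt_or_ge j 19456 with g | g
  · exact ptOK_of_chk 19200 256 c_w_1_25 j (by omega) (by omega)
  clear h1
  have h1 := g
  clear g
  rcases Nat.lt_or_ge j 19712 with g | g
  · exact ptOK_of_chk 19456 256 c_w_1_26 j (by omega) (by omega)
  clear h1
  have h1 := g
  clear g
  rcases Nat.lt_or_ge j 19968 with g | g
  · exact ptOK_of_chk 19712 256 c_w_1_27 j (by omega) (by omega)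
  clear h1
  have h1 := g
  clear g
  rcases Nat.lt_or_ge j 20224 with g | g
  · exact ptOK_of_chk 19968 256 c_w_1_28 j (by omega) (by omega)
  clear h1
  have h1 := g
  clear g
  rcases Nat.lt_or_ge j 20480 with g | g
  · exact ptOK_of_chk 20224 256 c_w_1_29 j (by omega) (by omega)
  clear h1
  have h1 := g
  clear g
  rcases Nat.lt_or_ge j 20736 with g | g
  · exact ptOK_of_chk 20480 256 c_w_1_30 j (by omega) (by omega)
  clear h1
  have h1 := g
  clear g
  rcases Nat.lt_or_ge j 20992 with g | g
  · exact ptOK_of_chk 20736 256 c_w_1_31 j (by omega) (by omega)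
  clear h1
  have h1 := g
  clear g
  rcases Nat.lt_or_ge j 21248 with g | g
  · exact ptOK_of_chk 20992 256 c_w_1_32 j (by omega) (by omega)
  clear h1
  have h1 := g
  clear g
  rcases Nat.lt_or_ge j 21504 with g | g
  · exact ptOK_of_chk 21248 256 c_w_1_33 j (by omega) (by omega)
  clear h1
  have h1 := g
  clear g
  rcases Nat.lt_or_ge j 21760 with g | g
  · exact ptOK_of_chk 21504 256 c_w_1_34 j (by omega) (by omega)
  clear h1
  have h1 := g
  clear g
  rcases Nat.lt_or_ge j 22016 with g | g
  · exact ptOK_of_chk 21760 256 c_w_1_35 j (by omega) (by omega)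
  clear h1
  have h1 := g
  clear g
  rcases Nat.lt_or_ge j 22272 with g | g
  · exact ptOK_of_chk 22016 256 c_w_1_36 j (by omega) (by omega)
  clear h1
  have h1 := g
  clear g
  rcases Nat.lt_or_ge j 22528 with g | g
  · exact ptOK_of_chk 22272 256 c_w_1_37 j (by omega) (by omega)
  clear h1
  have h1 := g
  clear g
  rcases Nat.lt_or_ge j 22784 with g | g
  · exact ptOK_of_chk 22528 256 c_w_1_38 j (by omega) (by omega)
  clear h1
  have h1 := g
  clear g
  rcases Nat.lt_or_ge j 23040 with g | g
  · exact ptOK_of_chk 22784 256 c_w_1_39 j (by omega) (by omega)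
  clear h1
  have h1 := g
  clear g
  rcases Nat.lt_or_ge j 23296 with g | g
  · exact ptOK_of_chk 23040 256 c_w_1_40 j (by omega) (by omega)
  clear h1
  have h1 := g
  clear g
  rcases Nat.lt_or_ge j 23552 with g | g
  · exact ptOK_of_chk 23296 256 c_w_1_41 j (by omega) (by omega)
  clear h1
  have h1 := g
  clear g
  rcases Nat.lt_or_ge j 23808 with g | g
  · exact ptOK_of_chk 23552 256 c_w_1_42 j (by omega) (by omega)
  clear h1
  have h1 := g
  clear g
  rcases Nat.lt_or_ge j 24064 with g | g
  · exact ptOK_of_chk 23808 256 c_w_1_43 j (by omega) (by omega)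
  clear h1
  have h1 := g
  clear g
  rcases Nat.lt_or_ge j 24320 with g | g
  · exact ptOK_of_chk 24064 256 c_w_1_44 j (by omega) (by omega)
  clear h1
  have h1 := g
  clear g
  rcases Nat.lt_or_ge j 24576 with g | g
  · exact ptOK_of_chk 24320 256 c_w_1_45 j (by omega) (by omega)
  clear h1
  have h1 := g
  clear g
  rcases Nat.lt_or_ge j 24832 with g | g
  · exact ptOK_of_chk 24576 256 c_w_1_46 j (by omega) (by omega)
  clear h1
  have h1 := g
  clear g
  rcases Nat.lt_or_ge j 25088 with g | g
  · exact ptOK_of_chk 24832 256 c_w_1_47 j (by omega) (by omega)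
  clear h1
  have h1 := g
  clear g
  rcases Nat.lt_or_ge j 25344 with g | g
  · exact ptOK_of_chk 25088 256 c_w_1_48 j (by omega) (by omega)
  clear h1
  have h1 := g
  clear g
  exact ptOK_of_chk 25344 256 c_w_1_49 j (by omega) (by omega)

end Cfsg.Agent.Lib.Helper4.F24M
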