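import Cfsg.Agent.Lib.Helper4.F24M.PtOK
set_option autoImplicit false
set_option maxRecDepth 1000000
set_option Elab.async false

/-! # The checks of the tables of the triple cover of the Fischer group at the points from 128000 to 140799 -/

namespace Cfsg.Agent.Lib.Helper4.F24M
open Cfsg.Agent.Lib.Helper4.TCov

theorem c_w_10_0 : chkPtRange 3 920808 MLF MCF WLF 128000 256 = true := by decide +kernel
theorem c_w_10_1 : chkPtRange 3 920808 MLF MCF WLF 128256 256 = true := by decide +kernel
theorem c_w_10_2 : chkPtRange 3 920808 MLF MCF WLF 128512 256 = true := by decide +kernel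
theorem c_w_10_3 : chkPtRange 3 920808 MLF MCF WLF 128768 256 = true := by decide +kernel
theorem c_w_10_4 : chkPtRange 3 920808 MLF MCF WLF 129024 256 = true := by decide +kernel
theorem c_w_10_5 : chkPtRange 3 920808 MLF MCF WLF 129280 256 = true := by decide +kernel
theorem c_w_10_6 : chkPtRange 3 920808 MLF MCF WLF 129536 256 = true := by decide +kernel
theorem c_w_10_7 : chkPtRange 3 920808 MLF MCF WLF 129792 256 = true := by decide +kernel
theorem c_w_10_8 : chkPtRange 3 920808 MLF MCF WLF 130048 256 = true := by decide +kernel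
theorem c_w_10_9 : chkPtRange 3 920808 MLF MCF WLF 130304 256 = true := by decide +kernel
theorem c_w_10_10 : chkPtRange 3 920808 MLF MCF WLF 130560 256 = true := by decide +kernel
theorem c_w_10_11 : chkPtRange 3 920808 MLF MCF WLF 130816 256 = true := by decide +kernel
theorem c_w_10_12 : chkPtRange 3 920808 MLF MCF WLF 131072 256 = true := by decide +kernel
theorem c_w_10_13 : chkPtRange 3 920808 MLF MCF WLF 131328 256 = true := by decide +kernel
theorem c_w_10_14 : chkPtRange 3 920808 MLF MCF WLF 131584 256 = true := by decide +kernel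
theorem c_w_10_15 : chkPtRange 3 920808 MLF MCF WLF 131840 256 = true := by decide +kernel
theorem c_w_10_16 : chkPtRange 3 920808 MLF MCF WLF 132096 256 = true := by decide +kernel
theorem c_w_10_17 : chkPtRange 3 920808 MLF MCF WLF 132352 256 = true := by decide +kernel
theorem c_w_10_18 : chkPtRange 3 920808 MLF MCF WLF 132608 256 = true := by decide +kernel
theorem c_w_10_19 : chkPtRange 3 920808 MLF MCF WLF 132864 256 = true := by decide +kernel
theorem c_w_10_20 : chkPtRange 3 920808 MLF MCF WLF 133120 256 = true := by decide +kernel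
theorem c_w_10_21 : chkPtRange 3 920808 MLF MCF WLF 133376 256 = true := by decide +kernel
theorem c_w_10_22 : chkPtRange 3 920808 MLF MCF WLF 133632 256 = true := by decide +kernel
theorem c_w_10_23 : chkPtRange 3 920808 MLF MCF WLF 133888 256 = true := by decide +kernel
theorem c_w_10_24 : chkPtRange 3 920808 MLF MCF WLF 134144 256 = true := by decide +kernel
theorem c_w_10_25 : chkPtRange 3 920808 MLF MCF WLF 134400 256 = true := by decide +kernel
theorem c_w_10_26 : chkPtRange 3 920808 MLF MCF WLF 134656 256 = true := by decide +kernel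
theorem c_w_10_27 : chkPtRange 3 920808 MLF MCF WLF 134912 256 = true := by decide +kernel
theorem c_w_10_28 : chkPtRange 3 920808 MLF MCF WLF 135168 256 = true := by decide +kernel
theorem c_w_10_29 : chkPtRange 3 920808 MLF MCF WLF 135424 256 = true := by decide +kernel
theorem c_w_10_30 : chkPtRange 3 920808 MLF MCF WLF 135680 256 = true := by decide +kernel
theorem c_w_10_31 : chkPtRange 3 920808 MLF MCF WLF 135936 256 = true := by decide +kernel
theorem c_w_10_32 : chkPtRange 3 920808 MLF MCF WLF 136192 256 = true := by decide +kernel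
theorem c_w_10_33 : chkPtRange 3 920808 MLF MCF WLF 136448 256 = true := by decide +kernel
theorem c_w_10_34 : chkPtRange 3 920808 MLF MCF WLF 136704 256 = true := by decide +kernel
theorem c_w_10_35 : chkPtRange 3 920808 MLF MCF WLF 136960 256 = true := by decide +kernel
theorem c_w_10_36 : chkPtRange 3 920808 MLF MCF WLF 137216 256 = true := by decide +kernel
theorem c_w_10_37 : chkPtRange 3 920808 MLF MCF WLF 137472 256 = true := by decide +kernel
theorem c_w_10_38 : chkPtRange 3 920808 MLF MCF WLF 137728 256 = true := by decide +kernel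
theorem c_w_10_39 : chkPtRange 3 920808 MLF MCF WLF 137984 256 = true := by decide +kernel
theorem c_w_10_40 : chkPtRange 3 920808 MLF MCF WLF 138240 256 = true := by decide +kernel
theorem c_w_10_41 : chkPtRange 3 920808 MLF MCF WLF 138496 256 = true := by decide +kernel
theorem c_w_10_42 : chkPtRange 3 920808 MLF MCF WLF 138752 256 = true := by decide +kernel
theorem c_w_10_43 : chkPtRange 3 920808 MLF MCF WLF 139008 256 = true := by decide +kernel
theorem c_w_10_44 : chkPtRange 3 920808 MLF MCF WLF 139264 256 = true := by decide +kernel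
theorem c_w_10_45 : chkPtRange 3 920808 MLF MCF WLF 139520 256 = true := by decide +kernel
theorem c_w_10_46 : chkPtRange 3 920808 MLF MCF WLF 139776 256 = true := by decide +kernel
theorem c_w_10_47 : chkPtRange 3 920808 MLF MCF WLF 140032 256 = true := by decide +kernel
theorem c_w_10_48 : chkPtRange 3 920808 MLF MCF WLF 140288 256 = true := by decide +kernel
theorem c_w_10_49 : chkPtRange 3 920808 MLF MCF WLF 140544 256 = true := by decide +kernel

theorem ptOK_10 (j : ℕ) (h1 : 128000 ≤ j) (h2 : j < 140800) : PtOK j := by
  rcases Nat.lt_or_ge j 128256 with g | g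
  · exact ptOK_of_chk 128000 256 c_w_10_0 j (by omega) (by omega)
  clear h1
  have h1 := g
  clear g
  rcases Nat.lt_or_ge j 128512 with g | g
  · exact ptOK_of_chk 128256 256 c_w_10_1 j (by omega) (by omega)
  clear h1
  have h1 := g
  clear g
  rcases Nat.lt_or_ge j 128768 with g | g
  · exact ptOK_of_chk 128512 256 c_w_10_2 j (by omega) (by omega)
  clear h1
  have h1 := g
  clear g
  rcases Nat.lt_or_ge j 129024 with g | g
  · exact ptOK_of_chk 128768 256 c_w_10_3 j (by omega) (by omega)
  clear h1
  have h1 := g
  clear g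
  rcases Nat.lt_or_ge j 129280 with g | g
  · exact ptOK_of_chk 129024 256 c_w_10_4 j (by omega) (by omega)
  clear h1
  have h1 := g
  clear g
  rcases Nat.lt_or_ge j 129536 with g | g
  · exact ptOK_of_chk 129280 256 c_w_10_5 j (by omega) (by omega)
  clear h1
  have h1 := g
  clear g
  rcases Nat.lt_or_ge j 129792 with g | g
  · exact ptOK_of_chk 129536 256 c_w_10_6 j (by omega) (by omega)
  clear h1
  have h1 := g
  clear g
  rcases Nat.lt_or_ge j 130048 with g | g
  · exact ptOK_of_chk 129792 256 c_w_10_7 j (by omega) (by omega)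
  clear h1
  have h1 := g
  clear g
  rcases Nat.lt_or_ge j 130304 with g | g
  · exact ptOK_of_chk 130048 256 c_w_10_8 j (by omega) (by omega)
  clear h1
  have h1 := g
  clear g
  rcases Nat.lt_or_ge j 130560 with g | g
  · exact ptOK_of_chk 130304 256 c_w_10_9 j (by omega) (by omega)
  clear h1
  have h1 := g
  clear g
  rcases Nat.lt_or_ge j 130816 with g | g
  · exact ptOK_of_chk 130560 256 c_w_10_10 j (by omega) (by omega)
  clear h1
  have h1 := g
  clear g
  rcases Nat.lt_or_ge j 131072 with g | g
  · exact ptOK_of_chk 130816 256 c_w_10_11 j (by omega) (by omega)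
  clear h1
  have h1 := g
  clear g
  rcases Nat.lt_or_ge j 131328 with g | g
  · exact ptOK_of_chk 131072 256 c_w_10_12 j (by omega) (by omega)
  clear h1
  have h1 := g
  clear g
  rcases Nat.lt_or_ge j 131584 with g | g
  · exact ptOK_of_chk 131328 256 c_w_10_13 j (by omega) (by omega)
  clear h1
  have h1 := g
  clear g
  rcases Nat.lt_or_ge j 131840 with g | g
  · exact ptOK_of_chk 131584 256 c_w_10_14 j (by omega) (by omega)
  clear h1
  have h1 := g
  clear g
  rcases Nat.lt_or_ge j 132096 with g | g
  · exact ptOK_of_chk 131840 256 c_w_10_15 j (by omega) (by omega)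
  clear h1
  have h1 := g
  clear g
  rcases Nat.lt_or_ge j 132352 with g | g
  · exact ptOK_of_chk 132096 256 c_w_10_16 j (by omega) (by omega)
  clear h1
  have h1 := g
  clear g
  rcases Nat.lt_or_ge j 132608 with g | g
  · exact ptOK_of_chk 132352 256 c_w_10_17 j (by omega) (by omega)
  clear h1
  have h1 := g
  clear g
  rcases Nat.lt_or_ge j 132864 with g | g
  · exact ptOK_of_chk 132608 256 c_w_10_18 j (by omega) (by omega)
  clear h1
  have h1 := g
  clear g
  rcases Nat.lt_or_ge j 133120 with g | g
  · exact ptOK_of_chk 132864 256 c_w_10_19 j (by omega) (by omega)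
  clear h1
  have h1 := g
  clear g
  rcases Nat.lt_or_ge j 133376 with g | g
  · exact ptOK_of_chk 133120 256 c_w_10_20 j (by omega) (by omega)
  clear h1
  have h1 := g
  clear g
  rcases Nat.lt_or_ge j 133632 with g | g
  · exact ptOK_of_chk 133376 256 c_w_10_21 j (by omega) (by omega)
  clear h1
  have h1 := g
  clear g
  rcases Nat.lt_or_ge j 133888 with g | g
  · exact ptOK_of_chk 133632 256 c_w_10_22 j (by omega) (by omega)
  clear h1
  have h1 := g
  clear g
  rcases Nat.lt_or_ge j 134144 with g | g
  · exact ptOK_of_chk 133888 256 c_w_10_23 j (by omega) (by omega)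
  clear h1
  have h1 := g
  clear g
  rcases Nat.lt_or_ge j 134400 with g | g
  · exact ptOK_of_chk 134144 256 c_w_10_24 j (by omega) (by omega)
  clear h1
  have h1 := g
  clear g
  rcases Nat.lt_or_ge j 134656 with g | g
  · exact ptOK_of_chk 134400 256 c_w_10_25 j (by omega) (by omega)
  clear h1
  have h1 := g
  clear g
  rcases Nat.lt_or_ge j 134912 with g | g
  · exact ptOK_of_chk 134656 256 c_w_10_26 j (by omega) (by omega)
  clear h1
  have h1 := g
  clear g
  rcases Nat.lt_or_ge j 135168 with g | g
  · exact ptOK_of_chk 134912 256 c_w_10_27 j (by omega) (by omega)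
  clear h1
  have h1 := g
  clear g
  rcases Nat.lt_or_ge j 135424 with g | g
  · exact ptOK_of_chk 135168 256 c_w_10_28 j (by omega) (by omega)
  clear h1
  have h1 := g
  clear g
  rcases Nat.lt_or_ge j 135680 with g | g
  · exact ptOK_of_chk 135424 256 c_w_10_29 j (by omega) (by omega)
  clear h1
  have h1 := g
  clear g
  rcases Nat.lt_or_ge j 135936 with g | g
  · exact ptOK_of_chk 135680 256 c_w_10_30 j (by omega) (by omega)
  clear h1
  have h1 := g
  clear g
  rcases Nat.lt_or_ge j 136192 with g | g
  · exact ptOK_of_chk 135936 256 c_w_10_31 j (by omega) (by omega)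
  clear h1
  have h1 := g
  clear g
  rcases Nat.lt_or_ge j 136448 with g | g
  · exact ptOK_of_chk 136192 256 c_w_10_32 j (by omega) (by omega)
  clear h1
  have h1 := g
  clear g
  rcases Nat.lt_or_ge j 136704 with g | g
  · exact ptOK_of_chk 136448 256 c_w_10_33 j (by omega) (by omega)
  clear h1
  have h1 := g
  clear g
  rcases Nat.lt_or_ge j 136960 with g | g
  · exact ptOK_of_chk 136704 256 c_w_10_34 j (by omega) (by omega)
  clear h1
  have h1 := g
  clear g
  rcases Nat.lt_or_ge j 137216 with g | g
  · exact ptOK_of_chk 136960 256 c_w_10_35 j (by omega) (by omega)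
  clear h1
  have h1 := g
  clear g
  rcases Nat.lt_or_ge j 137472 with g | g
  · exact ptOK_of_chk 137216 256 c_w_10_36 j (by omega) (by omega)
  clear h1
  have h1 := g
  clear g
  rcases Nat.lt_or_ge j 137728 with g | g
  · exact ptOK_of_chk 137472 256 c_w_10_37 j (by omega) (by omega)
  clear h1
  have h1 := g
  clear g
  rcases Nat.lt_or_ge j 137984 with g | g
  · exact ptOK_of_chk 137728 256 c_w_10_38 j (by omega) (by omega)
  clear h1
  have h1 := g
  clear g
  rcases Nat.lt_or_ge j 138240 with g | g
  · exact ptOK_of_chk 137984 256 c_w_10_39 j (by omega) (by omega)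
  clear h1
  have h1 := g
  clear g
  rcases Nat.lt_or_ge j 138496 with g | g
  · exact ptOK_of_chk 138240 256 c_w_10_40 j (by omega) (by omega)
  clear h1
  have h1 := g
  clear g
  rcases Nat.lt_or_ge j 138752 with g | g
  · exact ptOK_of_chk 138496 256 c_w_10_41 j (by omega) (by omega)
  clear h1
  have h1 := g
  clear g
  rcases Nat.lt_or_ge j 139008 with g | g
  · exact ptOK_of_chk 138752 256 c_w_10_42 j (by omega) (by omega)
  clear h1
  have h1 := g
  clear g
  rcases Nat.lt_or_ge j 139264 with g | g
  · exact ptOK_of_chk 139008 256 c_w_10_43 j (by omega) (by omega)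
  clear h1
  have h1 := g
  clear g
  rcases Nat.lt_or_ge j 139520 with g | g
  · exact ptOK_of_chk 139264 256 c_w_10_44 j (by omega) (by omega)
  clear h1
  have h1 := g
  clear g
  rcases Nat.lt_or_ge j 139776 with g | g
  · exact ptOK_of_chk 139520 256 c_w_10_45 j (by omega) (by omega)
  clear h1
  have h1 := g
  clear g
  rcases Nat.lt_or_ge j 140032 with g | g
  · exact ptOK_of_chk 139776 256 c_w_10_46 j (by omega) (by omega)
  clear h1
  have h1 := g
  clear g
  rcases Nat.lt_or_ge j 140288 with g | g
  · exact ptOK_of_chk 140032 256 c_w_10_47 j (by omega) (by omega)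
  clear h1
  have h1 := g
  clear g
  rcases Nat.lt_or_ge j 140544 with g | g
  · exact ptOK_of_chk 140288 256 c_w_10_48 j (by omega) (by omega)
  clear h1
  have h1 := g
  clear g
  exact ptOK_of_chk 140544 256 c_w_10_49 j (by omega) (by omega)

end Cfsg.Agent.Lib.Helper4.F24M
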