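import Cfsg.Agent.Lib.Helper4.F24M.PtOK
set_option autoImplicit false
set_option maxRecDepth 1000000
set_option Elab.async false

/-! # The checks of the tables of the triple cover of the Fischer group at the points from 140800 to 153599 -/

namespace Cfsg.Agent.Lib.Helper4.F24M
open Cfsg.Agent.Lib.Helper4.TCov

theorem c_w_11_0 : chkPtRange 3 920808 MLF MCF WLF 140800 256 = true := by decide +kernel
theorem c_w_11_1 : chkPtRange 3 920808 MLF MCF WLF 141056 256 = true := by decide +kernel
theorem c_w_11_2 : chkPtRange 3 920808 MLF MCF WLF 141312 256 = true := by decide +kernel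
theorem c_w_11_3 : chkPtRange 3 920808 MLF MCF WLF 141568 256 = true := by decide +kernel
theorem c_w_11_4 : chkPtRange 3 920808 MLF MCF WLF 141824 256 = true := by decide +kernel
theorem c_w_11_5 : chkPtRange 3 920808 MLF MCF WLF 142080 256 = true := by decide +kernel
theorem c_w_11_6 : chkPtRange 3 920808 MLF MCF WLF 142336 256 = true := by decide +kernel
theorem c_w_11_7 : chkPtRange 3 920808 MLF MCF WLF 142592 256 = true := by decide +kernel
theorem c_w_11_8 : chkPtRange 3 920808 MLF MCF WLF 142848 256 = true := by decide +kernel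
theorem c_w_11_9 : chkPtRange 3 920808 MLF MCF WLF 143104 256 = true := by decide +kernel
theorem c_w_11_10 : chkPtRange 3 920808 MLF MCF WLF 143360 256 = true := by decide +kernel
theorem c_w_11_11 : chkPtRange 3 920808 MLF MCF WLF 143616 256 = true := by decide +kernel
theorem c_w_11_12 : chkPtRange 3 920808 MLF MCF WLF 143872 256 = true := by decide +kernel
theorem c_w_11_13 : chkPtRange 3 920808 MLF MCF WLF 144128 256 = true := by decide +kernel
theorem c_w_11_14 : chkPtRange 3 920808 MLF MCF WLF 144384 256 = true := by decide +kernel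
theorem c_w_11_15 : chkPtRange 3 920808 MLF MCF WLF 144640 256 = true := by decide +kernel
theorem c_w_11_16 : chkPtRange 3 920808 MLF MCF WLF 144896 256 = true := by decide +kernel
theorem c_w_11_17 : chkPtRange 3 920808 MLF MCF WLF 145152 256 = true := by decide +kernel
theorem c_w_11_18 : chkPtRange 3 920808 MLF MCF WLF 145408 256 = true := by decide +kernel
theorem c_w_11_19 : chkPtRange 3 920808 MLF MCF WLF 145664 256 = true := by decide +kernel
theorem c_w_11_20 : chkPtRange 3 920808 MLF MCF WLF 145920 256 = true := by decide +kernel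
theorem c_w_11_21 : chkPtRange 3 920808 MLF MCF WLF 146176 256 = true := by decide +kernel
theorem c_w_11_22 : chkPtRange 3 920808 MLF MCF WLF 146432 256 = true := by decide +kernel
theorem c_w_11_23 : chkPtRange 3 920808 MLF MCF WLF 146688 256 = true := by decide +kernel
theorem c_w_11_24 : chkPtRange 3 920808 MLF MCF WLF 146944 256 = true := by decide +kernel
theorem c_w_11_25 : chkPtRange 3 920808 MLF MCF WLF 147200 256 = true := by decide +kernel
theorem c_w_11_26 : chkPtRange 3 920808 MLF MCF WLF 147456 256 = true := by decide +kernel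
theorem c_w_11_27 : chkPtRange 3 920808 MLF MCF WLF 147712 256 = true := by decide +kernel
theorem c_w_11_28 : chkPtRange 3 920808 MLF MCF WLF 147968 256 = true := by decide +kernel
theorem c_w_11_29 : chkPtRange 3 920808 MLF MCF WLF 148224 256 = true := by decide +kernel
theorem c_w_11_30 : chkPtRange 3 920808 MLF MCF WLF 148480 256 = true := by decide +kernel
theorem c_w_11_31 : chkPtRange 3 920808 MLF MCF WLF 148736 256 = true := by decide +kernel
theorem c_w_11_32 : chkPtRange 3 920808 MLF MCF WLF 148992 256 = true := by decide +kernel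
theorem c_w_11_33 : chkPtRange 3 920808 MLF MCF WLF 149248 256 = true := by decide +kernel
theorem c_w_11_34 : chkPtRange 3 920808 MLF MCF WLF 149504 256 = true := by decide +kernel
theorem c_w_11_35 : chkPtRange 3 920808 MLF MCF WLF 149760 256 = true := by decide +kernel
theorem c_w_11_36 : chkPtRange 3 920808 MLF MCF WLF 150016 256 = true := by decide +kernel
theorem c_w_11_37 : chkPtRange 3 920808 MLF MCF WLF 150272 256 = true := by decide +kernel
theorem c_w_11_38 : chkPtRange 3 920808 MLF MCF WLF 150528 256 = true := by decide +kernel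
theorem c_w_11_39 : chkPtRange 3 920808 MLF MCF WLF 150784 256 = true := by decide +kernel
theorem c_w_11_40 : chkPtRange 3 920808 MLF MCF WLF 151040 256 = true := by decide +kernel
theorem c_w_11_41 : chkPtRange 3 920808 MLF MCF WLF 151296 256 = true := by decide +kernel
theorem c_w_11_42 : chkPtRange 3 920808 MLF MCF WLF 151552 256 = true := by decide +kernel
theorem c_w_11_43 : chkPtRange 3 920808 MLF MCF WLF 151808 256 = true := by decide +kernel
theorem c_w_11_44 : chkPtRange 3 920808 MLF MCF WLF 152064 256 = true := by decide +kernel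
theorem c_w_11_45 : chkPtRange 3 920808 MLF MCF WLF 152320 256 = true := by decide +kernel
theorem c_w_11_46 : chkPtRange 3 920808 MLF MCF WLF 152576 256 = true := by decide +kernel
theorem c_w_11_47 : chkPtRange 3 920808 MLF MCF WLF 152832 256 = true := by decide +kernel
theorem c_w_11_48 : chkPtRange 3 920808 MLF MCF WLF 153088 256 = true := by decide +kernel
theorem c_w_11_49 : chkPtRange 3 920808 MLF MCF WLF 153344 256 = true := by decide +kernel

theorem ptOK_11 (j : ℕ) (h1 : 140800 ≤ j) (h2 : j < 153600) : PtOK j := by
  rcases Nat.lt_or_ge j 141056 with g | g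
  · exact ptOK_of_chk 140800 256 c_w_11_0 j (by omega) (by omega)
  clear h1
  have h1 := g
  clear g
  rcases Nat.lt_or_ge j 141312 with g | g
  · exact ptOK_of_chk 141056 256 c_w_11_1 j (by omega) (by omega)
  clear h1
  have h1 := g
  clear g
  rcases Nat.lt_or_ge j 141568 with g | g
  · exact ptOK_of_chk 141312 256 c_w_11_2 j (by omega) (by omega)
  clear h1
  have h1 := g
  clear g
  rcases Nat.lt_or_ge j 141824 with g | g
  · exact ptOK_of_chk 141568 256 c_w_11_3 j (by omega) (by omega)
  clear h1
  have h1 := g
  clear g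
  rcases Nat.lt_or_ge j 142080 with g | g
  · exact ptOK_of_chk 141824 256 c_w_11_4 j (by omega) (by omega)
  clear h1
  have h1 := g
  clear g
  rcases Nat.lt_or_ge j 142336 with g | g
  · exact ptOK_of_chk 142080 256 c_w_11_5 j (by omega) (by omega)
  clear h1
  have h1 := g
  clear g
  rcases Nat.lt_or_ge j 142592 with g | g
  · exact ptOK_of_chk 142336 256 c_w_11_6 j (by omega) (by omega)
  clear h1
  have h1 := g
  clear g
  rcases Nat.lt_or_ge j 142848 with g | g
  · exact ptOK_of_chk 142592 256 c_w_11_7 j (by omega) (by omega)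
  clear h1
  have h1 := g
  clear g
  rcases Nat.lt_or_ge j 143104 with g | g
  · exact ptOK_of_chk 142848 256 c_w_11_8 j (by omega) (by omega)
  clear h1
  have h1 := g
  clear g
  rcases Nat.lt_or_ge j 143360 with g | g
  · exact ptOK_of_chk 143104 256 c_w_11_9 j (by omega) (by omega)
  clear h1
  have h1 := g
  clear g
  rcases Nat.lt_or_ge j 143616 with g | g
  · exact ptOK_of_chk 143360 256 c_w_11_10 j (by omega) (by omega)
  clear h1
  have h1 := g
  clear g
  rcases Nat.lt_or_ge j 143872 with g | g
  · exact ptOK_of_chk 143616 256 c_w_11_11 j (by omega) (by omega)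
  clear h1
  have h1 := g
  clear g
  rcases Nat.lt_or_ge j 144128 with g | g
  · exact ptOK_of_chk 143872 256 c_w_11_12 j (by omega) (by omega)
  clear h1
  have h1 := g
  clear g
  rcases Nat.lt_or_ge j 144384 with g | g
  · exact ptOK_of_chk 144128 256 c_w_11_13 j (by omega) (by omega)
  clear h1
  have h1 := g
  clear g
  rcases Nat.lt_or_ge j 144640 with g | g
  · exact ptOK_of_chk 144384 256 c_w_11_14 j (by omega) (by omega)
  clear h1
  have h1 := g
  clear g
  rcases Nat.lt_or_ge j 144896 with g | g
  · exact ptOK_of_chk 144640 256 c_w_11_15 j (by omega) (by omega)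
  clear h1
  have h1 := g
  clear g
  rcases Nat.lt_or_ge j 145152 with g | g
  · exact ptOK_of_chk 144896 256 c_w_11_16 j (by omega) (by omega)
  clear h1
  have h1 := g
  clear g
  rcases Nat.lt_or_ge j 145408 with g | g
  · exact ptOK_of_chk 145152 256 c_w_11_17 j (by omega) (by omega)
  clear h1
  have h1 := g
  clear g
  rcases Nat.lt_or_ge j 145664 with g | g
  · exact ptOK_of_chk 145408 256 c_w_11_18 j (by omega) (by omega)
  clear h1
  have h1 := g
  clear g
  rcases Nat.lt_or_ge j 145920 with g | g
  · exact ptOK_of_chk 145664 256 c_w_11_19 j (by omega) (by omega)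
  clear h1
  have h1 := g
  clear g
  rcases Nat.lt_or_ge j 146176 with g | g
  · exact ptOK_of_chk 145920 256 c_w_11_20 j (by omega) (by omega)
  clear h1
  have h1 := g
  clear g
  rcases Nat.lt_or_ge j 146432 with g | g
  · exact ptOK_of_chk 146176 256 c_w_11_21 j (by omega) (by omega)
  clear h1
  have h1 := g
  clear g
  rcases Nat.lt_or_ge j 146688 with g | g
  · exact ptOK_of_chk 146432 256 c_w_11_22 j (by omega) (by omega)
  clear h1
  have h1 := g
  clear g
  rcases Nat.lt_or_ge j 146944 with g | g
  · exact ptOK_of_chk 146688 256 c_w_11_23 j (by omega) (by omega)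
  clear h1
  have h1 := g
  clear g
  rcases Nat.lt_or_ge j 147200 with g | g
  · exact ptOK_of_chk 146944 256 c_w_11_24 j (by omega) (by omega)
  clear h1
  have h1 := g
  clear g
  rcases Nat.lt_or_ge j 147456 with g | g
  · exact ptOK_of_chk 147200 256 c_w_11_25 j (by omega) (by omega)
  clear h1
  have h1 := g
  clear g
  rcases Nat.lt_or_ge j 147712 with g | g
  · exact ptOK_of_chk 147456 256 c_w_11_26 j (by omega) (by omega)
  clear h1
  have h1 := g
  clear g
  rcases Nat.lt_or_ge j 147968 with g | g
  · exact ptOK_of_chk 147712 256 c_w_11_27 j (by omega) (by omega)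
  clear h1
  have h1 := g
  clear g
  rcases Nat.lt_or_ge j 148224 with g | g
  · exact ptOK_of_chk 147968 256 c_w_11_28 j (by omega) (by omega)
  clear h1
  have h1 := g
  clear g
  rcases Nat.lt_or_ge j 148480 with g | g
  · exact ptOK_of_chk 148224 256 c_w_11_29 j (by omega) (by omega)
  clear h1
  have h1 := g
  clear g
  rcases Nat.lt_or_ge j 148736 with g | g
  · exact ptOK_of_chk 148480 256 c_w_11_30 j (by omega) (by omega)
  clear h1
  have h1 := g
  clear g
  rcases Nat.lt_or_ge j 148992 with g | g
  · exact ptOK_of_chk 148736 256 c_w_11_31 j (by omega) (by omega)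
  clear h1
  have h1 := g
  clear g
  rcases Nat.lt_or_ge j 149248 with g | g
  · exact ptOK_of_chk 148992 256 c_w_11_32 j (by omega) (by omega)
  clear h1
  have h1 := g
  clear g
  rcases Nat.lt_or_ge j 149504 with g | g
  · exact ptOK_of_chk 149248 256 c_w_11_33 j (by omega) (by omega)
  clear h1
  have h1 := g
  clear g
  rcases Nat.lt_or_ge j 149760 with g | g
  · exact ptOK_of_chk 149504 256 c_w_11_34 j (by omega) (by omega)
  clear h1
  have h1 := g
  clear g
  rcases Nat.lt_or_ge j 150016 with g | g
  · exact ptOK_of_chk 149760 256 c_w_11_35 j (by omega) (by omega)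
  clear h1
  have h1 := g
  clear g
  rcases Nat.lt_or_ge j 150272 with g | g
  · exact ptOK_of_chk 150016 256 c_w_11_36 j (by omega) (by omega)
  clear h1
  have h1 := g
  clear g
  rcases Nat.lt_or_ge j 150528 with g | g
  · exact ptOK_of_chk 150272 256 c_w_11_37 j (by omega) (by omega)
  clear h1
  have h1 := g
  clear g
  rcases Nat.lt_or_ge j 150784 with g | g
  · exact ptOK_of_chk 150528 256 c_w_11_38 j (by omega) (by omega)
  clear h1
  have h1 := g
  clear g
  rcases Nat.lt_or_ge j 151040 with g | g
  · exact ptOK_of_chk 150784 256 c_w_11_39 j (by omega) (by omega)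
  clear h1
  have h1 := g
  clear g
  rcases Nat.lt_or_ge j 151296 with g | g
  · exact ptOK_of_chk 151040 256 c_w_11_40 j (by omega) (by omega)
  clear h1
  have h1 := g
  clear g
  rcases Nat.lt_or_ge j 151552 with g | g
  · exact ptOK_of_chk 151296 256 c_w_11_41 j (by omega) (by omega)
  clear h1
  have h1 := g
  clear g
  rcases Nat.lt_or_ge j 151808 with g | g
  · exact ptOK_of_chk 151552 256 c_w_11_42 j (by omega) (by omega)
  clear h1
  have h1 := g
  clear g
  rcases Nat.lt_or_ge j 152064 with g | g
  · exact ptOK_of_chk 151808 256 c_w_11_43 j (by omega) (by omega)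
  clear h1
  have h1 := g
  clear g
  rcases Nat.lt_or_ge j 152320 with g | g
  · exact ptOK_of_chk 152064 256 c_w_11_44 j (by omega) (by omega)
  clear h1
  have h1 := g
  clear g
  rcases Nat.lt_or_ge j 152576 with g | g
  · exact ptOK_of_chk 152320 256 c_w_11_45 j (by omega) (by omega)
  clear h1
  have h1 := g
  clear g
  rcases Nat.lt_or_ge j 152832 with g | g
  · exact ptOK_of_chk 152576 256 c_w_11_46 j (by omega) (by omega)
  clear h1
  have h1 := g
  clear g
  rcases Nat.lt_or_ge j 153088 with g | g
  · exact ptOK_of_chk 152832 256 c_w_11_47 j (by omega) (by omega)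
  clear h1
  have h1 := g
  clear g
  rcases Nat.lt_or_ge j 153344 with g | g
  · exact ptOK_of_chk 153088 256 c_w_11_48 j (by omega) (by omega)
  clear h1
  have h1 := g
  clear g
  exact ptOK_of_chk 153344 256 c_w_11_49 j (by omega) (by omega)

end Cfsg.Agent.Lib.Helper4.F24M
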