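import Cfsg.Agent.Lib.Helper4.F24M.PtOK
set_option autoImplicit false
set_option maxRecDepth 1000000
set_option Elab.async false

/-! # The checks of the tables of the triple cover of the Fischer group at the points from 153600 to 166399 -/

namespace Cfsg.Agent.Lib.Helper4.F24M
open Cfsg.Agent.Lib.Helper4.TCov

theorem c_w_12_0 : chkPtRange 3 920808 MLF MCF WLF 153600 256 = true := by decide +kernel
theorem c_w_12_1 : chkPtRange 3 920808 MLF MCF WLF 153856 256 = true := by decide +kernel
theorem c_w_12_2 : chkPtRange 3 920808 MLF MCF WLF 154112 256 = true := by decide +kernel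
theorem c_w_12_3 : chkPtRange 3 920808 MLF MCF WLF 154368 256 = true := by decide +kernel
theorem c_w_12_4 : chkPtRange 3 920808 MLF MCF WLF 154624 256 = true := by decide +kernel
theorem c_w_12_5 : chkPtRange 3 920808 MLF MCF WLF 154880 256 = true := by decide +kernel
theorem c_w_12_6 : chkPtRange 3 920808 MLF MCF WLF 155136 256 = true := by decide +kernel
theorem c_w_12_7 : chkPtRange 3 920808 MLF MCF WLF 155392 256 = true := by decide +kernel
theorem c_w_12_8 : chkPtRange 3 920808 MLF MCF WLF 155648 256 = true := by decide +kernel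
theorem c_w_12_9 : chkPtRange 3 920808 MLF MCF WLF 155904 256 = true := by decide +kernel
theorem c_w_12_10 : chkPtRange 3 920808 MLF MCF WLF 156160 256 = true := by decide +kernel
theorem c_w_12_11 : chkPtRange 3 920808 MLF MCF WLF 156416 256 = true := by decide +kernel
theorem c_w_12_12 : chkPtRange 3 920808 MLF MCF WLF 156672 256 = true := by decide +kernel
theorem c_w_12_13 : chkPtRange 3 920808 MLF MCF WLF 156928 256 = true := by decide +kernel
theorem c_w_12_14 : chkPtRange 3 920808 MLF MCF WLF 157184 256 = true := by decide +kernel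
theorem c_w_12_15 : chkPtRange 3 920808 MLF MCF WLF 157440 256 = true := by decide +kernel
theorem c_w_12_16 : chkPtRange 3 920808 MLF MCF WLF 157696 256 = true := by decide +kernel
theorem c_w_12_17 : chkPtRange 3 920808 MLF MCF WLF 157952 256 = true := by decide +kernel
theorem c_w_12_18 : chkPtRange 3 920808 MLF MCF WLF 158208 256 = true := by decide +kernel
theorem c_w_12_19 : chkPtRange 3 920808 MLF MCF WLF 158464 256 = true := by decide +kernel
theorem c_w_12_20 : chkPtRange 3 920808 MLF MCF WLF 158720 256 = true := by decide +kernel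
theorem c_w_12_21 : chkPtRange 3 920808 MLF MCF WLF 158976 256 = true := by decide +kernel
theorem c_w_12_22 : chkPtRange 3 920808 MLF MCF WLF 159232 256 = true := by decide +kernel
theorem c_w_12_23 : chkPtRange 3 920808 MLF MCF WLF 159488 256 = true := by decide +kernel
theorem c_w_12_24 : chkPtRange 3 920808 MLF MCF WLF 159744 256 = true := by decide +kernel
theorem c_w_12_25 : chkPtRange 3 920808 MLF MCF WLF 160000 256 = true := by decide +kernel
theorem c_w_12_26 : chkPtRange 3 920808 MLF MCF WLF 160256 256 = true := by decide +kernel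
theorem c_w_12_27 : chkPtRange 3 920808 MLF MCF WLF 160512 256 = true := by decide +kernel
theorem c_w_12_28 : chkPtRange 3 920808 MLF MCF WLF 160768 256 = true := by decide +kernel
theorem c_w_12_29 : chkPtRange 3 920808 MLF MCF WLF 161024 256 = true := by decide +kernel
theorem c_w_12_30 : chkPtRange 3 920808 MLF MCF WLF 161280 256 = true := by decide +kernel
theorem c_w_12_31 : chkPtRange 3 920808 MLF MCF WLF 161536 256 = true := by decide +kernel
theorem c_w_12_32 : chkPtRange 3 920808 MLF MCF WLF 161792 256 = true := by decide +kernel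
theorem c_w_12_33 : chkPtRange 3 920808 MLF MCF WLF 162048 256 = true := by decide +kernel
theorem c_w_12_34 : chkPtRange 3 920808 MLF MCF WLF 162304 256 = true := by decide +kernel
theorem c_w_12_35 : chkPtRange 3 920808 MLF MCF WLF 162560 256 = true := by decide +kernel
theorem c_w_12_36 : chkPtRange 3 920808 MLF MCF WLF 162816 256 = true := by decide +kernel
theorem c_w_12_37 : chkPtRange 3 920808 MLF MCF WLF 163072 256 = true := by decide +kernel
theorem c_w_12_38 : chkPtRange 3 920808 MLF MCF WLF 163328 256 = true := by decide +kernel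
theorem c_w_12_39 : chkPtRange 3 920808 MLF MCF WLF 163584 256 = true := by decide +kernel
theorem c_w_12_40 : chkPtRange 3 920808 MLF MCF WLF 163840 256 = true := by decide +kernel
theorem c_w_12_41 : chkPtRange 3 920808 MLF MCF WLF 164096 256 = true := by decide +kernel
theorem c_w_12_42 : chkPtRange 3 920808 MLF MCF WLF 164352 256 = true := by decide +kernel
theorem c_w_12_43 : chkPtRange 3 920808 MLF MCF WLF 164608 256 = true := by decide +kernel
theorem c_w_12_44 : chkPtRange 3 920808 MLF MCF WLF 164864 256 = true := by decide +kernel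
theorem c_w_12_45 : chkPtRange 3 920808 MLF MCF WLF 165120 256 = true := by decide +kernel
theorem c_w_12_46 : chkPtRange 3 920808 MLF MCF WLF 165376 256 = true := by decide +kernel
theorem c_w_12_47 : chkPtRange 3 920808 MLF MCF WLF 165632 256 = true := by decide +kernel
theorem c_w_12_48 : chkPtRange 3 920808 MLF MCF WLF 165888 256 = true := by decide +kernel
theorem c_w_12_49 : chkPtRange 3 920808 MLF MCF WLF 166144 256 = true := by decide +kernel

theorem ptOK_12 (j : ℕ) (h1 : 153600 ≤ j) (h2 : j < 166400) : PtOK j := by
  rcases Nat.lt_or_ge j 153856 with g | g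
  · exact ptOK_of_chk 153600 256 c_w_12_0 j (by omega) (by omega)
  clear h1
  have h1 := g
  clear g
  rcases Nat.lt_or_ge j 154112 with g | g
  · exact ptOK_of_chk 153856 256 c_w_12_1 j (by omega) (by omega)
  clear h1
  have h1 := g
  clear g
  rcases Nat.lt_or_ge j 154368 with g | g
  · exact ptOK_of_chk 154112 256 c_w_12_2 j (by omega) (by omega)
  clear h1
  have h1 := g
  clear g
  rcases Nat.lt_or_ge j 154624 with g | g
  · exact ptOK_of_chk 154368 256 c_w_12_3 j (by omega) (by omega)
  clear h1
  have h1 := g
  clear g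
  rcases Nat.lt_or_ge j 154880 with g | g
  · exact ptOK_of_chk 154624 256 c_w_12_4 j (by omega) (by omega)
  clear h1
  have h1 := g
  clear g
  rcases Nat.lt_or_ge j 155136 with g | g
  · exact ptOK_of_chk 154880 256 c_w_12_5 j (by omega) (by omega)
  clear h1
  have h1 := g
  clear g
  rcases Nat.lt_or_ge j 155392 with g | g
  · exact ptOK_of_chk 155136 256 c_w_12_6 j (by omega) (by omega)
  clear h1
  have h1 := g
  clear g
  rcases Nat.lt_or_ge j 155648 with g | g
  · exact ptOK_of_chk 155392 256 c_w_12_7 j (by omega) (by omega)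
  clear h1
  have h1 := g
  clear g
  rcases Nat.lt_or_ge j 155904 with g | g
  · exact ptOK_of_chk 155648 256 c_w_12_8 j (by omega) (by omega)
  clear h1
  have h1 := g
  clear g
  rcases Nat.lt_or_ge j 156160 with g | g
  · exact ptOK_of_chk 155904 256 c_w_12_9 j (by omega) (by omega)
  clear h1
  have h1 := g
  clear g
  rcases Nat.lt_or_ge j 156416 with g | g
  · exact ptOK_of_chk 156160 256 c_w_12_10 j (by omega) (by omega)
  clear h1
  have h1 := g
  clear g
  rcases Nat.lt_or_ge j 156672 with g | g
  · exact ptOK_of_chk 156416 256 c_w_12_11 j (by omega) (by omega)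
  clear h1
  have h1 := g
  clear g
  rcases Nat.lt_or_ge j 156928 with g | g
  · exact ptOK_of_chk 156672 256 c_w_12_12 j (by omega) (by omega)
  clear h1
  have h1 := g
  clear g
  rcases Nat.lt_or_ge j 157184 with g | g
  · exact ptOK_of_chk 156928 256 c_w_12_13 j (by omega) (by omega)
  clear h1
  have h1 := g
  clear g
  rcases Nat.lt_or_ge j 157440 with g | g
  · exact ptOK_of_chk 157184 256 c_w_12_14 j (by omega) (by omega)
  clear h1
  have h1 := g
  clear g
  rcases Nat.lt_or_ge j 157696 with g | g
  · exact ptOK_of_chk 157440 256 c_w_12_15 j (by omega) (by omega)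
  clear h1
  have h1 := g
  clear g
  rcases Nat.lt_or_ge j 157952 with g | g
  · exact ptOK_of_chk 157696 256 c_w_12_16 j (by omega) (by omega)
  clear h1
  have h1 := g
  clear g
  rcases Nat.lt_or_ge j 158208 with g | g
  · exact ptOK_of_chk 157952 256 c_w_12_17 j (by omega) (by omega)
  clear h1
  have h1 := g
  clear g
  rcases Nat.lt_or_ge j 158464 with g | g
  · exact ptOK_of_chk 158208 256 c_w_12_18 j (by omega) (by omega)
  clear h1
  have h1 := g
  clear g
  rcases Nat.lt_or_ge j 158720 with g | g
  · exact ptOK_of_chk 158464 256 c_w_12_19 j (by omega) (by omega)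
  clear h1
  have h1 := g
  clear g
  rcases Nat.lt_or_ge j 158976 with g | g
  · exact ptOK_of_chk 158720 256 c_w_12_20 j (by omega) (by omega)
  clear h1
  have h1 := g
  clear g
  rcases Nat.lt_or_ge j 159232 with g | g
  · exact ptOK_of_chk 158976 256 c_w_12_21 j (by omega) (by omega)
  clear h1
  have h1 := g
  clear g
  rcases Nat.lt_or_ge j 159488 with g | g
  · exact ptOK_of_chk 159232 256 c_w_12_22 j (by omega) (by omega)
  clear h1
  have h1 := g
  clear g
  rcases Nat.lt_or_ge j 159744 with g | g
  · exact ptOK_of_chk 159488 256 c_w_12_23 j (by omega) (by omega)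
  clear h1
  have h1 := g
  clear g
  rcases Nat.lt_or_ge j 160000 with g | g
  · exact ptOK_of_chk 159744 256 c_w_12_24 j (by omega) (by omega)
  clear h1
  have h1 := g
  clear g
  rcases Nat.lt_or_ge j 160256 with g | g
  · exact ptOK_of_chk 160000 256 c_w_12_25 j (by omega) (by omega)
  clear h1
  have h1 := g
  clear g
  rcases Nat.lt_or_ge j 160512 with g | g
  · exact ptOK_of_chk 160256 256 c_w_12_26 j (by omega) (by omega)
  clear h1
  have h1 := g
  clear g
  rcases Nat.lt_or_ge j 160768 with g | g
  · exact ptOK_of_chk 160512 256 c_w_12_27 j (by omega) (by omega)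
  clear h1
  have h1 := g
  clear g
  rcases Nat.lt_or_ge j 161024 with g | g
  · exact ptOK_of_chk 160768 256 c_w_12_28 j (by omega) (by omega)
  clear h1
  have h1 := g
  clear g
  rcases Nat.lt_or_ge j 161280 with g | g
  · exact ptOK_of_chk 161024 256 c_w_12_29 j (by omega) (by omega)
  clear h1
  have h1 := g
  clear g
  rcases Nat.lt_or_ge j 161536 with g | g
  · exact ptOK_of_chk 161280 256 c_w_12_30 j (by omega) (by omega)
  clear h1
  have h1 := g
  clear g
  rcases Nat.lt_or_ge j 161792 with g | g
  · exact ptOK_of_chk 161536 256 c_w_12_31 j (by omega) (by omega)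
  clear h1
  have h1 := g
  clear g
  rcases Nat.lt_or_ge j 162048 with g | g
  · exact ptOK_of_chk 161792 256 c_w_12_32 j (by omega) (by omega)
  clear h1
  have h1 := g
  clear g
  rcases Nat.lt_or_ge j 162304 with g | g
  · exact ptOK_of_chk 162048 256 c_w_12_33 j (by omega) (by omega)
  clear h1
  have h1 := g
  clear g
  rcases Nat.lt_or_ge j 162560 with g | g
  · exact ptOK_of_chk 162304 256 c_w_12_34 j (by omega) (by omega)
  clear h1
  have h1 := g
  clear g
  rcases Nat.lt_or_ge j 162816 with g | g
  · exact ptOK_of_chk 162560 256 c_w_12_35 j (by omega) (by omega)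
  clear h1
  have h1 := g
  clear g
  rcases Nat.lt_or_ge j 163072 with g | g
  · exact ptOK_of_chk 162816 256 c_w_12_36 j (by omega) (by omega)
  clear h1
  have h1 := g
  clear g
  rcases Nat.lt_or_ge j 163328 with g | g
  · exact ptOK_of_chk 163072 256 c_w_12_37 j (by omega) (by omega)
  clear h1
  have h1 := g
  clear g
  rcases Nat.lt_or_ge j 163584 with g | g
  · exact ptOK_of_chk 163328 256 c_w_12_38 j (by omega) (by omega)
  clear h1
  have h1 := g
  clear g
  rcases Nat.lt_or_ge j 163840 with g | g
  · exact ptOK_of_chk 163584 256 c_w_12_39 j (by omega) (by omega)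
  clear h1
  have h1 := g
  clear g
  rcases Nat.lt_or_ge j 164096 with g | g
  · exact ptOK_of_chk 163840 256 c_w_12_40 j (by omega) (by omega)
  clear h1
  have h1 := g
  clear g
  rcases Nat.lt_or_ge j 164352 with g | g
  · exact ptOK_of_chk 164096 256 c_w_12_41 j (by omega) (by omega)
  clear h1
  have h1 := g
  clear g
  rcases Nat.lt_or_ge j 164608 with g | g
  · exact ptOK_of_chk 164352 256 c_w_12_42 j (by omega) (by omega)
  clear h1
  have h1 := g
  clear g
  rcases Nat.lt_or_ge j 164864 with g | g
  · exact ptOK_of_chk 164608 256 c_w_12_43 j (by omega) (by omega)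
  clear h1
  have h1 := g
  clear g
  rcases Nat.lt_or_ge j 165120 with g | g
  · exact ptOK_of_chk 164864 256 c_w_12_44 j (by omega) (by omega)
  clear h1
  have h1 := g
  clear g
  rcases Nat.lt_or_ge j 165376 with g | g
  · exact ptOK_of_chk 165120 256 c_w_12_45 j (by omega) (by omega)
  clear h1
  have h1 := g
  clear g
  rcases Nat.lt_or_ge j 165632 with g | g
  · exact ptOK_of_chk 165376 256 c_w_12_46 j (by omega) (by omega)
  clear h1
  have h1 := g
  clear g
  rcases Nat.lt_or_ge j 165888 with g | g
  · exact ptOK_of_chk 165632 256 c_w_12_47 j (by omega) (by omega)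
  clear h1
  have h1 := g
  clear g
  rcases Nat.lt_or_ge j 166144 with g | g
  · exact ptOK_of_chk 165888 256 c_w_12_48 j (by omega) (by omega)
  clear h1
  have h1 := g
  clear g
  exact ptOK_of_chk 166144 256 c_w_12_49 j (by omega) (by omega)

end Cfsg.Agent.Lib.Helper4.F24M
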