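import Cfsg.Agent.Lib.Helper4.F24M.PtOK
set_option autoImplicit false
set_option maxRecDepth 1000000
set_option Elab.async false

/-! # The checks of the tables of the triple cover of the Fischer group at the points from 166400 to 179199 -/

namespace Cfsg.Agent.Lib.Helper4.F24M
open Cfsg.Agent.Lib.Helper4.TCov

theorem c_w_13_0 : chkPtRange 3 920808 MLF MCF WLF 166400 256 = true := by decide +kernel
theorem c_w_13_1 : chkPtRange 3 920808 MLF MCF WLF 166656 256 = true := by decide +kernel
theorem c_w_13_2 : chkPtRange 3 920808 MLF MCF WLF 166912 256 = true := by decide +kernel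
theorem c_w_13_3 : chkPtRange 3 920808 MLF MCF WLF 167168 256 = true := by decide +kernel
theorem c_w_13_4 : chkPtRange 3 920808 MLF MCF WLF 167424 256 = true := by decide +kernel
theorem c_w_13_5 : chkPtRange 3 920808 MLF MCF WLF 167680 256 = true := by decide +kernel
theorem c_w_13_6 : chkPtRange 3 920808 MLF MCF WLF 167936 256 = true := by decide +kernel
theorem c_w_13_7 : chkPtRange 3 920808 MLF MCF WLF 168192 256 = true := by decide +kernel
theorem c_w_13_8 : chkPtRange 3 920808 MLF MCF WLF 168448 256 = true := by decide +kernel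
theorem c_w_13_9 : chkPtRange 3 920808 MLF MCF WLF 168704 256 = true := by decide +kernel
theorem c_w_13_10 : chkPtRange 3 920808 MLF MCF WLF 168960 256 = true := by decide +kernel
theorem c_w_13_11 : chkPtRange 3 920808 MLF MCF WLF 169216 256 = true := by decide +kernel
theorem c_w_13_12 : chkPtRange 3 920808 MLF MCF WLF 169472 256 = true := by decide +kernel
theorem c_w_13_13 : chkPtRange 3 920808 MLF MCF WLF 169728 256 = true := by decide +kernel
theorem c_w_13_14 : chkPtRange 3 920808 MLF MCF WLF 169984 256 = true := by decide +kernel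
theorem c_w_13_15 : chkPtRange 3 920808 MLF MCF WLF 170240 256 = true := by decide +kernel
theorem c_w_13_16 : chkPtRange 3 920808 MLF MCF WLF 170496 256 = true := by decide +kernel
theorem c_w_13_17 : chkPtRange 3 920808 MLF MCF WLF 170752 256 = true := by decide +kernel
theorem c_w_13_18 : chkPtRange 3 920808 MLF MCF WLF 171008 256 = true := by decide +kernel
theorem c_w_13_19 : chkPtRange 3 920808 MLF MCF WLF 171264 256 = true := by decide +kernel
theorem c_w_13_20 : chkPtRange 3 920808 MLF MCF WLF 171520 256 = true := by decide +kernel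
theorem c_w_13_21 : chkPtRange 3 920808 MLF MCF WLF 171776 256 = true := by decide +kernel
theorem c_w_13_22 : chkPtRange 3 920808 MLF MCF WLF 172032 256 = true := by decide +kernel
theorem c_w_13_23 : chkPtRange 3 920808 MLF MCF WLF 172288 256 = true := by decide +kernel
theorem c_w_13_24 : chkPtRange 3 920808 MLF MCF WLF 172544 256 = true := by decide +kernel
theorem c_w_13_25 : chkPtRange 3 920808 MLF MCF WLF 172800 256 = true := by decide +kernel
theorem c_w_13_26 : chkPtRange 3 920808 MLF MCF WLF 173056 256 = true := by decide +kernel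
theorem c_w_13_27 : chkPtRange 3 920808 MLF MCF WLF 173312 256 = true := by decide +kernel
theorem c_w_13_28 : chkPtRange 3 920808 MLF MCF WLF 173568 256 = true := by decide +kernel
theorem c_w_13_29 : chkPtRange 3 920808 MLF MCF WLF 173824 256 = true := by decide +kernel
theorem c_w_13_30 : chkPtRange 3 920808 MLF MCF WLF 174080 256 = true := by decide +kernel
theorem c_w_13_31 : chkPtRange 3 920808 MLF MCF WLF 174336 256 = true := by decide +kernel
theorem c_w_13_32 : chkPtRange 3 920808 MLF MCF WLF 174592 256 = true := by decide +kernel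
theorem c_w_13_33 : chkPtRange 3 920808 MLF MCF WLF 174848 256 = true := by decide +kernel
theorem c_w_13_34 : chkPtRange 3 920808 MLF MCF WLF 175104 256 = true := by decide +kernel
theorem c_w_13_35 : chkPtRange 3 920808 MLF MCF WLF 175360 256 = true := by decide +kernel
theorem c_w_13_36 : chkPtRange 3 920808 MLF MCF WLF 175616 256 = true := by decide +kernel
theorem c_w_13_37 : chkPtRange 3 920808 MLF MCF WLF 175872 256 = true := by decide +kernel
theorem c_w_13_38 : chkPtRange 3 920808 MLF MCF WLF 176128 256 = true := by decide +kernel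
theorem c_w_13_39 : chkPtRange 3 920808 MLF MCF WLF 176384 256 = true := by decide +kernel
theorem c_w_13_40 : chkPtRange 3 920808 MLF MCF WLF 176640 256 = true := by decide +kernel
theorem c_w_13_41 : chkPtRange 3 920808 MLF MCF WLF 176896 256 = true := by decide +kernel
theorem c_w_13_42 : chkPtRange 3 920808 MLF MCF WLF 177152 256 = true := by decide +kernel
theorem c_w_13_43 : chkPtRange 3 920808 MLF MCF WLF 177408 256 = true := by decide +kernel
theorem c_w_13_44 : chkPtRange 3 920808 MLF MCF WLF 177664 256 = true := by decide +kernel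
theorem c_w_13_45 : chkPtRange 3 920808 MLF MCF WLF 177920 256 = true := by decide +kernel
theorem c_w_13_46 : chkPtRange 3 920808 MLF MCF WLF 178176 256 = true := by decide +kernel
theorem c_w_13_47 : chkPtRange 3 920808 MLF MCF WLF 178432 256 = true := by decide +kernel
theorem c_w_13_48 : chkPtRange 3 920808 MLF MCF WLF 178688 256 = true := by decide +kernel
theorem c_w_13_49 : chkPtRange 3 920808 MLF MCF WLF 178944 256 = true := by decide +kernel

theorem ptOK_13 (j : ℕ) (h1 : 166400 ≤ j) (h2 : j < 179200) : PtOK j := by
  rcases Nat.lt_or_ge j 166656 with g | g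
  · exact ptOK_of_chk 166400 256 c_w_13_0 j (by omega) (by omega)
  clear h1
  have h1 := g
  clear g
  rcases Nat.lt_or_ge j 166912 with g | g
  · exact ptOK_of_chk 166656 256 c_w_13_1 j (by omega) (by omega)
  clear h1
  have h1 := g
  clear g
  rcases Nat.lt_or_ge j 167168 with g | g
  · exact ptOK_of_chk 166912 256 c_w_13_2 j (by omega) (by omega)
  clear h1
  have h1 := g
  clear g
  rcases Nat.lt_or_ge j 167424 with g | g
  · exact ptOK_of_chk 167168 256 c_w_13_3 j (by omega) (by omega)
  clear h1
  have h1 := g
  clear g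
  rcases Nat.lt_or_ge j 167680 with g | g
  · exact ptOK_of_chk 167424 256 c_w_13_4 j (by omega) (by omega)
  clear h1
  have h1 := g
  clear g
  rcases Nat.lt_or_ge j 167936 with g | g
  · exact ptOK_of_chk 167680 256 c_w_13_5 j (by omega) (by omega)
  clear h1
  have h1 := g
  clear g
  rcases Nat.lt_or_ge j 168192 with g | g
  · exact ptOK_of_chk 167936 256 c_w_13_6 j (by omega) (by omega)
  clear h1
  have h1 := g
  clear g
  rcases Nat.lt_or_ge j 168448 with g | g
  · exact ptOK_of_chk 168192 256 c_w_13_7 j (by omega) (by omega)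
  clear h1
  have h1 := g
  clear g
  rcases Nat.lt_or_ge j 168704 with g | g
  · exact ptOK_of_chk 168448 256 c_w_13_8 j (by omega) (by omega)
  clear h1
  have h1 := g
  clear g
  rcases Nat.lt_or_ge j 168960 with g | g
  · exact ptOK_of_chk 168704 256 c_w_13_9 j (by omega) (by omega)
  clear h1
  have h1 := g
  clear g
  rcases Nat.lt_or_ge j 169216 with g | g
  · exact ptOK_of_chk 168960 256 c_w_13_10 j (by omega) (by omega)
  clear h1
  have h1 := g
  clear g
  rcases Nat.lt_or_ge j 169472 with g | g
  · exact ptOK_of_chk 169216 256 c_w_13_11 j (by omega) (by omega)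
  clear h1
  have h1 := g
  clear g
  rcases Nat.lt_or_ge j 169728 with g | g
  · exact ptOK_of_chk 169472 256 c_w_13_12 j (by omega) (by omega)
  clear h1
  have h1 := g
  clear g
  rcases Nat.lt_or_ge j 169984 with g | g
  · exact ptOK_of_chk 169728 256 c_w_13_13 j (by omega) (by omega)
  clear h1
  have h1 := g
  clear g
  rcases Nat.lt_or_ge j 170240 with g | g
  · exact ptOK_of_chk 169984 256 c_w_13_14 j (by omega) (by omega)
  clear h1
  have h1 := g
  clear g
  rcases Nat.lt_or_ge j 170496 with g | g
  · exact ptOK_of_chk 170240 256 c_w_13_15 j (by omega) (by omega)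
  clear h1
  have h1 := g
  clear g
  rcases Nat.lt_or_ge j 170752 with g | g
  · exact ptOK_of_chk 170496 256 c_w_13_16 j (by omega) (by omega)
  clear h1
  have h1 := g
  clear g
  rcases Nat.lt_or_ge j 171008 with g | g
  · exact ptOK_of_chk 170752 256 c_w_13_17 j (by omega) (by omega)
  clear h1
  have h1 := g
  clear g
  rcases Nat.lt_or_ge j 171264 with g | g
  · exact ptOK_of_chk 171008 256 c_w_13_18 j (by omega) (by omega)
  clear h1
  have h1 := g
  clear g
  rcases Nat.lt_or_ge j 171520 with g | g
  · exact ptOK_of_chk 171264 256 c_w_13_19 j (by omega) (by omega)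
  clear h1
  have h1 := g
  clear g
  rcases Nat.lt_or_ge j 171776 with g | g
  · exact ptOK_of_chk 171520 256 c_w_13_20 j (by omega) (by omega)
  clear h1
  have h1 := g
  clear g
  rcases Nat.lt_or_ge j 172032 with g | g
  · exact ptOK_of_chk 171776 256 c_w_13_21 j (by omega) (by omega)
  clear h1
  have h1 := g
  clear g
  rcases Nat.lt_or_ge j 172288 with g | g
  · exact ptOK_of_chk 172032 256 c_w_13_22 j (by omega) (by omega)
  clear h1
  have h1 := g
  clear g
  rcases Nat.lt_or_ge j 172544 with g | g
  · exact ptOK_of_chk 172288 256 c_w_13_23 j (by omega) (by omega)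
  clear h1
  have h1 := g
  clear g
  rcases Nat.lt_or_ge j 172800 with g | g
  · exact ptOK_of_chk 172544 256 c_w_13_24 j (by omega) (by omega)
  clear h1
  have h1 := g
  clear g
  rcases Nat.lt_or_ge j 173056 with g | g
  · exact ptOK_of_chk 172800 256 c_w_13_25 j (by omega) (by omega)
  clear h1
  have h1 := g
  clear g
  rcases Nat.lt_or_ge j 173312 with g | g
  · exact ptOK_of_chk 173056 256 c_w_13_26 j (by omega) (by omega)
  clear h1
  have h1 := g
  clear g
  rcases Nat.lt_or_ge j 173568 with g | g
  · exact ptOK_of_chk 173312 256 c_w_13_27 j (by omega) (by omega)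
  clear h1
  have h1 := g
  clear g
  rcases Nat.lt_or_ge j 173824 with g | g
  · exact ptOK_of_chk 173568 256 c_w_13_28 j (by omega) (by omega)
  clear h1
  have h1 := g
  clear g
  rcases Nat.lt_or_ge j 174080 with g | g
  · exact ptOK_of_chk 173824 256 c_w_13_29 j (by omega) (by omega)
  clear h1
  have h1 := g
  clear g
  rcases Nat.lt_or_ge j 174336 with g | g
  · exact ptOK_of_chk 174080 256 c_w_13_30 j (by omega) (by omega)
  clear h1
  have h1 := g
  clear g
  rcases Nat.lt_or_ge j 174592 with g | g
  · exact ptOK_of_chk 174336 256 c_w_13_31 j (by omega) (by omega)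
  clear h1
  have h1 := g
  clear g
  rcases Nat.lt_or_ge j 174848 with g | g
  · exact ptOK_of_chk 174592 256 c_w_13_32 j (by omega) (by omega)
  clear h1
  have h1 := g
  clear g
  rcases Nat.lt_or_ge j 175104 with g | g
  · exact ptOK_of_chk 174848 256 c_w_13_33 j (by omega) (by omega)
  clear h1
  have h1 := g
  clear g
  rcases Nat.lt_or_ge j 175360 with g | g
  · exact ptOK_of_chk 175104 256 c_w_13_34 j (by omega) (by omega)
  clear h1
  have h1 := g
  clear g
  rcases Nat.lt_or_ge j 175616 with g | g
  · exact ptOK_of_chk 175360 256 c_w_13_35 j (by omega) (by omega)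
  clear h1
  have h1 := g
  clear g
  rcases Nat.lt_or_ge j 175872 with g | g
  · exact ptOK_of_chk 175616 256 c_w_13_36 j (by omega) (by omega)
  clear h1
  have h1 := g
  clear g
  rcases Nat.lt_or_ge j 176128 with g | g
  · exact ptOK_of_chk 175872 256 c_w_13_37 j (by omega) (by omega)
  clear h1
  have h1 := g
  clear g
  rcases Nat.lt_or_ge j 176384 with g | g
  · exact ptOK_of_chk 176128 256 c_w_13_38 j (by omega) (by omega)
  clear h1
  have h1 := g
  clear g
  rcases Nat.lt_or_ge j 176640 with g | g
  · exact ptOK_of_chk 176384 256 c_w_13_39 j (by omega) (by omega)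
  clear h1
  have h1 := g
  clear g
  rcases Nat.lt_or_ge j 176896 with g | g
  · exact ptOK_of_chk 176640 256 c_w_13_40 j (by omega) (by omega)
  clear h1
  have h1 := g
  clear g
  rcases Nat.lt_or_ge j 177152 with g | g
  · exact ptOK_of_chk 176896 256 c_w_13_41 j (by omega) (by omega)
  clear h1
  have h1 := g
  clear g
  rcases Nat.lt_or_ge j 177408 with g | g
  · exact ptOK_of_chk 177152 256 c_w_13_42 j (by omega) (by omega)
  clear h1
  have h1 := g
  clear g
  rcases Nat.lt_or_ge j 177664 with g | g
  · exact ptOK_of_chk 177408 256 c_w_13_43 j (by omega) (by omega)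
  clear h1
  have h1 := g
  clear g
  rcases Nat.lt_or_ge j 177920 with g | g
  · exact ptOK_of_chk 177664 256 c_w_13_44 j (by omega) (by omega)
  clear h1
  have h1 := g
  clear g
  rcases Nat.lt_or_ge j 178176 with g | g
  · exact ptOK_of_chk 177920 256 c_w_13_45 j (by omega) (by omega)
  clear h1
  have h1 := g
  clear g
  rcases Nat.lt_or_ge j 178432 with g | g
  · exact ptOK_of_chk 178176 256 c_w_13_46 j (by omega) (by omega)
  clear h1
  have h1 := g
  clear g
  rcases Nat.lt_or_ge j 178688 with g | g
  · exact ptOK_of_chk 178432 256 c_w_13_47 j (by omega) (by omega)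
  clear h1
  have h1 := g
  clear g
  rcases Nat.lt_or_ge j 178944 with g | g
  · exact ptOK_of_chk 178688 256 c_w_13_48 j (by omega) (by omega)
  clear h1
  have h1 := g
  clear g
  exact ptOK_of_chk 178944 256 c_w_13_49 j (by omega) (by omega)

end Cfsg.Agent.Lib.Helper4.F24M
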