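import Cfsg.Agent.Lib.Helper4.F24M.PtOK
set_option autoImplicit false
set_option maxRecDepth 1000000
set_option Elab.async false

/-! # The checks of the tables of the triple cover of the Fischer group at the points from 179200 to 191999 -/

namespace Cfsg.Agent.Lib.Helper4.F24M
open Cfsg.Agent.Lib.Helper4.TCov

theorem c_w_14_0 : chkPtRange 3 920808 MLF MCF WLF 179200 256 = true := by decide +kernel
theorem c_w_14_1 : chkPtRange 3 920808 MLF MCF WLF 179456 256 = true := by decide +kernel
theorem c_w_14_2 : chkPtRange 3 920808 MLF MCF WLF 179712 256 = true := by decide +kernel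
theorem c_w_14_3 : chkPtRange 3 920808 MLF MCF WLF 179968 256 = true := by decide +kernel
theorem c_w_14_4 : chkPtRange 3 920808 MLF MCF WLF 180224 256 = true := by decide +kernel
theorem c_w_14_5 : chkPtRange 3 920808 MLF MCF WLF 180480 256 = true := by decide +kernel
theorem c_w_14_6 : chkPtRange 3 920808 MLF MCF WLF 180736 256 = true := by decide +kernel
theorem c_w_14_7 : chkPtRange 3 920808 MLF MCF WLF 180992 256 = true := by decide +kernel
theorem c_w_14_8 : chkPtRange 3 920808 MLF MCF WLF 181248 256 = true := by decide +kernel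
theorem c_w_14_9 : chkPtRange 3 920808 MLF MCF WLF 181504 256 = true := by decide +kernel
theorem c_w_14_10 : chkPtRange 3 920808 MLF MCF WLF 181760 256 = true := by decide +kernel
theorem c_w_14_11 : chkPtRange 3 920808 MLF MCF WLF 182016 256 = true := by decide +kernel
theorem c_w_14_12 : chkPtRange 3 920808 MLF MCF WLF 182272 256 = true := by decide +kernel
theorem c_w_14_13 : chkPtRange 3 920808 MLF MCF WLF 182528 256 = true := by decide +kernel
theorem c_w_14_14 : chkPtRange 3 920808 MLF MCF WLF 182784 256 = true := by decide +kernel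
theorem c_w_14_15 : chkPtRange 3 920808 MLF MCF WLF 183040 256 = true := by decide +kernel
theorem c_w_14_16 : chkPtRange 3 920808 MLF MCF WLF 183296 256 = true := by decide +kernel
theorem c_w_14_17 : chkPtRange 3 920808 MLF MCF WLF 183552 256 = true := by decide +kernel
theorem c_w_14_18 : chkPtRange 3 920808 MLF MCF WLF 183808 256 = true := by decide +kernel
theorem c_w_14_19 : chkPtRange 3 920808 MLF MCF WLF 184064 256 = true := by decide +kernel
theorem c_w_14_20 : chkPtRange 3 920808 MLF MCF WLF 184320 256 = true := by decide +kernel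
theorem c_w_14_21 : chkPtRange 3 920808 MLF MCF WLF 184576 256 = true := by decide +kernel
theorem c_w_14_22 : chkPtRange 3 920808 MLF MCF WLF 184832 256 = true := by decide +kernel
theorem c_w_14_23 : chkPtRange 3 920808 MLF MCF WLF 185088 256 = true := by decide +kernel
theorem c_w_14_24 : chkPtRange 3 920808 MLF MCF WLF 185344 256 = true := by decide +kernel
theorem c_w_14_25 : chkPtRange 3 920808 MLF MCF WLF 185600 256 = true := by decide +kernel
theorem c_w_14_26 : chkPtRange 3 920808 MLF MCF WLF 185856 256 = true := by decide +kernel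
theorem c_w_14_27 : chkPtRange 3 920808 MLF MCF WLF 186112 256 = true := by decide +kernel
theorem c_w_14_28 : chkPtRange 3 920808 MLF MCF WLF 186368 256 = true := by decide +kernel
theorem c_w_14_29 : chkPtRange 3 920808 MLF MCF WLF 186624 256 = true := by decide +kernel
theorem c_w_14_30 : chkPtRange 3 920808 MLF MCF WLF 186880 256 = true := by decide +kernel
theorem c_w_14_31 : chkPtRange 3 920808 MLF MCF WLF 187136 256 = true := by decide +kernel
theorem c_w_14_32 : chkPtRange 3 920808 MLF MCF WLF 187392 256 = true := by decide +kernel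
theorem c_w_14_33 : chkPtRange 3 920808 MLF MCF WLF 187648 256 = true := by decide +kernel
theorem c_w_14_34 : chkPtRange 3 920808 MLF MCF WLF 187904 256 = true := by decide +kernel
theorem c_w_14_35 : chkPtRange 3 920808 MLF MCF WLF 188160 256 = true := by decide +kernel
theorem c_w_14_36 : chkPtRange 3 920808 MLF MCF WLF 188416 256 = true := by decide +kernel
theorem c_w_14_37 : chkPtRange 3 920808 MLF MCF WLF 188672 256 = true := by decide +kernel
theorem c_w_14_38 : chkPtRange 3 920808 MLF MCF WLF 188928 256 = true := by decide +kernel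
theorem c_w_14_39 : chkPtRange 3 920808 MLF MCF WLF 189184 256 = true := by decide +kernel
theorem c_w_14_40 : chkPtRange 3 920808 MLF MCF WLF 189440 256 = true := by decide +kernel
theorem c_w_14_41 : chkPtRange 3 920808 MLF MCF WLF 189696 256 = true := by decide +kernel
theorem c_w_14_42 : chkPtRange 3 920808 MLF MCF WLF 189952 256 = true := by decide +kernel
theorem c_w_14_43 : chkPtRange 3 920808 MLF MCF WLF 190208 256 = true := by decide +kernel
theorem c_w_14_44 : chkPtRange 3 920808 MLF MCF WLF 190464 256 = true := by decide +kernel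
theorem c_w_14_45 : chkPtRange 3 920808 MLF MCF WLF 190720 256 = true := by decide +kernel
theorem c_w_14_46 : chkPtRange 3 920808 MLF MCF WLF 190976 256 = true := by decide +kernel
theorem c_w_14_47 : chkPtRange 3 920808 MLF MCF WLF 191232 256 = true := by decide +kernel
theorem c_w_14_48 : chkPtRange 3 920808 MLF MCF WLF 191488 256 = true := by decide +kernel
theorem c_w_14_49 : chkPtRange 3 920808 MLF MCF WLF 191744 256 = true := by decide +kernel

theorem ptOK_14 (j : ℕ) (h1 : 179200 ≤ j) (h2 : j < 192000) : PtOK j := by
  rcases Nat.lt_or_ge j 179456 with g | g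
  · exact ptOK_of_chk 179200 256 c_w_14_0 j (by omega) (by omega)
  clear h1
  have h1 := g
  clear g
  rcases Nat.lt_or_ge j 179712 with g | g
  · exact ptOK_of_chk 179456 256 c_w_14_1 j (by omega) (by omega)
  clear h1
  have h1 := g
  clear g
  rcases Nat.lt_or_ge j 179968 with g | g
  · exact ptOK_of_chk 179712 256 c_w_14_2 j (by omega) (by omega)
  clear h1
  have h1 := g
  clear g
  rcases Nat.lt_or_ge j 180224 with g | g
  · exact ptOK_of_chk 179968 256 c_w_14_3 j (by omega) (by omega)
  clear h1
  have h1 := g
  clear g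
  rcases Nat.lt_or_ge j 180480 with g | g
  · exact ptOK_of_chk 180224 256 c_w_14_4 j (by omega) (by omega)
  clear h1
  have h1 := g
  clear g
  rcases Nat.lt_or_ge j 180736 with g | g
  · exact ptOK_of_chk 180480 256 c_w_14_5 j (by omega) (by omega)
  clear h1
  have h1 := g
  clear g
  rcases Nat.lt_or_ge j 180992 with g | g
  · exact ptOK_of_chk 180736 256 c_w_14_6 j (by omega) (by omega)
  clear h1
  have h1 := g
  clear g
  rcases Nat.lt_or_ge j 181248 with g | g
  · exact ptOK_of_chk 180992 256 c_w_14_7 j (by omega) (by omega)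
  clear h1
  have h1 := g
  clear g
  rcases Nat.lt_or_ge j 181504 with g | g
  · exact ptOK_of_chk 181248 256 c_w_14_8 j (by omega) (by omega)
  clear h1
  have h1 := g
  clear g
  rcases Nat.lt_or_ge j 181760 with g | g
  · exact ptOK_of_chk 181504 256 c_w_14_9 j (by omega) (by omega)
  clear h1
  have h1 := g
  clear g
  rcases Nat.lt_or_ge j 182016 with g | g
  · exact ptOK_of_chk 181760 256 c_w_14_10 j (by omega) (by omega)
  clear h1
  have h1 := g
  clear g
  rcases Nat.lt_or_ge j 182272 with g | g
  · exact ptOK_of_chk 182016 256 c_w_14_11 j (by omega) (by omega)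
  clear h1
  have h1 := g
  clear g
  rcases Nat.lt_or_ge j 182528 with g | g
  · exact ptOK_of_chk 182272 256 c_w_14_12 j (by omega) (by omega)
  clear h1
  have h1 := g
  clear g
  rcases Nat.lt_or_ge j 182784 with g | g
  · exact ptOK_of_chk 182528 256 c_w_14_13 j (by omega) (by omega)
  clear h1
  have h1 := g
  clear g
  rcases Nat.lt_or_ge j 183040 with g | g
  · exact ptOK_of_chk 182784 256 c_w_14_14 j (by omega) (by omega)
  clear h1
  have h1 := g
  clear g
  rcases Nat.lt_or_ge j 183296 with g | g
  · exact ptOK_of_chk 183040 256 c_w_14_15 j (by omega) (by omega)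
  clear h1
  have h1 := g
  clear g
  rcases Nat.lt_or_ge j 183552 with g | g
  · exact ptOK_of_chk 183296 256 c_w_14_16 j (by omega) (by omega)
  clear h1
  have h1 := g
  clear g
  rcases Nat.lt_or_ge j 183808 with g | g
  · exact ptOK_of_chk 183552 256 c_w_14_17 j (by omega) (by omega)
  clear h1
  have h1 := g
  clear g
  rcases Nat.lt_or_ge j 184064 with g | g
  · exact ptOK_of_chk 183808 256 c_w_14_18 j (by omega) (by omega)
  clear h1
  have h1 := g
  clear g
  rcases Nat.lt_or_ge j 184320 with g | g
  · exact ptOK_of_chk 184064 256 c_w_14_19 j (by omega) (by omega)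
  clear h1
  have h1 := g
  clear g
  rcases Nat.lt_or_ge j 184576 with g | g
  · exact ptOK_of_chk 184320 256 c_w_14_20 j (by omega) (by omega)
  clear h1
  have h1 := g
  clear g
  rcases Nat.lt_or_ge j 184832 with g | g
  · exact ptOK_of_chk 184576 256 c_w_14_21 j (by omega) (by omega)
  clear h1
  have h1 := g
  clear g
  rcases Nat.lt_or_ge j 185088 with g | g
  · exact ptOK_of_chk 184832 256 c_w_14_22 j (by omega) (by omega)
  clear h1
  have h1 := g
  clear g
  rcases Nat.lt_or_ge j 185344 with g | g
  · exact ptOK_of_chk 185088 256 c_w_14_23 j (by omega) (by omega)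
  clear h1
  have h1 := g
  clear g
  rcases Nat.lt_or_ge j 185600 with g | g
  · exact ptOK_of_chk 185344 256 c_w_14_24 j (by omega) (by omega)
  clear h1
  have h1 := g
  clear g
  rcases Nat.lt_or_ge j 185856 with g | g
  · exact ptOK_of_chk 185600 256 c_w_14_25 j (by omega) (by omega)
  clear h1
  have h1 := g
  clear g
  rcases Nat.lt_or_ge j 186112 with g | g
  · exact ptOK_of_chk 185856 256 c_w_14_26 j (by omega) (by omega)
  clear h1
  have h1 := g
  clear g
  rcases Nat.lt_or_ge j 186368 with g | g
  · exact ptOK_of_chk 186112 256 c_w_14_27 j (by omega) (by omega)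
  clear h1
  have h1 := g
  clear g
  rcases Nat.lt_or_ge j 186624 with g | g
  · exact ptOK_of_chk 186368 256 c_w_14_28 j (by omega) (by omega)
  clear h1
  have h1 := g
  clear g
  rcases Nat.lt_or_ge j 186880 with g | g
  · exact ptOK_of_chk 186624 256 c_w_14_29 j (by omega) (by omega)
  clear h1
  have h1 := g
  clear g
  rcases Nat.lt_or_ge j 187136 with g | g
  · exact ptOK_of_chk 186880 256 c_w_14_30 j (by omega) (by omega)
  clear h1
  have h1 := g
  clear g
  rcases Nat.lt_or_ge j 187392 with g | g
  · exact ptOK_of_chk 187136 256 c_w_14_31 j (by omega) (by omega)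
  clear h1
  have h1 := g
  clear g
  rcases Nat.lt_or_ge j 187648 with g | g
  · exact ptOK_of_chk 187392 256 c_w_14_32 j (by omega) (by omega)
  clear h1
  have h1 := g
  clear g
  rcases Nat.lt_or_ge j 187904 with g | g
  · exact ptOK_of_chk 187648 256 c_w_14_33 j (by omega) (by omega)
  clear h1
  have h1 := g
  clear g
  rcases Nat.lt_or_ge j 188160 with g | g
  · exact ptOK_of_chk 187904 256 c_w_14_34 j (by omega) (by omega)
  clear h1
  have h1 := g
  clear g
  rcases Nat.lt_or_ge j 188416 with g | g
  · exact ptOK_of_chk 188160 256 c_w_14_35 j (by omega) (by omega)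
  clear h1
  have h1 := g
  clear g
  rcases Nat.lt_or_ge j 188672 with g | g
  · exact ptOK_of_chk 188416 256 c_w_14_36 j (by omega) (by omega)
  clear h1
  have h1 := g
  clear g
  rcases Nat.lt_or_ge j 188928 with g | g
  · exact ptOK_of_chk 188672 256 c_w_14_37 j (by omega) (by omega)
  clear h1
  have h1 := g
  clear g
  rcases Nat.lt_or_ge j 189184 with g | g
  · exact ptOK_of_chk 188928 256 c_w_14_38 j (by omega) (by omega)
  clear h1
  have h1 := g
  clear g
  rcases Nat.lt_or_ge j 189440 with g | g
  · exact ptOK_of_chk 189184 256 c_w_14_39 j (by omega) (by omega)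
  clear h1
  have h1 := g
  clear g
  rcases Nat.lt_or_ge j 189696 with g | g
  · exact ptOK_of_chk 189440 256 c_w_14_40 j (by omega) (by omega)
  clear h1
  have h1 := g
  clear g
  rcases Nat.lt_or_ge j 189952 with g | g
  · exact ptOK_of_chk 189696 256 c_w_14_41 j (by omega) (by omega)
  clear h1
  have h1 := g
  clear g
  rcases Nat.lt_or_ge j 190208 with g | g
  · exact ptOK_of_chk 189952 256 c_w_14_42 j (by omega) (by omega)
  clear h1
  have h1 := g
  clear g
  rcases Nat.lt_or_ge j 190464 with g | g
  · exact ptOK_of_chk 190208 256 c_w_14_43 j (by omega) (by omega)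
  clear h1
  have h1 := g
  clear g
  rcases Nat.lt_or_ge j 190720 with g | g
  · exact ptOK_of_chk 190464 256 c_w_14_44 j (by omega) (by omega)
  clear h1
  have h1 := g
  clear g
  rcases Nat.lt_or_ge j 190976 with g | g
  · exact ptOK_of_chk 190720 256 c_w_14_45 j (by omega) (by omega)
  clear h1
  have h1 := g
  clear g
  rcases Nat.lt_or_ge j 191232 with g | g
  · exact ptOK_of_chk 190976 256 c_w_14_46 j (by omega) (by omega)
  clear h1
  have h1 := g
  clear g
  rcases Nat.lt_or_ge j 191488 with g | g
  · exact ptOK_of_chk 191232 256 c_w_14_47 j (by omega) (by omega)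
  clear h1
  have h1 := g
  clear g
  rcases Nat.lt_or_ge j 191744 with g | g
  · exact ptOK_of_chk 191488 256 c_w_14_48 j (by omega) (by omega)
  clear h1
  have h1 := g
  clear g
  exact ptOK_of_chk 191744 256 c_w_14_49 j (by omega) (by omega)

end Cfsg.Agent.Lib.Helper4.F24M
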