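import Cfsg.Agent.Lib.Helper4.F24M.PtOK
set_option autoImplicit false
set_option maxRecDepth 1000000
set_option Elab.async false

/-! # The checks of the tables of the triple cover of the Fischer group at the points from 192000 to 204799 -/

namespace Cfsg.Agent.Lib.Helper4.F24M
open Cfsg.Agent.Lib.Helper4.TCov

theorem c_w_15_0 : chkPtRange 3 920808 MLF MCF WLF 192000 256 = true := by decide +kernel
theorem c_w_15_1 : chkPtRange 3 920808 MLF MCF WLF 192256 256 = true := by decide +kernel
theorem c_w_15_2 : chkPtRange 3 920808 MLF MCF WLF 192512 256 = true := by decide +kernel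
theorem c_w_15_3 : chkPtRange 3 920808 MLF MCF WLF 192768 256 = true := by decide +kernel
theorem c_w_15_4 : chkPtRange 3 920808 MLF MCF WLF 193024 256 = true := by decide +kernel
theorem c_w_15_5 : chkPtRange 3 920808 MLF MCF WLF 193280 256 = true := by decide +kernel
theorem c_w_15_6 : chkPtRange 3 920808 MLF MCF WLF 193536 256 = true := by decide +kernel
theorem c_w_15_7 : chkPtRange 3 920808 MLF MCF WLF 193792 256 = true := by decide +kernel
theorem c_w_15_8 : chkPtRange 3 920808 MLF MCF WLF 194048 256 = true := by decide +kernel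
theorem c_w_15_9 : chkPtRange 3 920808 MLF MCF WLF 194304 256 = true := by decide +kernel
theorem c_w_15_10 : chkPtRange 3 920808 MLF MCF WLF 194560 256 = true := by decide +kernel
theorem c_w_15_11 : chkPtRange 3 920808 MLF MCF WLF 194816 256 = true := by decide +kernel
theorem c_w_15_12 : chkPtRange 3 920808 MLF MCF WLF 195072 256 = true := by decide +kernel
theorem c_w_15_13 : chkPtRange 3 920808 MLF MCF WLF 195328 256 = true := by decide +kernel
theorem c_w_15_14 : chkPtRange 3 920808 MLF MCF WLF 195584 256 = true := by decide +kernel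
theorem c_w_15_15 : chkPtRange 3 920808 MLF MCF WLF 195840 256 = true := by decide +kernel
theorem c_w_15_16 : chkPtRange 3 920808 MLF MCF WLF 196096 256 = true := by decide +kernel
theorem c_w_15_17 : chkPtRange 3 920808 MLF MCF WLF 196352 256 = true := by decide +kernel
theorem c_w_15_18 : chkPtRange 3 920808 MLF MCF WLF 196608 256 = true := by decide +kernel
theorem c_w_15_19 : chkPtRange 3 920808 MLF MCF WLF 196864 256 = true := by decide +kernel
theorem c_w_15_20 : chkPtRange 3 920808 MLF MCF WLF 197120 256 = true := by decide +kernel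
theorem c_w_15_21 : chkPtRange 3 920808 MLF MCF WLF 197376 256 = true := by decide +kernel
theorem c_w_15_22 : chkPtRange 3 920808 MLF MCF WLF 197632 256 = true := by decide +kernel
theorem c_w_15_23 : chkPtRange 3 920808 MLF MCF WLF 197888 256 = true := by decide +kernel
theorem c_w_15_24 : chkPtRange 3 920808 MLF MCF WLF 198144 256 = true := by decide +kernel
theorem c_w_15_25 : chkPtRange 3 920808 MLF MCF WLF 198400 256 = true := by decide +kernel
theorem c_w_15_26 : chkPtRange 3 920808 MLF MCF WLF 198656 256 = true := by decide +kernel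
theorem c_w_15_27 : chkPtRange 3 920808 MLF MCF WLF 198912 256 = true := by decide +kernel
theorem c_w_15_28 : chkPtRange 3 920808 MLF MCF WLF 199168 256 = true := by decide +kernel
theorem c_w_15_29 : chkPtRange 3 920808 MLF MCF WLF 199424 256 = true := by decide +kernel
theorem c_w_15_30 : chkPtRange 3 920808 MLF MCF WLF 199680 256 = true := by decide +kernel
theorem c_w_15_31 : chkPtRange 3 920808 MLF MCF WLF 199936 256 = true := by decide +kernel
theorem c_w_15_32 : chkPtRange 3 920808 MLF MCF WLF 200192 256 = true := by decide +kernel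
theorem c_w_15_33 : chkPtRange 3 920808 MLF MCF WLF 200448 256 = true := by decide +kernel
theorem c_w_15_34 : chkPtRange 3 920808 MLF MCF WLF 200704 256 = true := by decide +kernel
theorem c_w_15_35 : chkPtRange 3 920808 MLF MCF WLF 200960 256 = true := by decide +kernel
theorem c_w_15_36 : chkPtRange 3 920808 MLF MCF WLF 201216 256 = true := by decide +kernel
theorem c_w_15_37 : chkPtRange 3 920808 MLF MCF WLF 201472 256 = true := by decide +kernel
theorem c_w_15_38 : chkPtRange 3 920808 MLF MCF WLF 201728 256 = true := by decide +kernel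
theorem c_w_15_39 : chkPtRange 3 920808 MLF MCF WLF 201984 256 = true := by decide +kernel
theorem c_w_15_40 : chkPtRange 3 920808 MLF MCF WLF 202240 256 = true := by decide +kernel
theorem c_w_15_41 : chkPtRange 3 920808 MLF MCF WLF 202496 256 = true := by decide +kernel
theorem c_w_15_42 : chkPtRange 3 920808 MLF MCF WLF 202752 256 = true := by decide +kernel
theorem c_w_15_43 : chkPtRange 3 920808 MLF MCF WLF 203008 256 = true := by decide +kernel
theorem c_w_15_44 : chkPtRange 3 920808 MLF MCF WLF 203264 256 = true := by decide +kernel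
theorem c_w_15_45 : chkPtRange 3 920808 MLF MCF WLF 203520 256 = true := by decide +kernel
theorem c_w_15_46 : chkPtRange 3 920808 MLF MCF WLF 203776 256 = true := by decide +kernel
theorem c_w_15_47 : chkPtRange 3 920808 MLF MCF WLF 204032 256 = true := by decide +kernel
theorem c_w_15_48 : chkPtRange 3 920808 MLF MCF WLF 204288 256 = true := by decide +kernel
theorem c_w_15_49 : chkPtRange 3 920808 MLF MCF WLF 204544 256 = true := by decide +kernel

theorem ptOK_15 (j : ℕ) (h1 : 192000 ≤ j) (h2 : j < 204800) : PtOK j := by
  rcases Nat.lt_or_ge j 192256 with g | g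
  · exact ptOK_of_chk 192000 256 c_w_15_0 j (by omega) (by omega)
  clear h1
  have h1 := g
  clear g
  rcases Nat.lt_or_ge j 192512 with g | g
  · exact ptOK_of_chk 192256 256 c_w_15_1 j (by omega) (by omega)
  clear h1
  have h1 := g
  clear g
  rcases Nat.lt_or_ge j 192768 with g | g
  · exact ptOK_of_chk 192512 256 c_w_15_2 j (by omega) (by omega)
  clear h1
  have h1 := g
  clear g
  rcases Nat.lt_or_ge j 193024 with g | g
  · exact ptOK_of_chk 192768 256 c_w_15_3 j (by omega) (by omega)
  clear h1
  have h1 := g
  clear g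
  rcases Nat.lt_or_ge j 193280 with g | g
  · exact ptOK_of_chk 193024 256 c_w_15_4 j (by omega) (by omega)
  clear h1
  have h1 := g
  clear g
  rcases Nat.lt_or_ge j 193536 with g | g
  · exact ptOK_of_chk 193280 256 c_w_15_5 j (by omega) (by omega)
  clear h1
  have h1 := g
  clear g
  rcases Nat.lt_or_ge j 193792 with g | g
  · exact ptOK_of_chk 193536 256 c_w_15_6 j (by omega) (by omega)
  clear h1
  have h1 := g
  clear g
  rcases Nat.lt_or_ge j 194048 with g | g
  · exact ptOK_of_chk 193792 256 c_w_15_7 j (by omega) (by omega)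
  clear h1
  have h1 := g
  clear g
  rcases Nat.lt_or_ge j 194304 with g | g
  · exact ptOK_of_chk 194048 256 c_w_15_8 j (by omega) (by omega)
  clear h1
  have h1 := g
  clear g
  rcases Nat.lt_or_ge j 194560 with g | g
  · exact ptOK_of_chk 194304 256 c_w_15_9 j (by omega) (by omega)
  clear h1
  have h1 := g
  clear g
  rcases Nat.lt_or_ge j 194816 with g | g
  · exact ptOK_of_chk 194560 256 c_w_15_10 j (by omega) (by omega)
  clear h1
  have h1 := g
  clear g
  rcases Nat.lt_or_ge j 195072 with g | g
  · exact ptOK_of_chk 194816 256 c_w_15_11 j (by omega) (by omega)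
  clear h1
  have h1 := g
  clear g
  rcases Nat.lt_or_ge j 195328 with g | g
  · exact ptOK_of_chk 195072 256 c_w_15_12 j (by omega) (by omega)
  clear h1
  have h1 := g
  clear g
  rcases Nat.lt_or_ge j 195584 with g | g
  · exact ptOK_of_chk 195328 256 c_w_15_13 j (by omega) (by omega)
  clear h1
  have h1 := g
  clear g
  rcases Nat.lt_or_ge j 195840 with g | g
  · exact ptOK_of_chk 195584 256 c_w_15_14 j (by omega) (by omega)
  clear h1
  have h1 := g
  clear g
  rcases Nat.lt_or_ge j 196096 with g | g
  · exact ptOK_of_chk 195840 256 c_w_15_15 j (by omega) (by omega)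
  clear h1
  have h1 := g
  clear g
  rcases Nat.lt_or_ge j 196352 with g | g
  · exact ptOK_of_chk 196096 256 c_w_15_16 j (by omega) (by omega)
  clear h1
  have h1 := g
  clear g
  rcases Nat.lt_or_ge j 196608 with g | g
  · exact ptOK_of_chk 196352 256 c_w_15_17 j (by omega) (by omega)
  clear h1
  have h1 := g
  clear g
  rcases Nat.lt_or_ge j 196864 with g | g
  · exact ptOK_of_chk 196608 256 c_w_15_18 j (by omega) (by omega)
  clear h1
  have h1 := g
  clear g
  rcases Nat.lt_or_ge j 197120 with g | g
  · exact ptOK_of_chk 196864 256 c_w_15_19 j (by omega) (by omega)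
  clear h1
  have h1 := g
  clear g
  rcases Nat.lt_or_ge j 197376 with g | g
  · exact ptOK_of_chk 197120 256 c_w_15_20 j (by omega) (by omega)
  clear h1
  have h1 := g
  clear g
  rcases Nat.lt_or_ge j 197632 with g | g
  · exact ptOK_of_chk 197376 256 c_w_15_21 j (by omega) (by omega)
  clear h1
  have h1 := g
  clear g
  rcases Nat.lt_or_ge j 197888 with g | g
  · exact ptOK_of_chk 197632 256 c_w_15_22 j (by omega) (by omega)
  clear h1
  have h1 := g
  clear g
  rcases Nat.lt_or_ge j 198144 with g | g
  · exact ptOK_of_chk 197888 256 c_w_15_23 j (by omega) (by omega)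
  clear h1
  have h1 := g
  clear g
  rcases Nat.lt_or_ge j 198400 with g | g
  · exact ptOK_of_chk 198144 256 c_w_15_24 j (by omega) (by omega)
  clear h1
  have h1 := g
  clear g
  rcases Nat.lt_or_ge j 198656 with g | g
  · exact ptOK_of_chk 198400 256 c_w_15_25 j (by omega) (by omega)
  clear h1
  have h1 := g
  clear g
  rcases Nat.lt_or_ge j 198912 with g | g
  · exact ptOK_of_chk 198656 256 c_w_15_26 j (by omega) (by omega)
  clear h1
  have h1 := g
  clear g
  rcases Nat.lt_or_ge j 199168 with g | g
  · exact ptOK_of_chk 198912 256 c_w_15_27 j (by omega) (by omega)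
  clear h1
  have h1 := g
  clear g
  rcases Nat.lt_or_ge j 199424 with g | g
  · exact ptOK_of_chk 199168 256 c_w_15_28 j (by omega) (by omega)
  clear h1
  have h1 := g
  clear g
  rcases Nat.lt_or_ge j 199680 with g | g
  · exact ptOK_of_chk 199424 256 c_w_15_29 j (by omega) (by omega)
  clear h1
  have h1 := g
  clear g
  rcases Nat.lt_or_ge j 199936 with g | g
  · exact ptOK_of_chk 199680 256 c_w_15_30 j (by omega) (by omega)
  clear h1
  have h1 := g
  clear g
  rcases Nat.lt_or_ge j 200192 with g | g
  · exact ptOK_of_chk 199936 256 c_w_15_31 j (by omega) (by omega)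
  clear h1
  have h1 := g
  clear g
  rcases Nat.lt_or_ge j 200448 with g | g
  · exact ptOK_of_chk 200192 256 c_w_15_32 j (by omega) (by omega)
  clear h1
  have h1 := g
  clear g
  rcases Nat.lt_or_ge j 200704 with g | g
  · exact ptOK_of_chk 200448 256 c_w_15_33 j (by omega) (by omega)
  clear h1
  have h1 := g
  clear g
  rcases Nat.lt_or_ge j 200960 with g | g
  · exact ptOK_of_chk 200704 256 c_w_15_34 j (by omega) (by omega)
  clear h1
  have h1 := g
  clear g
  rcases Nat.lt_or_ge j 201216 with g | g
  · exact ptOK_of_chk 200960 256 c_w_15_35 j (by omega) (by omega)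
  clear h1
  have h1 := g
  clear g
  rcases Nat.lt_or_ge j 201472 with g | g
  · exact ptOK_of_chk 201216 256 c_w_15_36 j (by omega) (by omega)
  clear h1
  have h1 := g
  clear g
  rcases Nat.lt_or_ge j 201728 with g | g
  · exact ptOK_of_chk 201472 256 c_w_15_37 j (by omega) (by omega)
  clear h1
  have h1 := g
  clear g
  rcases Nat.lt_or_ge j 201984 with g | g
  · exact ptOK_of_chk 201728 256 c_w_15_38 j (by omega) (by omega)
  clear h1
  have h1 := g
  clear g
  rcases Nat.lt_or_ge j 202240 with g | g
  · exact ptOK_of_chk 201984 256 c_w_15_39 j (by omega) (by omega)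
  clear h1
  have h1 := g
  clear g
  rcases Nat.lt_or_ge j 202496 with g | g
  · exact ptOK_of_chk 202240 256 c_w_15_40 j (by omega) (by omega)
  clear h1
  have h1 := g
  clear g
  rcases Nat.lt_or_ge j 202752 with g | g
  · exact ptOK_of_chk 202496 256 c_w_15_41 j (by omega) (by omega)
  clear h1
  have h1 := g
  clear g
  rcases Nat.lt_or_ge j 203008 with g | g
  · exact ptOK_of_chk 202752 256 c_w_15_42 j (by omega) (by omega)
  clear h1
  have h1 := g
  clear g
  rcases Nat.lt_or_ge j 203264 with g | g
  · exact ptOK_of_chk 203008 256 c_w_15_43 j (by omega) (by omega)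
  clear h1
  have h1 := g
  clear g
  rcases Nat.lt_or_ge j 203520 with g | g
  · exact ptOK_of_chk 203264 256 c_w_15_44 j (by omega) (by omega)
  clear h1
  have h1 := g
  clear g
  rcases Nat.lt_or_ge j 203776 with g | g
  · exact ptOK_of_chk 203520 256 c_w_15_45 j (by omega) (by omega)
  clear h1
  have h1 := g
  clear g
  rcases Nat.lt_or_ge j 204032 with g | g
  · exact ptOK_of_chk 203776 256 c_w_15_46 j (by omega) (by omega)
  clear h1
  have h1 := g
  clear g
  rcases Nat.lt_or_ge j 204288 with g | g
  · exact ptOK_of_chk 204032 256 c_w_15_47 j (by omega) (by omega)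
  clear h1
  have h1 := g
  clear g
  rcases Nat.lt_or_ge j 204544 with g | g
  · exact ptOK_of_chk 204288 256 c_w_15_48 j (by omega) (by omega)
  clear h1
  have h1 := g
  clear g
  exact ptOK_of_chk 204544 256 c_w_15_49 j (by omega) (by omega)

end Cfsg.Agent.Lib.Helper4.F24M
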