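import Cfsg.Agent.Lib.Helper4.F24M.PtOK
set_option autoImplicit false
set_option maxRecDepth 1000000
set_option Elab.async false

/-! # The checks of the tables of the triple cover of the Fischer group at the points from 204800 to 217599 -/

namespace Cfsg.Agent.Lib.Helper4.F24M
open Cfsg.Agent.Lib.Helper4.TCov

theorem c_w_16_0 : chkPtRange 3 920808 MLF MCF WLF 204800 256 = true := by decide +kernel
theorem c_w_16_1 : chkPtRange 3 920808 MLF MCF WLF 205056 256 = true := by decide +kernel
theorem c_w_16_2 : chkPtRange 3 920808 MLF MCF WLF 205312 256 = true := by decide +kernel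
theorem c_w_16_3 : chkPtRange 3 920808 MLF MCF WLF 205568 256 = true := by decide +kernel
theorem c_w_16_4 : chkPtRange 3 920808 MLF MCF WLF 205824 256 = true := by decide +kernel
theorem c_w_16_5 : chkPtRange 3 920808 MLF MCF WLF 206080 256 = true := by decide +kernel
theorem c_w_16_6 : chkPtRange 3 920808 MLF MCF WLF 206336 256 = true := by decide +kernel
theorem c_w_16_7 : chkPtRange 3 920808 MLF MCF WLF 206592 256 = true := by decide +kernel
theorem c_w_16_8 : chkPtRange 3 920808 MLF MCF WLF 206848 256 = true := by decide +kernel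
theorem c_w_16_9 : chkPtRange 3 920808 MLF MCF WLF 207104 256 = true := by decide +kernel
theorem c_w_16_10 : chkPtRange 3 920808 MLF MCF WLF 207360 256 = true := by decide +kernel
theorem c_w_16_11 : chkPtRange 3 920808 MLF MCF WLF 207616 256 = true := by decide +kernel
theorem c_w_16_12 : chkPtRange 3 920808 MLF MCF WLF 207872 256 = true := by decide +kernel
theorem c_w_16_13 : chkPtRange 3 920808 MLF MCF WLF 208128 256 = true := by decide +kernel
theorem c_w_16_14 : chkPtRange 3 920808 MLF MCF WLF 208384 256 = true := by decide +kernel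
theorem c_w_16_15 : chkPtRange 3 920808 MLF MCF WLF 208640 256 = true := by decide +kernel
theorem c_w_16_16 : chkPtRange 3 920808 MLF MCF WLF 208896 256 = true := by decide +kernel
theorem c_w_16_17 : chkPtRange 3 920808 MLF MCF WLF 209152 256 = true := by decide +kernel
theorem c_w_16_18 : chkPtRange 3 920808 MLF MCF WLF 209408 256 = true := by decide +kernel
theorem c_w_16_19 : chkPtRange 3 920808 MLF MCF WLF 209664 256 = true := by decide +kernel
theorem c_w_16_20 : chkPtRange 3 920808 MLF MCF WLF 209920 256 = true := by decide +kernel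
theorem c_w_16_21 : chkPtRange 3 920808 MLF MCF WLF 210176 256 = true := by decide +kernel
theorem c_w_16_22 : chkPtRange 3 920808 MLF MCF WLF 210432 256 = true := by decide +kernel
theorem c_w_16_23 : chkPtRange 3 920808 MLF MCF WLF 210688 256 = true := by decide +kernel
theorem c_w_16_24 : chkPtRange 3 920808 MLF MCF WLF 210944 256 = true := by decide +kernel
theorem c_w_16_25 : chkPtRange 3 920808 MLF MCF WLF 211200 256 = true := by decide +kernel
theorem c_w_16_26 : chkPtRange 3 920808 MLF MCF WLF 211456 256 = true := by decide +kernel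
theorem c_w_16_27 : chkPtRange 3 920808 MLF MCF WLF 211712 256 = true := by decide +kernel
theorem c_w_16_28 : chkPtRange 3 920808 MLF MCF WLF 211968 256 = true := by decide +kernel
theorem c_w_16_29 : chkPtRange 3 920808 MLF MCF WLF 212224 256 = true := by decide +kernel
theorem c_w_16_30 : chkPtRange 3 920808 MLF MCF WLF 212480 256 = true := by decide +kernel
theorem c_w_16_31 : chkPtRange 3 920808 MLF MCF WLF 212736 256 = true := by decide +kernel
theorem c_w_16_32 : chkPtRange 3 920808 MLF MCF WLF 212992 256 = true := by decide +kernel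
theorem c_w_16_33 : chkPtRange 3 920808 MLF MCF WLF 213248 256 = true := by decide +kernel
theorem c_w_16_34 : chkPtRange 3 920808 MLF MCF WLF 213504 256 = true := by decide +kernel
theorem c_w_16_35 : chkPtRange 3 920808 MLF MCF WLF 213760 256 = true := by decide +kernel
theorem c_w_16_36 : chkPtRange 3 920808 MLF MCF WLF 214016 256 = true := by decide +kernel
theorem c_w_16_37 : chkPtRange 3 920808 MLF MCF WLF 214272 256 = true := by decide +kernel
theorem c_w_16_38 : chkPtRange 3 920808 MLF MCF WLF 214528 256 = true := by decide +kernel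
theorem c_w_16_39 : chkPtRange 3 920808 MLF MCF WLF 214784 256 = true := by decide +kernel
theorem c_w_16_40 : chkPtRange 3 920808 MLF MCF WLF 215040 256 = true := by decide +kernel
theorem c_w_16_41 : chkPtRange 3 920808 MLF MCF WLF 215296 256 = true := by decide +kernel
theorem c_w_16_42 : chkPtRange 3 920808 MLF MCF WLF 215552 256 = true := by decide +kernel
theorem c_w_16_43 : chkPtRange 3 920808 MLF MCF WLF 215808 256 = true := by decide +kernel
theorem c_w_16_44 : chkPtRange 3 920808 MLF MCF WLF 216064 256 = true := by decide +kernel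
theorem c_w_16_45 : chkPtRange 3 920808 MLF MCF WLF 216320 256 = true := by decide +kernel
theorem c_w_16_46 : chkPtRange 3 920808 MLF MCF WLF 216576 256 = true := by decide +kernel
theorem c_w_16_47 : chkPtRange 3 920808 MLF MCF WLF 216832 256 = true := by decide +kernel
theorem c_w_16_48 : chkPtRange 3 920808 MLF MCF WLF 217088 256 = true := by decide +kernel
theorem c_w_16_49 : chkPtRange 3 920808 MLF MCF WLF 217344 256 = true := by decide +kernel

theorem ptOK_16 (j : ℕ) (h1 : 204800 ≤ j) (h2 : j < 217600) : PtOK j := by
  rcases Nat.lt_or_ge j 205056 with g | g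
  · exact ptOK_of_chk 204800 256 c_w_16_0 j (by omega) (by omega)
  clear h1
  have h1 := g
  clear g
  rcases Nat.lt_or_ge j 205312 with g | g
  · exact ptOK_of_chk 205056 256 c_w_16_1 j (by omega) (by omega)
  clear h1
  have h1 := g
  clear g
  rcases Nat.lt_or_ge j 205568 with g | g
  · exact ptOK_of_chk 205312 256 c_w_16_2 j (by omega) (by omega)
  clear h1
  have h1 := g
  clear g
  rcases Nat.lt_or_ge j 205824 with g | g
  · exact ptOK_of_chk 205568 256 c_w_16_3 j (by omega) (by omega)
  clear h1
  have h1 := g
  clear g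
  rcases Nat.lt_or_ge j 206080 with g | g
  · exact ptOK_of_chk 205824 256 c_w_16_4 j (by omega) (by omega)
  clear h1
  have h1 := g
  clear g
  rcases Nat.lt_or_ge j 206336 with g | g
  · exact ptOK_of_chk 206080 256 c_w_16_5 j (by omega) (by omega)
  clear h1
  have h1 := g
  clear g
  rcases Nat.lt_or_ge j 206592 with g | g
  · exact ptOK_of_chk 206336 256 c_w_16_6 j (by omega) (by omega)
  clear h1
  have h1 := g
  clear g
  rcases Nat.lt_or_ge j 206848 with g | g
  · exact ptOK_of_chk 206592 256 c_w_16_7 j (by omega) (by omega)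
  clear h1
  have h1 := g
  clear g
  rcases Nat.lt_or_ge j 207104 with g | g
  · exact ptOK_of_chk 206848 256 c_w_16_8 j (by omega) (by omega)
  clear h1
  have h1 := g
  clear g
  rcases Nat.lt_or_ge j 207360 with g | g
  · exact ptOK_of_chk 207104 256 c_w_16_9 j (by omega) (by omega)
  clear h1
  have h1 := g
  clear g
  rcases Nat.lt_or_ge j 207616 with g | g
  · exact ptOK_of_chk 207360 256 c_w_16_10 j (by omega) (by omega)
  clear h1
  have h1 := g
  clear g
  rcases Nat.lt_or_ge j 207872 with g | g
  · exact ptOK_of_chk 207616 256 c_w_16_11 j (by omega) (by omega)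
  clear h1
  have h1 := g
  clear g
  rcases Nat.lt_or_ge j 208128 with g | g
  · exact ptOK_of_chk 207872 256 c_w_16_12 j (by omega) (by omega)
  clear h1
  have h1 := g
  clear g
  rcases Nat.lt_or_ge j 208384 with g | g
  · exact ptOK_of_chk 208128 256 c_w_16_13 j (by omega) (by omega)
  clear h1
  have h1 := g
  clear g
  rcases Nat.lt_or_ge j 208640 with g | g
  · exact ptOK_of_chk 208384 256 c_w_16_14 j (by omega) (by omega)
  clear h1
  have h1 := g
  clear g
  rcases Nat.lt_or_ge j 208896 with g | g
  · exact ptOK_of_chk 208640 256 c_w_16_15 j (by omega) (by omega)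
  clear h1
  have h1 := g
  clear g
  rcases Nat.lt_or_ge j 209152 with g | g
  · exact ptOK_of_chk 208896 256 c_w_16_16 j (by omega) (by omega)
  clear h1
  have h1 := g
  clear g
  rcases Nat.lt_or_ge j 209408 with g | g
  · exact ptOK_of_chk 209152 256 c_w_16_17 j (by omega) (by omega)
  clear h1
  have h1 := g
  clear g
  rcases Nat.lt_or_ge j 209664 with g | g
  · exact ptOK_of_chk 209408 256 c_w_16_18 j (by omega) (by omega)
  clear h1
  have h1 := g
  clear g
  rcases Nat.lt_or_ge j 209920 with g | g
  · exact ptOK_of_chk 209664 256 c_w_16_19 j (by omega) (by omega)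
  clear h1
  have h1 := g
  clear g
  rcases Nat.lt_or_ge j 210176 with g | g
  · exact ptOK_of_chk 209920 256 c_w_16_20 j (by omega) (by omega)
  clear h1
  have h1 := g
  clear g
  rcases Nat.lt_or_ge j 210432 with g | g
  · exact ptOK_of_chk 210176 256 c_w_16_21 j (by omega) (by omega)
  clear h1
  have h1 := g
  clear g
  rcases Nat.lt_or_ge j 210688 with g | g
  · exact ptOK_of_chk 210432 256 c_w_16_22 j (by omega) (by omega)
  clear h1
  have h1 := g
  clear g
  rcases Nat.lt_or_ge j 210944 with g | g
  · exact ptOK_of_chk 210688 256 c_w_16_23 j (by omega) (by omega)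
  clear h1
  have h1 := g
  clear g
  rcases Nat.lt_or_ge j 211200 with g | g
  · exact ptOK_of_chk 210944 256 c_w_16_24 j (by omega) (by omega)
  clear h1
  have h1 := g
  clear g
  rcases Nat.lt_or_ge j 211456 with g | g
  · exact ptOK_of_chk 211200 256 c_w_16_25 j (by omega) (by omega)
  clear h1
  have h1 := g
  clear g
  rcases Nat.lt_or_ge j 211712 with g | g
  · exact ptOK_of_chk 211456 256 c_w_16_26 j (by omega) (by omega)
  clear h1
  have h1 := g
  clear g
  rcases Nat.lt_or_ge j 211968 with g | g
  · exact ptOK_of_chk 211712 256 c_w_16_27 j (by omega) (by omega)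
  clear h1
  have h1 := g
  clear g
  rcases Nat.lt_or_ge j 212224 with g | g
  · exact ptOK_of_chk 211968 256 c_w_16_28 j (by omega) (by omega)
  clear h1
  have h1 := g
  clear g
  rcases Nat.lt_or_ge j 212480 with g | g
  · exact ptOK_of_chk 212224 256 c_w_16_29 j (by omega) (by omega)
  clear h1
  have h1 := g
  clear g
  rcases Nat.lt_or_ge j 212736 with g | g
  · exact ptOK_of_chk 212480 256 c_w_16_30 j (by omega) (by omega)
  clear h1
  have h1 := g
  clear g
  rcases Nat.lt_or_ge j 212992 with g | g
  · exact ptOK_of_chk 212736 256 c_w_16_31 j (by omega) (by omega)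
  clear h1
  have h1 := g
  clear g
  rcases Nat.lt_or_ge j 213248 with g | g
  · exact ptOK_of_chk 212992 256 c_w_16_32 j (by omega) (by omega)
  clear h1
  have h1 := g
  clear g
  rcases Nat.lt_or_ge j 213504 with g | g
  · exact ptOK_of_chk 213248 256 c_w_16_33 j (by omega) (by omega)
  clear h1
  have h1 := g
  clear g
  rcases Nat.lt_or_ge j 213760 with g | g
  · exact ptOK_of_chk 213504 256 c_w_16_34 j (by omega) (by omega)
  clear h1
  have h1 := g
  clear g
  rcases Nat.lt_or_ge j 214016 with g | g
  · exact ptOK_of_chk 213760 256 c_w_16_35 j (by omega) (by omega)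
  clear h1
  have h1 := g
  clear g
  rcases Nat.lt_or_ge j 214272 with g | g
  · exact ptOK_of_chk 214016 256 c_w_16_36 j (by omega) (by omega)
  clear h1
  have h1 := g
  clear g
  rcases Nat.lt_or_ge j 214528 with g | g
  · exact ptOK_of_chk 214272 256 c_w_16_37 j (by omega) (by omega)
  clear h1
  have h1 := g
  clear g
  rcases Nat.lt_or_ge j 214784 with g | g
  · exact ptOK_of_chk 214528 256 c_w_16_38 j (by omega) (by omega)
  clear h1
  have h1 := g
  clear g
  rcases Nat.lt_or_ge j 215040 with g | g
  · exact ptOK_of_chk 214784 256 c_w_16_39 j (by omega) (by omega)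
  clear h1
  have h1 := g
  clear g
  rcases Nat.lt_or_ge j 215296 with g | g
  · exact ptOK_of_chk 215040 256 c_w_16_40 j (by omega) (by omega)
  clear h1
  have h1 := g
  clear g
  rcases Nat.lt_or_ge j 215552 with g | g
  · exact ptOK_of_chk 215296 256 c_w_16_41 j (by omega) (by omega)
  clear h1
  have h1 := g
  clear g
  rcases Nat.lt_or_ge j 215808 with g | g
  · exact ptOK_of_chk 215552 256 c_w_16_42 j (by omega) (by omega)
  clear h1
  have h1 := g
  clear g
  rcases Nat.lt_or_ge j 216064 with g | g
  · exact ptOK_of_chk 215808 256 c_w_16_43 j (by omega) (by omega)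
  clear h1
  have h1 := g
  clear g
  rcases Nat.lt_or_ge j 216320 with g | g
  · exact ptOK_of_chk 216064 256 c_w_16_44 j (by omega) (by omega)
  clear h1
  have h1 := g
  clear g
  rcases Nat.lt_or_ge j 216576 with g | g
  · exact ptOK_of_chk 216320 256 c_w_16_45 j (by omega) (by omega)
  clear h1
  have h1 := g
  clear g
  rcases Nat.lt_or_ge j 216832 with g | g
  · exact ptOK_of_chk 216576 256 c_w_16_46 j (by omega) (by omega)
  clear h1
  have h1 := g
  clear g
  rcases Nat.lt_or_ge j 217088 with g | g
  · exact ptOK_of_chk 216832 256 c_w_16_47 j (by omega) (by omega)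
  clear h1
  have h1 := g
  clear g
  rcases Nat.lt_or_ge j 217344 with g | g
  · exact ptOK_of_chk 217088 256 c_w_16_48 j (by omega) (by omega)
  clear h1
  have h1 := g
  clear g
  exact ptOK_of_chk 217344 256 c_w_16_49 j (by omega) (by omega)

end Cfsg.Agent.Lib.Helper4.F24M
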