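import Cfsg.Agent.Lib.Helper4.F24M.PtOK
set_option autoImplicit false
set_option maxRecDepth 1000000
set_option Elab.async false

/-! # The checks of the tables of the triple cover of the Fischer group at the points from 217600 to 230399 -/

namespace Cfsg.Agent.Lib.Helper4.F24M
open Cfsg.Agent.Lib.Helper4.TCov

theorem c_w_17_0 : chkPtRange 3 920808 MLF MCF WLF 217600 256 = true := by decide +kernel
theorem c_w_17_1 : chkPtRange 3 920808 MLF MCF WLF 217856 256 = true := by decide +kernel
theorem c_w_17_2 : chkPtRange 3 920808 MLF MCF WLF 218112 256 = true := by decide +kernel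
theorem c_w_17_3 : chkPtRange 3 920808 MLF MCF WLF 218368 256 = true := by decide +kernel
theorem c_w_17_4 : chkPtRange 3 920808 MLF MCF WLF 218624 256 = true := by decide +kernel
theorem c_w_17_5 : chkPtRange 3 920808 MLF MCF WLF 218880 256 = true := by decide +kernel
theorem c_w_17_6 : chkPtRange 3 920808 MLF MCF WLF 219136 256 = true := by decide +kernel
theorem c_w_17_7 : chkPtRange 3 920808 MLF MCF WLF 219392 256 = true := by decide +kernel
theorem c_w_17_8 : chkPtRange 3 920808 MLF MCF WLF 219648 256 = true := by decide +kernel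
theorem c_w_17_9 : chkPtRange 3 920808 MLF MCF WLF 219904 256 = true := by decide +kernel
theorem c_w_17_10 : chkPtRange 3 920808 MLF MCF WLF 220160 256 = true := by decide +kernel
theorem c_w_17_11 : chkPtRange 3 920808 MLF MCF WLF 220416 256 = true := by decide +kernel
theorem c_w_17_12 : chkPtRange 3 920808 MLF MCF WLF 220672 256 = true := by decide +kernel
theorem c_w_17_13 : chkPtRange 3 920808 MLF MCF WLF 220928 256 = true := by decide +kernel
theorem c_w_17_14 : chkPtRange 3 920808 MLF MCF WLF 221184 256 = true := by decide +kernel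
theorem c_w_17_15 : chkPtRange 3 920808 MLF MCF WLF 221440 256 = true := by decide +kernel
theorem c_w_17_16 : chkPtRange 3 920808 MLF MCF WLF 221696 256 = true := by decide +kernel
theorem c_w_17_17 : chkPtRange 3 920808 MLF MCF WLF 221952 256 = true := by decide +kernel
theorem c_w_17_18 : chkPtRange 3 920808 MLF MCF WLF 222208 256 = true := by decide +kernel
theorem c_w_17_19 : chkPtRange 3 920808 MLF MCF WLF 222464 256 = true := by decide +kernel
theorem c_w_17_20 : chkPtRange 3 920808 MLF MCF WLF 222720 256 = true := by decide +kernel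
theorem c_w_17_21 : chkPtRange 3 920808 MLF MCF WLF 222976 256 = true := by decide +kernel
theorem c_w_17_22 : chkPtRange 3 920808 MLF MCF WLF 223232 256 = true := by decide +kernel
theorem c_w_17_23 : chkPtRange 3 920808 MLF MCF WLF 223488 256 = true := by decide +kernel
theorem c_w_17_24 : chkPtRange 3 920808 MLF MCF WLF 223744 256 = true := by decide +kernel
theorem c_w_17_25 : chkPtRange 3 920808 MLF MCF WLF 224000 256 = true := by decide +kernel
theorem c_w_17_26 : chkPtRange 3 920808 MLF MCF WLF 224256 256 = true := by decide +kernel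
theorem c_w_17_27 : chkPtRange 3 920808 MLF MCF WLF 224512 256 = true := by decide +kernel
theorem c_w_17_28 : chkPtRange 3 920808 MLF MCF WLF 224768 256 = true := by decide +kernel
theorem c_w_17_29 : chkPtRange 3 920808 MLF MCF WLF 225024 256 = true := by decide +kernel
theorem c_w_17_30 : chkPtRange 3 920808 MLF MCF WLF 225280 256 = true := by decide +kernel
theorem c_w_17_31 : chkPtRange 3 920808 MLF MCF WLF 225536 256 = true := by decide +kernel
theorem c_w_17_32 : chkPtRange 3 920808 MLF MCF WLF 225792 256 = true := by decide +kernel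
theorem c_w_17_33 : chkPtRange 3 920808 MLF MCF WLF 226048 256 = true := by decide +kernel
theorem c_w_17_34 : chkPtRange 3 920808 MLF MCF WLF 226304 256 = true := by decide +kernel
theorem c_w_17_35 : chkPtRange 3 920808 MLF MCF WLF 226560 256 = true := by decide +kernel
theorem c_w_17_36 : chkPtRange 3 920808 MLF MCF WLF 226816 256 = true := by decide +kernel
theorem c_w_17_37 : chkPtRange 3 920808 MLF MCF WLF 227072 256 = true := by decide +kernel
theorem c_w_17_38 : chkPtRange 3 920808 MLF MCF WLF 227328 256 = true := by decide +kernel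
theorem c_w_17_39 : chkPtRange 3 920808 MLF MCF WLF 227584 256 = true := by decide +kernel
theorem c_w_17_40 : chkPtRange 3 920808 MLF MCF WLF 227840 256 = true := by decide +kernel
theorem c_w_17_41 : chkPtRange 3 920808 MLF MCF WLF 228096 256 = true := by decide +kernel
theorem c_w_17_42 : chkPtRange 3 920808 MLF MCF WLF 228352 256 = true := by decide +kernel
theorem c_w_17_43 : chkPtRange 3 920808 MLF MCF WLF 228608 256 = true := by decide +kernel
theorem c_w_17_44 : chkPtRange 3 920808 MLF MCF WLF 228864 256 = true := by decide +kernel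
theorem c_w_17_45 : chkPtRange 3 920808 MLF MCF WLF 229120 256 = true := by decide +kernel
theorem c_w_17_46 : chkPtRange 3 920808 MLF MCF WLF 229376 256 = true := by decide +kernel
theorem c_w_17_47 : chkPtRange 3 920808 MLF MCF WLF 229632 256 = true := by decide +kernel
theorem c_w_17_48 : chkPtRange 3 920808 MLF MCF WLF 229888 256 = true := by decide +kernel
theorem c_w_17_49 : chkPtRange 3 920808 MLF MCF WLF 230144 256 = true := by decide +kernel

theorem ptOK_17 (j : ℕ) (h1 : 217600 ≤ j) (h2 : j < 230400) : PtOK j := by
  rcases Nat.lt_or_ge j 217856 with g | g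
  · exact ptOK_of_chk 217600 256 c_w_17_0 j (by omega) (by omega)
  clear h1
  have h1 := g
  clear g
  rcases Nat.lt_or_ge j 218112 with g | g
  · exact ptOK_of_chk 217856 256 c_w_17_1 j (by omega) (by omega)
  clear h1
  have h1 := g
  clear g
  rcases Nat.lt_or_ge j 218368 with g | g
  · exact ptOK_of_chk 218112 256 c_w_17_2 j (by omega) (by omega)
  clear h1
  have h1 := g
  clear g
  rcases Nat.lt_or_ge j 218624 with g | g
  · exact ptOK_of_chk 218368 256 c_w_17_3 j (by omega) (by omega)
  clear h1
  have h1 := g
  clear g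
  rcases Nat.lt_or_ge j 218880 with g | g
  · exact ptOK_of_chk 218624 256 c_w_17_4 j (by omega) (by omega)
  clear h1
  have h1 := g
  clear g
  rcases Nat.lt_or_ge j 219136 with g | g
  · exact ptOK_of_chk 218880 256 c_w_17_5 j (by omega) (by omega)
  clear h1
  have h1 := g
  clear g
  rcases Nat.lt_or_ge j 219392 with g | g
  · exact ptOK_of_chk 219136 256 c_w_17_6 j (by omega) (by omega)
  clear h1
  have h1 := g
  clear g
  rcases Nat.lt_or_ge j 219648 with g | g
  · exact ptOK_of_chk 219392 256 c_w_17_7 j (by omega) (by omega)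
  clear h1
  have h1 := g
  clear g
  rcases Nat.lt_or_ge j 219904 with g | g
  · exact ptOK_of_chk 219648 256 c_w_17_8 j (by omega) (by omega)
  clear h1
  have h1 := g
  clear g
  rcases Nat.lt_or_ge j 220160 with g | g
  · exact ptOK_of_chk 219904 256 c_w_17_9 j (by omega) (by omega)
  clear h1
  have h1 := g
  clear g
  rcases Nat.lt_or_ge j 220416 with g | g
  · exact ptOK_of_chk 220160 256 c_w_17_10 j (by omega) (by omega)
  clear h1
  have h1 := g
  clear g
  rcases Nat.lt_or_ge j 220672 with g | g
  · exact ptOK_of_chk 220416 256 c_w_17_11 j (by omega) (by omega)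
  clear h1
  have h1 := g
  clear g
  rcases Nat.lt_or_ge j 220928 with g | g
  · exact ptOK_of_chk 220672 256 c_w_17_12 j (by omega) (by omega)
  clear h1
  have h1 := g
  clear g
  rcases Nat.lt_or_ge j 221184 with g | g
  · exact ptOK_of_chk 220928 256 c_w_17_13 j (by omega) (by omega)
  clear h1
  have h1 := g
  clear g
  rcases Nat.lt_or_ge j 221440 with g | g
  · exact ptOK_of_chk 221184 256 c_w_17_14 j (by omega) (by omega)
  clear h1
  have h1 := g
  clear g
  rcases Nat.lt_or_ge j 221696 with g | g
  · exact ptOK_of_chk 221440 256 c_w_17_15 j (by omega) (by omega)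
  clear h1
  have h1 := g
  clear g
  rcases Nat.lt_or_ge j 221952 with g | g
  · exact ptOK_of_chk 221696 256 c_w_17_16 j (by omega) (by omega)
  clear h1
  have h1 := g
  clear g
  rcases Nat.lt_or_ge j 222208 with g | g
  · exact ptOK_of_chk 221952 256 c_w_17_17 j (by omega) (by omega)
  clear h1
  have h1 := g
  clear g
  rcases Nat.lt_or_ge j 222464 with g | g
  · exact ptOK_of_chk 222208 256 c_w_17_18 j (by omega) (by omega)
  clear h1
  have h1 := g
  clear g
  rcases Nat.lt_or_ge j 222720 with g | g
  · exact ptOK_of_chk 222464 256 c_w_17_19 j (by omega) (by omega)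
  clear h1
  have h1 := g
  clear g
  rcases Nat.lt_or_ge j 222976 with g | g
  · exact ptOK_of_chk 222720 256 c_w_17_20 j (by omega) (by omega)
  clear h1
  have h1 := g
  clear g
  rcases Nat.lt_or_ge j 223232 with g | g
  · exact ptOK_of_chk 222976 256 c_w_17_21 j (by omega) (by omega)
  clear h1
  have h1 := g
  clear g
  rcases Nat.lt_or_ge j 223488 with g | g
  · exact ptOK_of_chk 223232 256 c_w_17_22 j (by omega) (by omega)
  clear h1
  have h1 := g
  clear g
  rcases Nat.lt_or_ge j 223744 with g | g
  · exact ptOK_of_chk 223488 256 c_w_17_23 j (by omega) (by omega)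
  clear h1
  have h1 := g
  clear g
  rcases Nat.lt_or_ge j 224000 with g | g
  · exact ptOK_of_chk 223744 256 c_w_17_24 j (by omega) (by omega)
  clear h1
  have h1 := g
  clear g
  rcases Nat.lt_or_ge j 224256 with g | g
  · exact ptOK_of_chk 224000 256 c_w_17_25 j (by omega) (by omega)
  clear h1
  have h1 := g
  clear g
  rcases Nat.lt_or_ge j 224512 with g | g
  · exact ptOK_of_chk 224256 256 c_w_17_26 j (by omega) (by omega)
  clear h1
  have h1 := g
  clear g
  rcases Nat.lt_or_ge j 224768 with g | g
  · exact ptOK_of_chk 224512 256 c_w_17_27 j (by omega) (by omega)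
  clear h1
  have h1 := g
  clear g
  rcases Nat.lt_or_ge j 225024 with g | g
  · exact ptOK_of_chk 224768 256 c_w_17_28 j (by omega) (by omega)
  clear h1
  have h1 := g
  clear g
  rcases Nat.lt_or_ge j 225280 with g | g
  · exact ptOK_of_chk 225024 256 c_w_17_29 j (by omega) (by omega)
  clear h1
  have h1 := g
  clear g
  rcases Nat.lt_or_ge j 225536 with g | g
  · exact ptOK_of_chk 225280 256 c_w_17_30 j (by omega) (by omega)
  clear h1
  have h1 := g
  clear g
  rcases Nat.lt_or_ge j 225792 with g | g
  · exact ptOK_of_chk 225536 256 c_w_17_31 j (by omega) (by omega)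
  clear h1
  have h1 := g
  clear g
  rcases Nat.lt_or_ge j 226048 with g | g
  · exact ptOK_of_chk 225792 256 c_w_17_32 j (by omega) (by omega)
  clear h1
  have h1 := g
  clear g
  rcases Nat.lt_or_ge j 226304 with g | g
  · exact ptOK_of_chk 226048 256 c_w_17_33 j (by omega) (by omega)
  clear h1
  have h1 := g
  clear g
  rcases Nat.lt_or_ge j 226560 with g | g
  · exact ptOK_of_chk 226304 256 c_w_17_34 j (by omega) (by omega)
  clear h1
  have h1 := g
  clear g
  rcases Nat.lt_or_ge j 226816 with g | g
  · exact ptOK_of_chk 226560 256 c_w_17_35 j (by omega) (by omega)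
  clear h1
  have h1 := g
  clear g
  rcases Nat.lt_or_ge j 227072 with g | g
  · exact ptOK_of_chk 226816 256 c_w_17_36 j (by omega) (by omega)
  clear h1
  have h1 := g
  clear g
  rcases Nat.lt_or_ge j 227328 with g | g
  · exact ptOK_of_chk 227072 256 c_w_17_37 j (by omega) (by omega)
  clear h1
  have h1 := g
  clear g
  rcases Nat.lt_or_ge j 227584 with g | g
  · exact ptOK_of_chk 227328 256 c_w_17_38 j (by omega) (by omega)
  clear h1
  have h1 := g
  clear g
  rcases Nat.lt_or_ge j 227840 with g | g
  · exact ptOK_of_chk 227584 256 c_w_17_39 j (by omega) (by omega)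
  clear h1
  have h1 := g
  clear g
  rcases Nat.lt_or_ge j 228096 with g | g
  · exact ptOK_of_chk 227840 256 c_w_17_40 j (by omega) (by omega)
  clear h1
  have h1 := g
  clear g
  rcases Nat.lt_or_ge j 228352 with g | g
  · exact ptOK_of_chk 228096 256 c_w_17_41 j (by omega) (by omega)
  clear h1
  have h1 := g
  clear g
  rcases Nat.lt_or_ge j 228608 with g | g
  · exact ptOK_of_chk 228352 256 c_w_17_42 j (by omega) (by omega)
  clear h1
  have h1 := g
  clear g
  rcases Nat.lt_or_ge j 228864 with g | g
  · exact ptOK_of_chk 228608 256 c_w_17_43 j (by omega) (by omega)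
  clear h1
  have h1 := g
  clear g
  rcases Nat.lt_or_ge j 229120 with g | g
  · exact ptOK_of_chk 228864 256 c_w_17_44 j (by omega) (by omega)
  clear h1
  have h1 := g
  clear g
  rcases Nat.lt_or_ge j 229376 with g | g
  · exact ptOK_of_chk 229120 256 c_w_17_45 j (by omega) (by omega)
  clear h1
  have h1 := g
  clear g
  rcases Nat.lt_or_ge j 229632 with g | g
  · exact ptOK_of_chk 229376 256 c_w_17_46 j (by omega) (by omega)
  clear h1
  have h1 := g
  clear g
  rcases Nat.lt_or_ge j 229888 with g | g
  · exact ptOK_of_chk 229632 256 c_w_17_47 j (by omega) (by omega)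
  clear h1
  have h1 := g
  clear g
  rcases Nat.lt_or_ge j 230144 with g | g
  · exact ptOK_of_chk 229888 256 c_w_17_48 j (by omega) (by omega)
  clear h1
  have h1 := g
  clear g
  exact ptOK_of_chk 230144 256 c_w_17_49 j (by omega) (by omega)

end Cfsg.Agent.Lib.Helper4.F24M
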