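import Cfsg.Agent.Lib.Helper4.F24M.PtOK
set_option autoImplicit false
set_option maxRecDepth 1000000
set_option Elab.async false

/-! # The checks of the tables of the triple cover of the Fischer group at the points from 230400 to 243199 -/

namespace Cfsg.Agent.Lib.Helper4.F24M
open Cfsg.Agent.Lib.Helper4.TCov

theorem c_w_18_0 : chkPtRange 3 920808 MLF MCF WLF 230400 256 = true := by decide +kernel
theorem c_w_18_1 : chkPtRange 3 920808 MLF MCF WLF 230656 256 = true := by decide +kernel
theorem c_w_18_2 : chkPtRange 3 920808 MLF MCF WLF 230912 256 = true := by decide +kernel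
theorem c_w_18_3 : chkPtRange 3 920808 MLF MCF WLF 231168 256 = true := by decide +kernel
theorem c_w_18_4 : chkPtRange 3 920808 MLF MCF WLF 231424 256 = true := by decide +kernel
theorem c_w_18_5 : chkPtRange 3 920808 MLF MCF WLF 231680 256 = true := by decide +kernel
theorem c_w_18_6 : chkPtRange 3 920808 MLF MCF WLF 231936 256 = true := by decide +kernel
theorem c_w_18_7 : chkPtRange 3 920808 MLF MCF WLF 232192 256 = true := by decide +kernel
theorem c_w_18_8 : chkPtRange 3 920808 MLF MCF WLF 232448 256 = true := by decide +kernel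
theorem c_w_18_9 : chkPtRange 3 920808 MLF MCF WLF 232704 256 = true := by decide +kernel
theorem c_w_18_10 : chkPtRange 3 920808 MLF MCF WLF 232960 256 = true := by decide +kernel
theorem c_w_18_11 : chkPtRange 3 920808 MLF MCF WLF 233216 256 = true := by decide +kernel
theorem c_w_18_12 : chkPtRange 3 920808 MLF MCF WLF 233472 256 = true := by decide +kernel
theorem c_w_18_13 : chkPtRange 3 920808 MLF MCF WLF 233728 256 = true := by decide +kernel
theorem c_w_18_14 : chkPtRange 3 920808 MLF MCF WLF 233984 256 = true := by decide +kernel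
theorem c_w_18_15 : chkPtRange 3 920808 MLF MCF WLF 234240 256 = true := by decide +kernel
theorem c_w_18_16 : chkPtRange 3 920808 MLF MCF WLF 234496 256 = true := by decide +kernel
theorem c_w_18_17 : chkPtRange 3 920808 MLF MCF WLF 234752 256 = true := by decide +kernel
theorem c_w_18_18 : chkPtRange 3 920808 MLF MCF WLF 235008 256 = true := by decide +kernel
theorem c_w_18_19 : chkPtRange 3 920808 MLF MCF WLF 235264 256 = true := by decide +kernel
theorem c_w_18_20 : chkPtRange 3 920808 MLF MCF WLF 235520 256 = true := by decide +kernel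
theorem c_w_18_21 : chkPtRange 3 920808 MLF MCF WLF 235776 256 = true := by decide +kernel
theorem c_w_18_22 : chkPtRange 3 920808 MLF MCF WLF 236032 256 = true := by decide +kernel
theorem c_w_18_23 : chkPtRange 3 920808 MLF MCF WLF 236288 256 = true := by decide +kernel
theorem c_w_18_24 : chkPtRange 3 920808 MLF MCF WLF 236544 256 = true := by decide +kernel
theorem c_w_18_25 : chkPtRange 3 920808 MLF MCF WLF 236800 256 = true := by decide +kernel
theorem c_w_18_26 : chkPtRange 3 920808 MLF MCF WLF 237056 256 = true := by decide +kernel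
theorem c_w_18_27 : chkPtRange 3 920808 MLF MCF WLF 237312 256 = true := by decide +kernel
theorem c_w_18_28 : chkPtRange 3 920808 MLF MCF WLF 237568 256 = true := by decide +kernel
theorem c_w_18_29 : chkPtRange 3 920808 MLF MCF WLF 237824 256 = true := by decide +kernel
theorem c_w_18_30 : chkPtRange 3 920808 MLF MCF WLF 238080 256 = true := by decide +kernel
theorem c_w_18_31 : chkPtRange 3 920808 MLF MCF WLF 238336 256 = true := by decide +kernel
theorem c_w_18_32 : chkPtRange 3 920808 MLF MCF WLF 238592 256 = true := by decide +kernel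
theorem c_w_18_33 : chkPtRange 3 920808 MLF MCF WLF 238848 256 = true := by decide +kernel
theorem c_w_18_34 : chkPtRange 3 920808 MLF MCF WLF 239104 256 = true := by decide +kernel
theorem c_w_18_35 : chkPtRange 3 920808 MLF MCF WLF 239360 256 = true := by decide +kernel
theorem c_w_18_36 : chkPtRange 3 920808 MLF MCF WLF 239616 256 = true := by decide +kernel
theorem c_w_18_37 : chkPtRange 3 920808 MLF MCF WLF 239872 256 = true := by decide +kernel
theorem c_w_18_38 : chkPtRange 3 920808 MLF MCF WLF 240128 256 = true := by decide +kernel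
theorem c_w_18_39 : chkPtRange 3 920808 MLF MCF WLF 240384 256 = true := by decide +kernel
theorem c_w_18_40 : chkPtRange 3 920808 MLF MCF WLF 240640 256 = true := by decide +kernel
theorem c_w_18_41 : chkPtRange 3 920808 MLF MCF WLF 240896 256 = true := by decide +kernel
theorem c_w_18_42 : chkPtRange 3 920808 MLF MCF WLF 241152 256 = true := by decide +kernel
theorem c_w_18_43 : chkPtRange 3 920808 MLF MCF WLF 241408 256 = true := by decide +kernel
theorem c_w_18_44 : chkPtRange 3 920808 MLF MCF WLF 241664 256 = true := by decide +kernel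
theorem c_w_18_45 : chkPtRange 3 920808 MLF MCF WLF 241920 256 = true := by decide +kernel
theorem c_w_18_46 : chkPtRange 3 920808 MLF MCF WLF 242176 256 = true := by decide +kernel
theorem c_w_18_47 : chkPtRange 3 920808 MLF MCF WLF 242432 256 = true := by decide +kernel
theorem c_w_18_48 : chkPtRange 3 920808 MLF MCF WLF 242688 256 = true := by decide +kernel
theorem c_w_18_49 : chkPtRange 3 920808 MLF MCF WLF 242944 256 = true := by decide +kernel

theorem ptOK_18 (j : ℕ) (h1 : 230400 ≤ j) (h2 : j < 243200) : PtOK j := by
  rcases Nat.lt_or_ge j 230656 with g | g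
  · exact ptOK_of_chk 230400 256 c_w_18_0 j (by omega) (by omega)
  clear h1
  have h1 := g
  clear g
  rcases Nat.lt_or_ge j 230912 with g | g
  · exact ptOK_of_chk 230656 256 c_w_18_1 j (by omega) (by omega)
  clear h1
  have h1 := g
  clear g
  rcases Nat.lt_or_ge j 231168 with g | g
  · exact ptOK_of_chk 230912 256 c_w_18_2 j (by omega) (by omega)
  clear h1
  have h1 := g
  clear g
  rcases Nat.lt_or_ge j 231424 with g | g
  · exact ptOK_of_chk 231168 256 c_w_18_3 j (by omega) (by omega)
  clear h1
  have h1 := g
  clear g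
  rcases Nat.lt_or_ge j 231680 with g | g
  · exact ptOK_of_chk 231424 256 c_w_18_4 j (by omega) (by omega)
  clear h1
  have h1 := g
  clear g
  rcases Nat.lt_or_ge j 231936 with g | g
  · exact ptOK_of_chk 231680 256 c_w_18_5 j (by omega) (by omega)
  clear h1
  have h1 := g
  clear g
  rcases Nat.lt_or_ge j 232192 with g | g
  · exact ptOK_of_chk 231936 256 c_w_18_6 j (by omega) (by omega)
  clear h1
  have h1 := g
  clear g
  rcases Nat.lt_or_ge j 232448 with g | g
  · exact ptOK_of_chk 232192 256 c_w_18_7 j (by omega) (by omega)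
  clear h1
  have h1 := g
  clear g
  rcases Nat.lt_or_ge j 232704 with g | g
  · exact ptOK_of_chk 232448 256 c_w_18_8 j (by omega) (by omega)
  clear h1
  have h1 := g
  clear g
  rcases Nat.lt_or_ge j 232960 with g | g
  · exact ptOK_of_chk 232704 256 c_w_18_9 j (by omega) (by omega)
  clear h1
  have h1 := g
  clear g
  rcases Nat.lt_or_ge j 233216 with g | g
  · exact ptOK_of_chk 232960 256 c_w_18_10 j (by omega) (by omega)
  clear h1
  have h1 := g
  clear g
  rcases Nat.lt_or_ge j 233472 with g | g
  · exact ptOK_of_chk 233216 256 c_w_18_11 j (by omega) (by omega)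
  clear h1
  have h1 := g
  clear g
  rcases Nat.lt_or_ge j 233728 with g | g
  · exact ptOK_of_chk 233472 256 c_w_18_12 j (by omega) (by omega)
  clear h1
  have h1 := g
  clear g
  rcases Nat.lt_or_ge j 233984 with g | g
  · exact ptOK_of_chk 233728 256 c_w_18_13 j (by omega) (by omega)
  clear h1
  have h1 := g
  clear g
  rcases Nat.lt_or_ge j 234240 with g | g
  · exact ptOK_of_chk 233984 256 c_w_18_14 j (by omega) (by omega)
  clear h1
  have h1 := g
  clear g
  rcases Nat.lt_or_ge j 234496 with g | g
  · exact ptOK_of_chk 234240 256 c_w_18_15 j (by omega) (by omega)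
  clear h1
  have h1 := g
  clear g
  rcases Nat.lt_or_ge j 234752 with g | g
  · exact ptOK_of_chk 234496 256 c_w_18_16 j (by omega) (by omega)
  clear h1
  have h1 := g
  clear g
  rcases Nat.lt_or_ge j 235008 with g | g
  · exact ptOK_of_chk 234752 256 c_w_18_17 j (by omega) (by omega)
  clear h1
  have h1 := g
  clear g
  rcases Nat.lt_or_ge j 235264 with g | g
  · exact ptOK_of_chk 235008 256 c_w_18_18 j (by omega) (by omega)
  clear h1
  have h1 := g
  clear g
  rcases Nat.lt_or_ge j 235520 with g | g
  · exact ptOK_of_chk 235264 256 c_w_18_19 j (by omega) (by omega)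
  clear h1
  have h1 := g
  clear g
  rcases Nat.lt_or_ge j 235776 with g | g
  · exact ptOK_of_chk 235520 256 c_w_18_20 j (by omega) (by omega)
  clear h1
  have h1 := g
  clear g
  rcases Nat.lt_or_ge j 236032 with g | g
  · exact ptOK_of_chk 235776 256 c_w_18_21 j (by omega) (by omega)
  clear h1
  have h1 := g
  clear g
  rcases Nat.lt_or_ge j 236288 with g | g
  · exact ptOK_of_chk 236032 256 c_w_18_22 j (by omega) (by omega)
  clear h1
  have h1 := g
  clear g
  rcases Nat.lt_or_ge j 236544 with g | g
  · exact ptOK_of_chk 236288 256 c_w_18_23 j (by omega) (by omega)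
  clear h1
  have h1 := g
  clear g
  rcases Nat.lt_or_ge j 236800 with g | g
  · exact ptOK_of_chk 236544 256 c_w_18_24 j (by omega) (by omega)
  clear h1
  have h1 := g
  clear g
  rcases Nat.lt_or_ge j 237056 with g | g
  · exact ptOK_of_chk 236800 256 c_w_18_25 j (by omega) (by omega)
  clear h1
  have h1 := g
  clear g
  rcases Nat.lt_or_ge j 237312 with g | g
  · exact ptOK_of_chk 237056 256 c_w_18_26 j (by omega) (by omega)
  clear h1
  have h1 := g
  clear g
  rcases Nat.lt_or_ge j 237568 with g | g
  · exact ptOK_of_chk 237312 256 c_w_18_27 j (by omega) (by omega)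
  clear h1
  have h1 := g
  clear g
  rcases Nat.lt_or_ge j 237824 with g | g
  · exact ptOK_of_chk 237568 256 c_w_18_28 j (by omega) (by omega)
  clear h1
  have h1 := g
  clear g
  rcases Nat.lt_or_ge j 238080 with g | g
  · exact ptOK_of_chk 237824 256 c_w_18_29 j (by omega) (by omega)
  clear h1
  have h1 := g
  clear g
  rcases Nat.lt_or_ge j 238336 with g | g
  · exact ptOK_of_chk 238080 256 c_w_18_30 j (by omega) (by omega)
  clear h1
  have h1 := g
  clear g
  rcases Nat.lt_or_ge j 238592 with g | g
  · exact ptOK_of_chk 238336 256 c_w_18_31 j (by omega) (by omega)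
  clear h1
  have h1 := g
  clear g
  rcases Nat.lt_or_ge j 238848 with g | g
  · exact ptOK_of_chk 238592 256 c_w_18_32 j (by omega) (by omega)
  clear h1
  have h1 := g
  clear g
  rcases Nat.lt_or_ge j 239104 with g | g
  · exact ptOK_of_chk 238848 256 c_w_18_33 j (by omega) (by omega)
  clear h1
  have h1 := g
  clear g
  rcases Nat.lt_or_ge j 239360 with g | g
  · exact ptOK_of_chk 239104 256 c_w_18_34 j (by omega) (by omega)
  clear h1
  have h1 := g
  clear g
  rcases Nat.lt_or_ge j 239616 with g | g
  · exact ptOK_of_chk 239360 256 c_w_18_35 j (by omega) (by omega)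
  clear h1
  have h1 := g
  clear g
  rcases Nat.lt_or_ge j 239872 with g | g
  · exact ptOK_of_chk 239616 256 c_w_18_36 j (by omega) (by omega)
  clear h1
  have h1 := g
  clear g
  rcases Nat.lt_or_ge j 240128 with g | g
  · exact ptOK_of_chk 239872 256 c_w_18_37 j (by omega) (by omega)
  clear h1
  have h1 := g
  clear g
  rcases Nat.lt_or_ge j 240384 with g | g
  · exact ptOK_of_chk 240128 256 c_w_18_38 j (by omega) (by omega)
  clear h1
  have h1 := g
  clear g
  rcases Nat.lt_or_ge j 240640 with g | g
  · exact ptOK_of_chk 240384 256 c_w_18_39 j (by omega) (by omega)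
  clear h1
  have h1 := g
  clear g
  rcases Nat.lt_or_ge j 240896 with g | g
  · exact ptOK_of_chk 240640 256 c_w_18_40 j (by omega) (by omega)
  clear h1
  have h1 := g
  clear g
  rcases Nat.lt_or_ge j 241152 with g | g
  · exact ptOK_of_chk 240896 256 c_w_18_41 j (by omega) (by omega)
  clear h1
  have h1 := g
  clear g
  rcases Nat.lt_or_ge j 241408 with g | g
  · exact ptOK_of_chk 241152 256 c_w_18_42 j (by omega) (by omega)
  clear h1
  have h1 := g
  clear g
  rcases Nat.lt_or_ge j 241664 with g | g
  · exact ptOK_of_chk 241408 256 c_w_18_43 j (by omega) (by omega)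
  clear h1
  have h1 := g
  clear g
  rcases Nat.lt_or_ge j 241920 with g | g
  · exact ptOK_of_chk 241664 256 c_w_18_44 j (by omega) (by omega)
  clear h1
  have h1 := g
  clear g
  rcases Nat.lt_or_ge j 242176 with g | g
  · exact ptOK_of_chk 241920 256 c_w_18_45 j (by omega) (by omega)
  clear h1
  have h1 := g
  clear g
  rcases Nat.lt_or_ge j 242432 with g | g
  · exact ptOK_of_chk 242176 256 c_w_18_46 j (by omega) (by omega)
  clear h1
  have h1 := g
  clear g
  rcases Nat.lt_or_ge j 242688 with g | g
  · exact ptOK_of_chk 242432 256 c_w_18_47 j (by omega) (by omega)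
  clear h1
  have h1 := g
  clear g
  rcases Nat.lt_or_ge j 242944 with g | g
  · exact ptOK_of_chk 242688 256 c_w_18_48 j (by omega) (by omega)
  clear h1
  have h1 := g
  clear g
  exact ptOK_of_chk 242944 256 c_w_18_49 j (by omega) (by omega)

end Cfsg.Agent.Lib.Helper4.F24M
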