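import Cfsg.Agent.Lib.Helper4.F24M.PtOK
set_option autoImplicit false
set_option maxRecDepth 1000000
set_option Elab.async false

/-! # The checks of the tables of the triple cover of the Fischer group at the points from 243200 to 255999 -/

namespace Cfsg.Agent.Lib.Helper4.F24M
open Cfsg.Agent.Lib.Helper4.TCov

theorem c_w_19_0 : chkPtRange 3 920808 MLF MCF WLF 243200 256 = true := by decide +kernel
theorem c_w_19_1 : chkPtRange 3 920808 MLF MCF WLF 243456 256 = true := by decide +kernel
theorem c_w_19_2 : chkPtRange 3 920808 MLF MCF WLF 243712 256 = true := by decide +kernel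
theorem c_w_19_3 : chkPtRange 3 920808 MLF MCF WLF 243968 256 = true := by decide +kernel
theorem c_w_19_4 : chkPtRange 3 920808 MLF MCF WLF 244224 256 = true := by decide +kernel
theorem c_w_19_5 : chkPtRange 3 920808 MLF MCF WLF 244480 256 = true := by decide +kernel
theorem c_w_19_6 : chkPtRange 3 920808 MLF MCF WLF 244736 256 = true := by decide +kernel
theorem c_w_19_7 : chkPtRange 3 920808 MLF MCF WLF 244992 256 = true := by decide +kernel
theorem c_w_19_8 : chkPtRange 3 920808 MLF MCF WLF 245248 256 = true := by decide +kernel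
theorem c_w_19_9 : chkPtRange 3 920808 MLF MCF WLF 245504 256 = true := by decide +kernel
theorem c_w_19_10 : chkPtRange 3 920808 MLF MCF WLF 245760 256 = true := by decide +kernel
theorem c_w_19_11 : chkPtRange 3 920808 MLF MCF WLF 246016 256 = true := by decide +kernel
theorem c_w_19_12 : chkPtRange 3 920808 MLF MCF WLF 246272 256 = true := by decide +kernel
theorem c_w_19_13 : chkPtRange 3 920808 MLF MCF WLF 246528 256 = true := by decide +kernel
theorem c_w_19_14 : chkPtRange 3 920808 MLF MCF WLF 246784 256 = true := by decide +kernel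
theorem c_w_19_15 : chkPtRange 3 920808 MLF MCF WLF 247040 256 = true := by decide +kernel
theorem c_w_19_16 : chkPtRange 3 920808 MLF MCF WLF 247296 256 = true := by decide +kernel
theorem c_w_19_17 : chkPtRange 3 920808 MLF MCF WLF 247552 256 = true := by decide +kernel
theorem c_w_19_18 : chkPtRange 3 920808 MLF MCF WLF 247808 256 = true := by decide +kernel
theorem c_w_19_19 : chkPtRange 3 920808 MLF MCF WLF 248064 256 = true := by decide +kernel
theorem c_w_19_20 : chkPtRange 3 920808 MLF MCF WLF 248320 256 = true := by decide +kernel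
theorem c_w_19_21 : chkPtRange 3 920808 MLF MCF WLF 248576 256 = true := by decide +kernel
theorem c_w_19_22 : chkPtRange 3 920808 MLF MCF WLF 248832 256 = true := by decide +kernel
theorem c_w_19_23 : chkPtRange 3 920808 MLF MCF WLF 249088 256 = true := by decide +kernel
theorem c_w_19_24 : chkPtRange 3 920808 MLF MCF WLF 249344 256 = true := by decide +kernel
theorem c_w_19_25 : chkPtRange 3 920808 MLF MCF WLF 249600 256 = true := by decide +kernel
theorem c_w_19_26 : chkPtRange 3 920808 MLF MCF WLF 249856 256 = true := by decide +kernel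
theorem c_w_19_27 : chkPtRange 3 920808 MLF MCF WLF 250112 256 = true := by decide +kernel
theorem c_w_19_28 : chkPtRange 3 920808 MLF MCF WLF 250368 256 = true := by decide +kernel
theorem c_w_19_29 : chkPtRange 3 920808 MLF MCF WLF 250624 256 = true := by decide +kernel
theorem c_w_19_30 : chkPtRange 3 920808 MLF MCF WLF 250880 256 = true := by decide +kernel
theorem c_w_19_31 : chkPtRange 3 920808 MLF MCF WLF 251136 256 = true := by decide +kernel
theorem c_w_19_32 : chkPtRange 3 920808 MLF MCF WLF 251392 256 = true := by decide +kernel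
theorem c_w_19_33 : chkPtRange 3 920808 MLF MCF WLF 251648 256 = true := by decide +kernel
theorem c_w_19_34 : chkPtRange 3 920808 MLF MCF WLF 251904 256 = true := by decide +kernel
theorem c_w_19_35 : chkPtRange 3 920808 MLF MCF WLF 252160 256 = true := by decide +kernel
theorem c_w_19_36 : chkPtRange 3 920808 MLF MCF WLF 252416 256 = true := by decide +kernel
theorem c_w_19_37 : chkPtRange 3 920808 MLF MCF WLF 252672 256 = true := by decide +kernel
theorem c_w_19_38 : chkPtRange 3 920808 MLF MCF WLF 252928 256 = true := by decide +kernel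
theorem c_w_19_39 : chkPtRange 3 920808 MLF MCF WLF 253184 256 = true := by decide +kernel
theorem c_w_19_40 : chkPtRange 3 920808 MLF MCF WLF 253440 256 = true := by decide +kernel
theorem c_w_19_41 : chkPtRange 3 920808 MLF MCF WLF 253696 256 = true := by decide +kernel
theorem c_w_19_42 : chkPtRange 3 920808 MLF MCF WLF 253952 256 = true := by decide +kernel
theorem c_w_19_43 : chkPtRange 3 920808 MLF MCF WLF 254208 256 = true := by decide +kernel
theorem c_w_19_44 : chkPtRange 3 920808 MLF MCF WLF 254464 256 = true := by decide +kernel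
theorem c_w_19_45 : chkPtRange 3 920808 MLF MCF WLF 254720 256 = true := by decide +kernel
theorem c_w_19_46 : chkPtRange 3 920808 MLF MCF WLF 254976 256 = true := by decide +kernel
theorem c_w_19_47 : chkPtRange 3 920808 MLF MCF WLF 255232 256 = true := by decide +kernel
theorem c_w_19_48 : chkPtRange 3 920808 MLF MCF WLF 255488 256 = true := by decide +kernel
theorem c_w_19_49 : chkPtRange 3 920808 MLF MCF WLF 255744 256 = true := by decide +kernel

theorem ptOK_19 (j : ℕ) (h1 : 243200 ≤ j) (h2 : j < 256000) : PtOK j := by
  rcases Nat.lt_or_ge j 243456 with g | g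
  · exact ptOK_of_chk 243200 256 c_w_19_0 j (by omega) (by omega)
  clear h1
  have h1 := g
  clear g
  rcases Nat.lt_or_ge j 243712 with g | g
  · exact ptOK_of_chk 243456 256 c_w_19_1 j (by omega) (by omega)
  clear h1
  have h1 := g
  clear g
  rcases Nat.lt_or_ge j 243968 with g | g
  · exact ptOK_of_chk 243712 256 c_w_19_2 j (by omega) (by omega)
  clear h1
  have h1 := g
  clear g
  rcases Nat.lt_or_ge j 244224 with g | g
  · exact ptOK_of_chk 243968 256 c_w_19_3 j (by omega) (by omega)
  clear h1
  have h1 := g
  clear g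
  rcases Nat.lt_or_ge j 244480 with g | g
  · exact ptOK_of_chk 244224 256 c_w_19_4 j (by omega) (by omega)
  clear h1
  have h1 := g
  clear g
  rcases Nat.lt_or_ge j 244736 with g | g
  · exact ptOK_of_chk 244480 256 c_w_19_5 j (by omega) (by omega)
  clear h1
  have h1 := g
  clear g
  rcases Nat.lt_or_ge j 244992 with g | g
  · exact ptOK_of_chk 244736 256 c_w_19_6 j (by omega) (by omega)
  clear h1
  have h1 := g
  clear g
  rcases Nat.lt_or_ge j 245248 with g | g
  · exact ptOK_of_chk 244992 256 c_w_19_7 j (by omega) (by omega)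
  clear h1
  have h1 := g
  clear g
  rcases Nat.lt_or_ge j 245504 with g | g
  · exact ptOK_of_chk 245248 256 c_w_19_8 j (by omega) (by omega)
  clear h1
  have h1 := g
  clear g
  rcases Nat.lt_or_ge j 245760 with g | g
  · exact ptOK_of_chk 245504 256 c_w_19_9 j (by omega) (by omega)
  clear h1
  have h1 := g
  clear g
  rcases Nat.lt_or_ge j 246016 with g | g
  · exact ptOK_of_chk 245760 256 c_w_19_10 j (by omega) (by omega)
  clear h1
  have h1 := g
  clear g
  rcases Nat.lt_or_ge j 246272 with g | g
  · exact ptOK_of_chk 246016 256 c_w_19_11 j (by omega) (by omega)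
  clear h1
  have h1 := g
  clear g
  rcases Nat.lt_or_ge j 246528 with g | g
  · exact ptOK_of_chk 246272 256 c_w_19_12 j (by omega) (by omega)
  clear h1
  have h1 := g
  clear g
  rcases Nat.lt_or_ge j 246784 with g | g
  · exact ptOK_of_chk 246528 256 c_w_19_13 j (by omega) (by omega)
  clear h1
  have h1 := g
  clear g
  rcases Nat.lt_or_ge j 247040 with g | g
  · exact ptOK_of_chk 246784 256 c_w_19_14 j (by omega) (by omega)
  clear h1
  have h1 := g
  clear g
  rcases Nat.lt_or_ge j 247296 with g | g
  · exact ptOK_of_chk 247040 256 c_w_19_15 j (by omega) (by omega)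
  clear h1
  have h1 := g
  clear g
  rcases Nat.lt_or_ge j 247552 with g | g
  · exact ptOK_of_chk 247296 256 c_w_19_16 j (by omega) (by omega)
  clear h1
  have h1 := g
  clear g
  rcases Nat.lt_or_ge j 247808 with g | g
  · exact ptOK_of_chk 247552 256 c_w_19_17 j (by omega) (by omega)
  clear h1
  have h1 := g
  clear g
  rcases Nat.lt_or_ge j 248064 with g | g
  · exact ptOK_of_chk 247808 256 c_w_19_18 j (by omega) (by omega)
  clear h1
  have h1 := g
  clear g
  rcases Nat.lt_or_ge j 248320 with g | g
  · exact ptOK_of_chk 248064 256 c_w_19_19 j (by omega) (by omega)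
  clear h1
  have h1 := g
  clear g
  rcases Nat.lt_or_ge j 248576 with g | g
  · exact ptOK_of_chk 248320 256 c_w_19_20 j (by omega) (by omega)
  clear h1
  have h1 := g
  clear g
  rcases Nat.lt_or_ge j 248832 with g | g
  · exact ptOK_of_chk 248576 256 c_w_19_21 j (by omega) (by omega)
  clear h1
  have h1 := g
  clear g
  rcases Nat.lt_or_ge j 249088 with g | g
  · exact ptOK_of_chk 248832 256 c_w_19_22 j (by omega) (by omega)
  clear h1
  have h1 := g
  clear g
  rcases Nat.lt_or_ge j 249344 with g | g
  · exact ptOK_of_chk 249088 256 c_w_19_23 j (by omega) (by omega)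
  clear h1
  have h1 := g
  clear g
  rcases Nat.lt_or_ge j 249600 with g | g
  · exact ptOK_of_chk 249344 256 c_w_19_24 j (by omega) (by omega)
  clear h1
  have h1 := g
  clear g
  rcases Nat.lt_or_ge j 249856 with g | g
  · exact ptOK_of_chk 249600 256 c_w_19_25 j (by omega) (by omega)
  clear h1
  have h1 := g
  clear g
  rcases Nat.lt_or_ge j 250112 with g | g
  · exact ptOK_of_chk 249856 256 c_w_19_26 j (by omega) (by omega)
  clear h1
  have h1 := g
  clear g
  rcases Nat.lt_or_ge j 250368 with g | g
  · exact ptOK_of_chk 250112 256 c_w_19_27 j (by omega) (by omega)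
  clear h1
  have h1 := g
  clear g
  rcases Nat.lt_or_ge j 250624 with g | g
  · exact ptOK_of_chk 250368 256 c_w_19_28 j (by omega) (by omega)
  clear h1
  have h1 := g
  clear g
  rcases Nat.lt_or_ge j 250880 with g | g
  · exact ptOK_of_chk 250624 256 c_w_19_29 j (by omega) (by omega)
  clear h1
  have h1 := g
  clear g
  rcases Nat.lt_or_ge j 251136 with g | g
  · exact ptOK_of_chk 250880 256 c_w_19_30 j (by omega) (by omega)
  clear h1
  have h1 := g
  clear g
  rcases Nat.lt_or_ge j 251392 with g | g
  · exact ptOK_of_chk 251136 256 c_w_19_31 j (by omega) (by omega)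
  clear h1
  have h1 := g
  clear g
  rcases Nat.lt_or_ge j 251648 with g | g
  · exact ptOK_of_chk 251392 256 c_w_19_32 j (by omega) (by omega)
  clear h1
  have h1 := g
  clear g
  rcases Nat.lt_or_ge j 251904 with g | g
  · exact ptOK_of_chk 251648 256 c_w_19_33 j (by omega) (by omega)
  clear h1
  have h1 := g
  clear g
  rcases Nat.lt_or_ge j 252160 with g | g
  · exact ptOK_of_chk 251904 256 c_w_19_34 j (by omega) (by omega)
  clear h1
  have h1 := g
  clear g
  rcases Nat.lt_or_ge j 252416 with g | g
  · exact ptOK_of_chk 252160 256 c_w_19_35 j (by omega) (by omega)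
  clear h1
  have h1 := g
  clear g
  rcases Nat.lt_or_ge j 252672 with g | g
  · exact ptOK_of_chk 252416 256 c_w_19_36 j (by omega) (by omega)
  clear h1
  have h1 := g
  clear g
  rcases Nat.lt_or_ge j 252928 with g | g
  · exact ptOK_of_chk 252672 256 c_w_19_37 j (by omega) (by omega)
  clear h1
  have h1 := g
  clear g
  rcases Nat.lt_or_ge j 253184 with g | g
  · exact ptOK_of_chk 252928 256 c_w_19_38 j (by omega) (by omega)
  clear h1
  have h1 := g
  clear g
  rcases Nat.lt_or_ge j 253440 with g | g
  · exact ptOK_of_chk 253184 256 c_w_19_39 j (by omega) (by omega)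
  clear h1
  have h1 := g
  clear g
  rcases Nat.lt_or_ge j 253696 with g | g
  · exact ptOK_of_chk 253440 256 c_w_19_40 j (by omega) (by omega)
  clear h1
  have h1 := g
  clear g
  rcases Nat.lt_or_ge j 253952 with g | g
  · exact ptOK_of_chk 253696 256 c_w_19_41 j (by omega) (by omega)
  clear h1
  have h1 := g
  clear g
  rcases Nat.lt_or_ge j 254208 with g | g
  · exact ptOK_of_chk 253952 256 c_w_19_42 j (by omega) (by omega)
  clear h1
  have h1 := g
  clear g
  rcases Nat.lt_or_ge j 254464 with g | g
  · exact ptOK_of_chk 254208 256 c_w_19_43 j (by omega) (by omega)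
  clear h1
  have h1 := g
  clear g
  rcases Nat.lt_or_ge j 254720 with g | g
  · exact ptOK_of_chk 254464 256 c_w_19_44 j (by omega) (by omega)
  clear h1
  have h1 := g
  clear g
  rcases Nat.lt_or_ge j 254976 with g | g
  · exact ptOK_of_chk 254720 256 c_w_19_45 j (by omega) (by omega)
  clear h1
  have h1 := g
  clear g
  rcases Nat.lt_or_ge j 255232 with g | g
  · exact ptOK_of_chk 254976 256 c_w_19_46 j (by omega) (by omega)
  clear h1
  have h1 := g
  clear g
  rcases Nat.lt_or_ge j 255488 with g | g
  · exact ptOK_of_chk 255232 256 c_w_19_47 j (by omega) (by omega)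
  clear h1
  have h1 := g
  clear g
  rcases Nat.lt_or_ge j 255744 with g | g
  · exact ptOK_of_chk 255488 256 c_w_19_48 j (by omega) (by omega)
  clear h1
  have h1 := g
  clear g
  exact ptOK_of_chk 255744 256 c_w_19_49 j (by omega) (by omega)

end Cfsg.Agent.Lib.Helper4.F24M
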