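import Cfsg.Agent.Lib.Helper4.F24M.PtOK
set_option autoImplicit false
set_option maxRecDepth 1000000
set_option Elab.async false

/-! # The checks of the tables of the triple cover of the Fischer group at the points from 25600 to 38399 -/

namespace Cfsg.Agent.Lib.Helper4.F24M
open Cfsg.Agent.Lib.Helper4.TCov

theorem c_w_2_0 : chkPtRange 3 920808 MLF MCF WLF 25600 256 = true := by decide +kernel
theorem c_w_2_1 : chkPtRange 3 920808 MLF MCF WLF 25856 256 = true := by decide +kernel
theorem c_w_2_2 : chkPtRange 3 920808 MLF MCF WLF 26112 256 = true := by decide +kernel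
theorem c_w_2_3 : chkPtRange 3 920808 MLF MCF WLF 26368 256 = true := by decide +kernel
theorem c_w_2_4 : chkPtRange 3 920808 MLF MCF WLF 26624 256 = true := by decide +kernel
theorem c_w_2_5 : chkPtRange 3 920808 MLF MCF WLF 26880 256 = true := by decide +kernel
theorem c_w_2_6 : chkPtRange 3 920808 MLF MCF WLF 27136 256 = true := by decide +kernel
theorem c_w_2_7 : chkPtRange 3 920808 MLF MCF WLF 27392 256 = true := by decide +kernel
theorem c_w_2_8 : chkPtRange 3 920808 MLF MCF WLF 27648 256 = true := by decide +kernel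
theorem c_w_2_9 : chkPtRange 3 920808 MLF MCF WLF 27904 256 = true := by decide +kernel
theorem c_w_2_10 : chkPtRange 3 920808 MLF MCF WLF 28160 256 = true := by decide +kernel
theorem c_w_2_11 : chkPtRange 3 920808 MLF MCF WLF 28416 256 = true := by decide +kernel
theorem c_w_2_12 : chkPtRange 3 920808 MLF MCF WLF 28672 256 = true := by decide +kernel
theorem c_w_2_13 : chkPtRange 3 920808 MLF MCF WLF 28928 256 = true := by decide +kernel
theorem c_w_2_14 : chkPtRange 3 920808 MLF MCF WLF 29184 256 = true := by decide +kernel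
theorem c_w_2_15 : chkPtRange 3 920808 MLF MCF WLF 29440 256 = true := by decide +kernel
theorem c_w_2_16 : chkPtRange 3 920808 MLF MCF WLF 29696 256 = true := by decide +kernel
theorem c_w_2_17 : chkPtRange 3 920808 MLF MCF WLF 29952 256 = true := by decide +kernel
theorem c_w_2_18 : chkPtRange 3 920808 MLF MCF WLF 30208 256 = true := by decide +kernel
theorem c_w_2_19 : chkPtRange 3 920808 MLF MCF WLF 30464 256 = true := by decide +kernel
theorem c_w_2_20 : chkPtRange 3 920808 MLF MCF WLF 30720 256 = true := by decide +kernel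
theorem c_w_2_21 : chkPtRange 3 920808 MLF MCF WLF 30976 256 = true := by decide +kernel
theorem c_w_2_22 : chkPtRange 3 920808 MLF MCF WLF 31232 256 = true := by decide +kernel
theorem c_w_2_23 : chkPtRange 3 920808 MLF MCF WLF 31488 256 = true := by decide +kernel
theorem c_w_2_24 : chkPtRange 3 920808 MLF MCF WLF 31744 256 = true := by decide +kernel
theorem c_w_2_25 : chkPtRange 3 920808 MLF MCF WLF 32000 256 = true := by decide +kernel
theorem c_w_2_26 : chkPtRange 3 920808 MLF MCF WLF 32256 256 = true := by decide +kernel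
theorem c_w_2_27 : chkPtRange 3 920808 MLF MCF WLF 32512 256 = true := by decide +kernel
theorem c_w_2_28 : chkPtRange 3 920808 MLF MCF WLF 32768 256 = true := by decide +kernel
theorem c_w_2_29 : chkPtRange 3 920808 MLF MCF WLF 33024 256 = true := by decide +kernel
theorem c_w_2_30 : chkPtRange 3 920808 MLF MCF WLF 33280 256 = true := by decide +kernel
theorem c_w_2_31 : chkPtRange 3 920808 MLF MCF WLF 33536 256 = true := by decide +kernel
theorem c_w_2_32 : chkPtRange 3 920808 MLF MCF WLF 33792 256 = true := by decide +kernel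
theorem c_w_2_33 : chkPtRange 3 920808 MLF MCF WLF 34048 256 = true := by decide +kernel
theorem c_w_2_34 : chkPtRange 3 920808 MLF MCF WLF 34304 256 = true := by decide +kernel
theorem c_w_2_35 : chkPtRange 3 920808 MLF MCF WLF 34560 256 = true := by decide +kernel
theorem c_w_2_36 : chkPtRange 3 920808 MLF MCF WLF 34816 256 = true := by decide +kernel
theorem c_w_2_37 : chkPtRange 3 920808 MLF MCF WLF 35072 256 = true := by decide +kernel
theorem c_w_2_38 : chkPtRange 3 920808 MLF MCF WLF 35328 256 = true := by decide +kernel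
theorem c_w_2_39 : chkPtRange 3 920808 MLF MCF WLF 35584 256 = true := by decide +kernel
theorem c_w_2_40 : chkPtRange 3 920808 MLF MCF WLF 35840 256 = true := by decide +kernel
theorem c_w_2_41 : chkPtRange 3 920808 MLF MCF WLF 36096 256 = true := by decide +kernel
theorem c_w_2_42 : chkPtRange 3 920808 MLF MCF WLF 36352 256 = true := by decide +kernel
theorem c_w_2_43 : chkPtRange 3 920808 MLF MCF WLF 36608 256 = true := by decide +kernel
theorem c_w_2_44 : chkPtRange 3 920808 MLF MCF WLF 36864 256 = true := by decide +kernel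
theorem c_w_2_45 : chkPtRange 3 920808 MLF MCF WLF 37120 256 = true := by decide +kernel
theorem c_w_2_46 : chkPtRange 3 920808 MLF MCF WLF 37376 256 = true := by decide +kernel
theorem c_w_2_47 : chkPtRange 3 920808 MLF MCF WLF 37632 256 = true := by decide +kernel
theorem c_w_2_48 : chkPtRange 3 920808 MLF MCF WLF 37888 256 = true := by decide +kernel
theorem c_w_2_49 : chkPtRange 3 920808 MLF MCF WLF 38144 256 = true := by decide +kernel

theorem ptOK_2 (j : ℕ) (h1 : 25600 ≤ j) (h2 : j < 38400) : PtOK j := by
  rcases Nat.lt_or_ge j 25856 with g | g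
  · exact ptOK_of_chk 25600 256 c_w_2_0 j (by omega) (by omega)
  clear h1
  have h1 := g
  clear g
  rcases Nat.lt_or_ge j 26112 with g | g
  · exact ptOK_of_chk 25856 256 c_w_2_1 j (by omega) (by omega)
  clear h1
  have h1 := g
  clear g
  rcases Nat.lt_or_ge j 26368 with g | g
  · exact ptOK_of_chk 26112 256 c_w_2_2 j (by omega) (by omega)
  clear h1
  have h1 := g
  clear g
  rcases Nat.lt_or_ge j 26624 with g | g
  · exact ptOK_of_chk 26368 256 c_w_2_3 j (by omega) (by omega)
  clear h1
  have h1 := g
  clear g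
  rcases Nat.lt_or_ge j 26880 with g | g
  · exact ptOK_of_chk 26624 256 c_w_2_4 j (by omega) (by omega)
  clear h1
  have h1 := g
  clear g
  rcases Nat.lt_or_ge j 27136 with g | g
  · exact ptOK_of_chk 26880 256 c_w_2_5 j (by omega) (by omega)
  clear h1
  have h1 := g
  clear g
  rcases Nat.lt_or_ge j 27392 with g | g
  · exact ptOK_of_chk 27136 256 c_w_2_6 j (by omega) (by omega)
  clear h1
  have h1 := g
  clear g
  rcases Nat.lt_or_ge j 27648 with g | g
  · exact ptOK_of_chk 27392 256 c_w_2_7 j (by omega) (by omega)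
  clear h1
  have h1 := g
  clear g
  rcases Nat.lt_or_ge j 27904 with g | g
  · exact ptOK_of_chk 27648 256 c_w_2_8 j (by omega) (by omega)
  clear h1
  have h1 := g
  clear g
  rcases Nat.lt_or_ge j 28160 with g | g
  · exact ptOK_of_chk 27904 256 c_w_2_9 j (by omega) (by omega)
  clear h1
  have h1 := g
  clear g
  rcases Nat.lt_or_ge j 28416 with g | g
  · exact ptOK_of_chk 28160 256 c_w_2_10 j (by omega) (by omega)
  clear h1
  have h1 := g
  clear g
  rcases Nat.lt_or_ge j 28672 with g | g
  · exact ptOK_of_chk 28416 256 c_w_2_11 j (by omega) (by omega)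
  clear h1
  have h1 := g
  clear g
  rcases Nat.lt_or_ge j 28928 with g | g
  · exact ptOK_of_chk 28672 256 c_w_2_12 j (by omega) (by omega)
  clear h1
  have h1 := g
  clear g
  rcases Nat.lt_or_ge j 29184 with g | g
  · exact ptOK_of_chk 28928 256 c_w_2_13 j (by omega) (by omega)
  clear h1
  have h1 := g
  clear g
  rcases Nat.lt_or_ge j 29440 with g | g
  · exact ptOK_of_chk 29184 256 c_w_2_14 j (by omega) (by omega)
  clear h1
  have h1 := g
  clear g
  rcases Nat.lt_or_ge j 29696 with g | g
  · exact ptOK_of_chk 29440 256 c_w_2_15 j (by omega) (by omega)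
  clear h1
  have h1 := g
  clear g
  rcases Nat.lt_or_ge j 29952 with g | g
  · exact ptOK_of_chk 29696 256 c_w_2_16 j (by omega) (by omega)
  clear h1
  have h1 := g
  clear g
  rcases Nat.lt_or_ge j 30208 with g | g
  · exact ptOK_of_chk 29952 256 c_w_2_17 j (by omega) (by omega)
  clear h1
  have h1 := g
  clear g
  rcases Nat.lt_or_ge j 30464 with g | g
  · exact ptOK_of_chk 30208 256 c_w_2_18 j (by omega) (by omega)
  clear h1
  have h1 := g
  clear g
  rcases Nat.lt_or_ge j 30720 with g | g
  · exact ptOK_of_chk 30464 256 c_w_2_19 j (by omega) (by omega)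
  clear h1
  have h1 := g
  clear g
  rcases Nat.lt_or_ge j 30976 with g | g
  · exact ptOK_of_chk 30720 256 c_w_2_20 j (by omega) (by omega)
  clear h1
  have h1 := g
  clear g
  rcases Nat.lt_or_ge j 31232 with g | g
  · exact ptOK_of_chk 30976 256 c_w_2_21 j (by omega) (by omega)
  clear h1
  have h1 := g
  clear g
  rcases Nat.lt_or_ge j 31488 with g | g
  · exact ptOK_of_chk 31232 256 c_w_2_22 j (by omega) (by omega)
  clear h1
  have h1 := g
  clear g
  rcases Nat.lt_or_ge j 31744 with g | g
  · exact ptOK_of_chk 31488 256 c_w_2_23 j (by omega) (by omega)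
  clear h1
  have h1 := g
  clear g
  rcases Nat.lt_or_ge j 32000 with g | g
  · exact ptOK_of_chk 31744 256 c_w_2_24 j (by omega) (by omega)
  clear h1
  have h1 := g
  clear g
  rcases Nat.lt_or_ge j 32256 with g | g
  · exact ptOK_of_chk 32000 256 c_w_2_25 j (by omega) (by omega)
  clear h1
  have h1 := g
  clear g
  rcases Nat.lt_or_ge j 32512 with g | g
  · exact ptOK_of_chk 32256 256 c_w_2_26 j (by omega) (by omega)
  clear h1
  have h1 := g
  clear g
  rcases Nat.lt_or_ge j 32768 with g | g
  · exact ptOK_of_chk 32512 256 c_w_2_27 j (by omega) (by omega)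
  clear h1
  have h1 := g
  clear g
  rcases Nat.lt_or_ge j 33024 with g | g
  · exact ptOK_of_chk 32768 256 c_w_2_28 j (by omega) (by omega)
  clear h1
  have h1 := g
  clear g
  rcases Nat.lt_or_ge j 33280 with g | g
  · exact ptOK_of_chk 33024 256 c_w_2_29 j (by omega) (by omega)
  clear h1
  have h1 := g
  clear g
  rcases Nat.lt_or_ge j 33536 with g | g
  · exact ptOK_of_chk 33280 256 c_w_2_30 j (by omega) (by omega)
  clear h1
  have h1 := g
  clear g
  rcases Nat.lt_or_ge j 33792 with g | g
  · exact ptOK_of_chk 33536 256 c_w_2_31 j (by omega) (by omega)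
  clear h1
  have h1 := g
  clear g
  rcases Nat.lt_or_ge j 34048 with g | g
  · exact ptOK_of_chk 33792 256 c_w_2_32 j (by omega) (by omega)
  clear h1
  have h1 := g
  clear g
  rcases Nat.lt_or_ge j 34304 with g | g
  · exact ptOK_of_chk 34048 256 c_w_2_33 j (by omega) (by omega)
  clear h1
  have h1 := g
  clear g
  rcases Nat.lt_or_ge j 34560 with g | g
  · exact ptOK_of_chk 34304 256 c_w_2_34 j (by omega) (by omega)
  clear h1
  have h1 := g
  clear g
  rcases Nat.lt_or_ge j 34816 with g | g
  · exact ptOK_of_chk 34560 256 c_w_2_35 j (by omega) (by omega)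
  clear h1
  have h1 := g
  clear g
  rcases Nat.lt_or_ge j 35072 with g | g
  · exact ptOK_of_chk 34816 256 c_w_2_36 j (by omega) (by omega)
  clear h1
  have h1 := g
  clear g
  rcases Nat.lt_or_ge j 35328 with g | g
  · exact ptOK_of_chk 35072 256 c_w_2_37 j (by omega) (by omega)
  clear h1
  have h1 := g
  clear g
  rcases Nat.lt_or_ge j 35584 with g | g
  · exact ptOK_of_chk 35328 256 c_w_2_38 j (by omega) (by omega)
  clear h1
  have h1 := g
  clear g
  rcases Nat.lt_or_ge j 35840 with g | g
  · exact ptOK_of_chk 35584 256 c_w_2_39 j (by omega) (by omega)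
  clear h1
  have h1 := g
  clear g
  rcases Nat.lt_or_ge j 36096 with g | g
  · exact ptOK_of_chk 35840 256 c_w_2_40 j (by omega) (by omega)
  clear h1
  have h1 := g
  clear g
  rcases Nat.lt_or_ge j 36352 with g | g
  · exact ptOK_of_chk 36096 256 c_w_2_41 j (by omega) (by omega)
  clear h1
  have h1 := g
  clear g
  rcases Nat.lt_or_ge j 36608 with g | g
  · exact ptOK_of_chk 36352 256 c_w_2_42 j (by omega) (by omega)
  clear h1
  have h1 := g
  clear g
  rcases Nat.lt_or_ge j 36864 with g | g
  · exact ptOK_of_chk 36608 256 c_w_2_43 j (by omega) (by omega)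
  clear h1
  have h1 := g
  clear g
  rcases Nat.lt_or_ge j 37120 with g | g
  · exact ptOK_of_chk 36864 256 c_w_2_44 j (by omega) (by omega)
  clear h1
  have h1 := g
  clear g
  rcases Nat.lt_or_ge j 37376 with g | g
  · exact ptOK_of_chk 37120 256 c_w_2_45 j (by omega) (by omega)
  clear h1
  have h1 := g
  clear g
  rcases Nat.lt_or_ge j 37632 with g | g
  · exact ptOK_of_chk 37376 256 c_w_2_46 j (by omega) (by omega)
  clear h1
  have h1 := g
  clear g
  rcases Nat.lt_or_ge j 37888 with g | g
  · exact ptOK_of_chk 37632 256 c_w_2_47 j (by omega) (by omega)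
  clear h1
  have h1 := g
  clear g
  rcases Nat.lt_or_ge j 38144 with g | g
  · exact ptOK_of_chk 37888 256 c_w_2_48 j (by omega) (by omega)
  clear h1
  have h1 := g
  clear g
  exact ptOK_of_chk 38144 256 c_w_2_49 j (by omega) (by omega)

end Cfsg.Agent.Lib.Helper4.F24M
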