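import Cfsg.Agent.Lib.Helper4.F24M.PtOK
set_option autoImplicit false
set_option maxRecDepth 1000000
set_option Elab.async false

/-! # The checks of the tables of the triple cover of the Fischer group at the points from 256000 to 268799 -/

namespace Cfsg.Agent.Lib.Helper4.F24M
open Cfsg.Agent.Lib.Helper4.TCov

theorem c_w_20_0 : chkPtRange 3 920808 MLF MCF WLF 256000 256 = true := by decide +kernel
theorem c_w_20_1 : chkPtRange 3 920808 MLF MCF WLF 256256 256 = true := by decide +kernel
theorem c_w_20_2 : chkPtRange 3 920808 MLF MCF WLF 256512 256 = true := by decide +kernel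
theorem c_w_20_3 : chkPtRange 3 920808 MLF MCF WLF 256768 256 = true := by decide +kernel
theorem c_w_20_4 : chkPtRange 3 920808 MLF MCF WLF 257024 256 = true := by decide +kernel
theorem c_w_20_5 : chkPtRange 3 920808 MLF MCF WLF 257280 256 = true := by decide +kernel
theorem c_w_20_6 : chkPtRange 3 920808 MLF MCF WLF 257536 256 = true := by decide +kernel
theorem c_w_20_7 : chkPtRange 3 920808 MLF MCF WLF 257792 256 = true := by decide +kernel
theorem c_w_20_8 : chkPtRange 3 920808 MLF MCF WLF 258048 256 = true := by decide +kernel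
theorem c_w_20_9 : chkPtRange 3 920808 MLF MCF WLF 258304 256 = true := by decide +kernel
theorem c_w_20_10 : chkPtRange 3 920808 MLF MCF WLF 258560 256 = true := by decide +kernel
theorem c_w_20_11 : chkPtRange 3 920808 MLF MCF WLF 258816 256 = true := by decide +kernel
theorem c_w_20_12 : chkPtRange 3 920808 MLF MCF WLF 259072 256 = true := by decide +kernel
theorem c_w_20_13 : chkPtRange 3 920808 MLF MCF WLF 259328 256 = true := by decide +kernel
theorem c_w_20_14 : chkPtRange 3 920808 MLF MCF WLF 259584 256 = true := by decide +kernel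
theorem c_w_20_15 : chkPtRange 3 920808 MLF MCF WLF 259840 256 = true := by decide +kernel
theorem c_w_20_16 : chkPtRange 3 920808 MLF MCF WLF 260096 256 = true := by decide +kernel
theorem c_w_20_17 : chkPtRange 3 920808 MLF MCF WLF 260352 256 = true := by decide +kernel
theorem c_w_20_18 : chkPtRange 3 920808 MLF MCF WLF 260608 256 = true := by decide +kernel
theorem c_w_20_19 : chkPtRange 3 920808 MLF MCF WLF 260864 256 = true := by decide +kernel
theorem c_w_20_20 : chkPtRange 3 920808 MLF MCF WLF 261120 256 = true := by decide +kernel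
theorem c_w_20_21 : chkPtRange 3 920808 MLF MCF WLF 261376 256 = true := by decide +kernel
theorem c_w_20_22 : chkPtRange 3 920808 MLF MCF WLF 261632 256 = true := by decide +kernel
theorem c_w_20_23 : chkPtRange 3 920808 MLF MCF WLF 261888 256 = true := by decide +kernel
theorem c_w_20_24 : chkPtRange 3 920808 MLF MCF WLF 262144 256 = true := by decide +kernel
theorem c_w_20_25 : chkPtRange 3 920808 MLF MCF WLF 262400 256 = true := by decide +kernel
theorem c_w_20_26 : chkPtRange 3 920808 MLF MCF WLF 262656 256 = true := by decide +kernel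
theorem c_w_20_27 : chkPtRange 3 920808 MLF MCF WLF 262912 256 = true := by decide +kernel
theorem c_w_20_28 : chkPtRange 3 920808 MLF MCF WLF 263168 256 = true := by decide +kernel
theorem c_w_20_29 : chkPtRange 3 920808 MLF MCF WLF 263424 256 = true := by decide +kernel
theorem c_w_20_30 : chkPtRange 3 920808 MLF MCF WLF 263680 256 = true := by decide +kernel
theorem c_w_20_31 : chkPtRange 3 920808 MLF MCF WLF 263936 256 = true := by decide +kernel
theorem c_w_20_32 : chkPtRange 3 920808 MLF MCF WLF 264192 256 = true := by decide +kernel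
theorem c_w_20_33 : chkPtRange 3 920808 MLF MCF WLF 264448 256 = true := by decide +kernel
theorem c_w_20_34 : chkPtRange 3 920808 MLF MCF WLF 264704 256 = true := by decide +kernel
theorem c_w_20_35 : chkPtRange 3 920808 MLF MCF WLF 264960 256 = true := by decide +kernel
theorem c_w_20_36 : chkPtRange 3 920808 MLF MCF WLF 265216 256 = true := by decide +kernel
theorem c_w_20_37 : chkPtRange 3 920808 MLF MCF WLF 265472 256 = true := by decide +kernel
theorem c_w_20_38 : chkPtRange 3 920808 MLF MCF WLF 265728 256 = true := by decide +kernel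
theorem c_w_20_39 : chkPtRange 3 920808 MLF MCF WLF 265984 256 = true := by decide +kernel
theorem c_w_20_40 : chkPtRange 3 920808 MLF MCF WLF 266240 256 = true := by decide +kernel
theorem c_w_20_41 : chkPtRange 3 920808 MLF MCF WLF 266496 256 = true := by decide +kernel
theorem c_w_20_42 : chkPtRange 3 920808 MLF MCF WLF 266752 256 = true := by decide +kernel
theorem c_w_20_43 : chkPtRange 3 920808 MLF MCF WLF 267008 256 = true := by decide +kernel
theorem c_w_20_44 : chkPtRange 3 920808 MLF MCF WLF 267264 256 = true := by decide +kernel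
theorem c_w_20_45 : chkPtRange 3 920808 MLF MCF WLF 267520 256 = true := by decide +kernel
theorem c_w_20_46 : chkPtRange 3 920808 MLF MCF WLF 267776 256 = true := by decide +kernel
theorem c_w_20_47 : chkPtRange 3 920808 MLF MCF WLF 268032 256 = true := by decide +kernel
theorem c_w_20_48 : chkPtRange 3 920808 MLF MCF WLF 268288 256 = true := by decide +kernel
theorem c_w_20_49 : chkPtRange 3 920808 MLF MCF WLF 268544 256 = true := by decide +kernel

theorem ptOK_20 (j : ℕ) (h1 : 256000 ≤ j) (h2 : j < 268800) : PtOK j := by
  rcases Nat.lt_or_ge j 256256 with g | g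
  · exact ptOK_of_chk 256000 256 c_w_20_0 j (by omega) (by omega)
  clear h1
  have h1 := g
  clear g
  rcases Nat.lt_or_ge j 256512 with g | g
  · exact ptOK_of_chk 256256 256 c_w_20_1 j (by omega) (by omega)
  clear h1
  have h1 := g
  clear g
  rcases Nat.lt_or_ge j 256768 with g | g
  · exact ptOK_of_chk 256512 256 c_w_20_2 j (by omega) (by omega)
  clear h1
  have h1 := g
  clear g
  rcases Nat.lt_or_ge j 257024 with g | g
  · exact ptOK_of_chk 256768 256 c_w_20_3 j (by omega) (by omega)
  clear h1
  have h1 := g
  clear g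
  rcases Nat.lt_or_ge j 257280 with g | g
  · exact ptOK_of_chk 257024 256 c_w_20_4 j (by omega) (by omega)
  clear h1
  have h1 := g
  clear g
  rcases Nat.lt_or_ge j 257536 with g | g
  · exact ptOK_of_chk 257280 256 c_w_20_5 j (by omega) (by omega)
  clear h1
  have h1 := g
  clear g
  rcases Nat.lt_or_ge j 257792 with g | g
  · exact ptOK_of_chk 257536 256 c_w_20_6 j (by omega) (by omega)
  clear h1
  have h1 := g
  clear g
  rcases Nat.lt_or_ge j 258048 with g | g
  · exact ptOK_of_chk 257792 256 c_w_20_7 j (by omega) (by omega)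
  clear h1
  have h1 := g
  clear g
  rcases Nat.lt_or_ge j 258304 with g | g
  · exact ptOK_of_chk 258048 256 c_w_20_8 j (by omega) (by omega)
  clear h1
  have h1 := g
  clear g
  rcases Nat.lt_or_ge j 258560 with g | g
  · exact ptOK_of_chk 258304 256 c_w_20_9 j (by omega) (by omega)
  clear h1
  have h1 := g
  clear g
  rcases Nat.lt_or_ge j 258816 with g | g
  · exact ptOK_of_chk 258560 256 c_w_20_10 j (by omega) (by omega)
  clear h1
  have h1 := g
  clear g
  rcases Nat.lt_or_ge j 259072 with g | g
  · exact ptOK_of_chk 258816 256 c_w_20_11 j (by omega) (by omega)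
  clear h1
  have h1 := g
  clear g
  rcases Nat.lt_or_ge j 259328 with g | g
  · exact ptOK_of_chk 259072 256 c_w_20_12 j (by omega) (by omega)
  clear h1
  have h1 := g
  clear g
  rcases Nat.lt_or_ge j 259584 with g | g
  · exact ptOK_of_chk 259328 256 c_w_20_13 j (by omega) (by omega)
  clear h1
  have h1 := g
  clear g
  rcases Nat.lt_or_ge j 259840 with g | g
  · exact ptOK_of_chk 259584 256 c_w_20_14 j (by omega) (by omega)
  clear h1
  have h1 := g
  clear g
  rcases Nat.lt_or_ge j 260096 with g | g
  · exact ptOK_of_chk 259840 256 c_w_20_15 j (by omega) (by omega)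
  clear h1
  have h1 := g
  clear g
  rcases Nat.lt_or_ge j 260352 with g | g
  · exact ptOK_of_chk 260096 256 c_w_20_16 j (by omega) (by omega)
  clear h1
  have h1 := g
  clear g
  rcases Nat.lt_or_ge j 260608 with g | g
  · exact ptOK_of_chk 260352 256 c_w_20_17 j (by omega) (by omega)
  clear h1
  have h1 := g
  clear g
  rcases Nat.lt_or_ge j 260864 with g | g
  · exact ptOK_of_chk 260608 256 c_w_20_18 j (by omega) (by omega)
  clear h1
  have h1 := g
  clear g
  rcases Nat.lt_or_ge j 261120 with g | g
  · exact ptOK_of_chk 260864 256 c_w_20_19 j (by omega) (by omega)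
  clear h1
  have h1 := g
  clear g
  rcases Nat.lt_or_ge j 261376 with g | g
  · exact ptOK_of_chk 261120 256 c_w_20_20 j (by omega) (by omega)
  clear h1
  have h1 := g
  clear g
  rcases Nat.lt_or_ge j 261632 with g | g
  · exact ptOK_of_chk 261376 256 c_w_20_21 j (by omega) (by omega)
  clear h1
  have h1 := g
  clear g
  rcases Nat.lt_or_ge j 261888 with g | g
  · exact ptOK_of_chk 261632 256 c_w_20_22 j (by omega) (by omega)
  clear h1
  have h1 := g
  clear g
  rcases Nat.lt_or_ge j 262144 with g | g
  · exact ptOK_of_chk 261888 256 c_w_20_23 j (by omega) (by omega)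
  clear h1
  have h1 := g
  clear g
  rcases Nat.lt_or_ge j 262400 with g | g
  · exact ptOK_of_chk 262144 256 c_w_20_24 j (by omega) (by omega)
  clear h1
  have h1 := g
  clear g
  rcases Nat.lt_or_ge j 262656 with g | g
  · exact ptOK_of_chk 262400 256 c_w_20_25 j (by omega) (by omega)
  clear h1
  have h1 := g
  clear g
  rcases Nat.lt_or_ge j 262912 with g | g
  · exact ptOK_of_chk 262656 256 c_w_20_26 j (by omega) (by omega)
  clear h1
  have h1 := g
  clear g
  rcases Nat.lt_or_ge j 263168 with g | g
  · exact ptOK_of_chk 262912 256 c_w_20_27 j (by omega) (by omega)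
  clear h1
  have h1 := g
  clear g
  rcases Nat.lt_or_ge j 263424 with g | g
  · exact ptOK_of_chk 263168 256 c_w_20_28 j (by omega) (by omega)
  clear h1
  have h1 := g
  clear g
  rcases Nat.lt_or_ge j 263680 with g | g
  · exact ptOK_of_chk 263424 256 c_w_20_29 j (by omega) (by omega)
  clear h1
  have h1 := g
  clear g
  rcases Nat.lt_or_ge j 263936 with g | g
  · exact ptOK_of_chk 263680 256 c_w_20_30 j (by omega) (by omega)
  clear h1
  have h1 := g
  clear g
  rcases Nat.lt_or_ge j 264192 with g | g
  · exact ptOK_of_chk 263936 256 c_w_20_31 j (by omega) (by omega)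
  clear h1
  have h1 := g
  clear g
  rcases Nat.lt_or_ge j 264448 with g | g
  · exact ptOK_of_chk 264192 256 c_w_20_32 j (by omega) (by omega)
  clear h1
  have h1 := g
  clear g
  rcases Nat.lt_or_ge j 264704 with g | g
  · exact ptOK_of_chk 264448 256 c_w_20_33 j (by omega) (by omega)
  clear h1
  have h1 := g
  clear g
  rcases Nat.lt_or_ge j 264960 with g | g
  · exact ptOK_of_chk 264704 256 c_w_20_34 j (by omega) (by omega)
  clear h1
  have h1 := g
  clear g
  rcases Nat.lt_or_ge j 265216 with g | g
  · exact ptOK_of_chk 264960 256 c_w_20_35 j (by omega) (by omega)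
  clear h1
  have h1 := g
  clear g
  rcases Nat.lt_or_ge j 265472 with g | g
  · exact ptOK_of_chk 265216 256 c_w_20_36 j (by omega) (by omega)
  clear h1
  have h1 := g
  clear g
  rcases Nat.lt_or_ge j 265728 with g | g
  · exact ptOK_of_chk 265472 256 c_w_20_37 j (by omega) (by omega)
  clear h1
  have h1 := g
  clear g
  rcases Nat.lt_or_ge j 265984 with g | g
  · exact ptOK_of_chk 265728 256 c_w_20_38 j (by omega) (by omega)
  clear h1
  have h1 := g
  clear g
  rcases Nat.lt_or_ge j 266240 with g | g
  · exact ptOK_of_chk 265984 256 c_w_20_39 j (by omega) (by omega)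
  clear h1
  have h1 := g
  clear g
  rcases Nat.lt_or_ge j 266496 with g | g
  · exact ptOK_of_chk 266240 256 c_w_20_40 j (by omega) (by omega)
  clear h1
  have h1 := g
  clear g
  rcases Nat.lt_or_ge j 266752 with g | g
  · exact ptOK_of_chk 266496 256 c_w_20_41 j (by omega) (by omega)
  clear h1
  have h1 := g
  clear g
  rcases Nat.lt_or_ge j 267008 with g | g
  · exact ptOK_of_chk 266752 256 c_w_20_42 j (by omega) (by omega)
  clear h1
  have h1 := g
  clear g
  rcases Nat.lt_or_ge j 267264 with g | g
  · exact ptOK_of_chk 267008 256 c_w_20_43 j (by omega) (by omega)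
  clear h1
  have h1 := g
  clear g
  rcases Nat.lt_or_ge j 267520 with g | g
  · exact ptOK_of_chk 267264 256 c_w_20_44 j (by omega) (by omega)
  clear h1
  have h1 := g
  clear g
  rcases Nat.lt_or_ge j 267776 with g | g
  · exact ptOK_of_chk 267520 256 c_w_20_45 j (by omega) (by omega)
  clear h1
  have h1 := g
  clear g
  rcases Nat.lt_or_ge j 268032 with g | g
  · exact ptOK_of_chk 267776 256 c_w_20_46 j (by omega) (by omega)
  clear h1
  have h1 := g
  clear g
  rcases Nat.lt_or_ge j 268288 with g | g
  · exact ptOK_of_chk 268032 256 c_w_20_47 j (by omega) (by omega)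
  clear h1
  have h1 := g
  clear g
  rcases Nat.lt_or_ge j 268544 with g | g
  · exact ptOK_of_chk 268288 256 c_w_20_48 j (by omega) (by omega)
  clear h1
  have h1 := g
  clear g
  exact ptOK_of_chk 268544 256 c_w_20_49 j (by omega) (by omega)

end Cfsg.Agent.Lib.Helper4.F24M
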