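import Cfsg.Agent.Lib.Helper4.F24M.PtOK
set_option autoImplicit false
set_option maxRecDepth 1000000
set_option Elab.async false

/-! # The checks of the tables of the triple cover of the Fischer group at the points from 268800 to 281599 -/

namespace Cfsg.Agent.Lib.Helper4.F24M
open Cfsg.Agent.Lib.Helper4.TCov

theorem c_w_21_0 : chkPtRange 3 920808 MLF MCF WLF 268800 256 = true := by decide +kernel
theorem c_w_21_1 : chkPtRange 3 920808 MLF MCF WLF 269056 256 = true := by decide +kernel
theorem c_w_21_2 : chkPtRange 3 920808 MLF MCF WLF 269312 256 = true := by decide +kernel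
theorem c_w_21_3 : chkPtRange 3 920808 MLF MCF WLF 269568 256 = true := by decide +kernel
theorem c_w_21_4 : chkPtRange 3 920808 MLF MCF WLF 269824 256 = true := by decide +kernel
theorem c_w_21_5 : chkPtRange 3 920808 MLF MCF WLF 270080 256 = true := by decide +kernel
theorem c_w_21_6 : chkPtRange 3 920808 MLF MCF WLF 270336 256 = true := by decide +kernel
theorem c_w_21_7 : chkPtRange 3 920808 MLF MCF WLF 270592 256 = true := by decide +kernel
theorem c_w_21_8 : chkPtRange 3 920808 MLF MCF WLF 270848 256 = true := by decide +kernel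
theorem c_w_21_9 : chkPtRange 3 920808 MLF MCF WLF 271104 256 = true := by decide +kernel
theorem c_w_21_10 : chkPtRange 3 920808 MLF MCF WLF 271360 256 = true := by decide +kernel
theorem c_w_21_11 : chkPtRange 3 920808 MLF MCF WLF 271616 256 = true := by decide +kernel
theorem c_w_21_12 : chkPtRange 3 920808 MLF MCF WLF 271872 256 = true := by decide +kernel
theorem c_w_21_13 : chkPtRange 3 920808 MLF MCF WLF 272128 256 = true := by decide +kernel
theorem c_w_21_14 : chkPtRange 3 920808 MLF MCF WLF 272384 256 = true := by decide +kernel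
theorem c_w_21_15 : chkPtRange 3 920808 MLF MCF WLF 272640 256 = true := by decide +kernel
theorem c_w_21_16 : chkPtRange 3 920808 MLF MCF WLF 272896 256 = true := by decide +kernel
theorem c_w_21_17 : chkPtRange 3 920808 MLF MCF WLF 273152 256 = true := by decide +kernel
theorem c_w_21_18 : chkPtRange 3 920808 MLF MCF WLF 273408 256 = true := by decide +kernel
theorem c_w_21_19 : chkPtRange 3 920808 MLF MCF WLF 273664 256 = true := by decide +kernel
theorem c_w_21_20 : chkPtRange 3 920808 MLF MCF WLF 273920 256 = true := by decide +kernel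
theorem c_w_21_21 : chkPtRange 3 920808 MLF MCF WLF 274176 256 = true := by decide +kernel
theorem c_w_21_22 : chkPtRange 3 920808 MLF MCF WLF 274432 256 = true := by decide +kernel
theorem c_w_21_23 : chkPtRange 3 920808 MLF MCF WLF 274688 256 = true := by decide +kernel
theorem c_w_21_24 : chkPtRange 3 920808 MLF MCF WLF 274944 256 = true := by decide +kernel
theorem c_w_21_25 : chkPtRange 3 920808 MLF MCF WLF 275200 256 = true := by decide +kernel
theorem c_w_21_26 : chkPtRange 3 920808 MLF MCF WLF 275456 256 = true := by decide +kernel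
theorem c_w_21_27 : chkPtRange 3 920808 MLF MCF WLF 275712 256 = true := by decide +kernel
theorem c_w_21_28 : chkPtRange 3 920808 MLF MCF WLF 275968 256 = true := by decide +kernel
theorem c_w_21_29 : chkPtRange 3 920808 MLF MCF WLF 276224 256 = true := by decide +kernel
theorem c_w_21_30 : chkPtRange 3 920808 MLF MCF WLF 276480 256 = true := by decide +kernel
theorem c_w_21_31 : chkPtRange 3 920808 MLF MCF WLF 276736 256 = true := by decide +kernel
theorem c_w_21_32 : chkPtRange 3 920808 MLF MCF WLF 276992 256 = true := by decide +kernel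
theorem c_w_21_33 : chkPtRange 3 920808 MLF MCF WLF 277248 256 = true := by decide +kernel
theorem c_w_21_34 : chkPtRange 3 920808 MLF MCF WLF 277504 256 = true := by decide +kernel
theorem c_w_21_35 : chkPtRange 3 920808 MLF MCF WLF 277760 256 = true := by decide +kernel
theorem c_w_21_36 : chkPtRange 3 920808 MLF MCF WLF 278016 256 = true := by decide +kernel
theorem c_w_21_37 : chkPtRange 3 920808 MLF MCF WLF 278272 256 = true := by decide +kernel
theorem c_w_21_38 : chkPtRange 3 920808 MLF MCF WLF 278528 256 = true := by decide +kernel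
theorem c_w_21_39 : chkPtRange 3 920808 MLF MCF WLF 278784 256 = true := by decide +kernel
theorem c_w_21_40 : chkPtRange 3 920808 MLF MCF WLF 279040 256 = true := by decide +kernel
theorem c_w_21_41 : chkPtRange 3 920808 MLF MCF WLF 279296 256 = true := by decide +kernel
theorem c_w_21_42 : chkPtRange 3 920808 MLF MCF WLF 279552 256 = true := by decide +kernel
theorem c_w_21_43 : chkPtRange 3 920808 MLF MCF WLF 279808 256 = true := by decide +kernel
theorem c_w_21_44 : chkPtRange 3 920808 MLF MCF WLF 280064 256 = true := by decide +kernel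
theorem c_w_21_45 : chkPtRange 3 920808 MLF MCF WLF 280320 256 = true := by decide +kernel
theorem c_w_21_46 : chkPtRange 3 920808 MLF MCF WLF 280576 256 = true := by decide +kernel
theorem c_w_21_47 : chkPtRange 3 920808 MLF MCF WLF 280832 256 = true := by decide +kernel
theorem c_w_21_48 : chkPtRange 3 920808 MLF MCF WLF 281088 256 = true := by decide +kernel
theorem c_w_21_49 : chkPtRange 3 920808 MLF MCF WLF 281344 256 = true := by decide +kernel

theorem ptOK_21 (j : ℕ) (h1 : 268800 ≤ j) (h2 : j < 281600) : PtOK j := by
  rcases Nat.lt_or_ge j 269056 with g | g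
  · exact ptOK_of_chk 268800 256 c_w_21_0 j (by omega) (by omega)
  clear h1
  have h1 := g
  clear g
  rcases Nat.lt_or_ge j 269312 with g | g
  · exact ptOK_of_chk 269056 256 c_w_21_1 j (by omega) (by omega)
  clear h1
  have h1 := g
  clear g
  rcases Nat.lt_or_ge j 269568 with g | g
  · exact ptOK_of_chk 269312 256 c_w_21_2 j (by omega) (by omega)
  clear h1
  have h1 := g
  clear g
  rcases Nat.lt_or_ge j 269824 with g | g
  · exact ptOK_of_chk 269568 256 c_w_21_3 j (by omega) (by omega)
  clear h1
  have h1 := g
  clear g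
  rcases Nat.lt_or_ge j 270080 with g | g
  · exact ptOK_of_chk 269824 256 c_w_21_4 j (by omega) (by omega)
  clear h1
  have h1 := g
  clear g
  rcases Nat.lt_or_ge j 270336 with g | g
  · exact ptOK_of_chk 270080 256 c_w_21_5 j (by omega) (by omega)
  clear h1
  have h1 := g
  clear g
  rcases Nat.lt_or_ge j 270592 with g | g
  · exact ptOK_of_chk 270336 256 c_w_21_6 j (by omega) (by omega)
  clear h1
  have h1 := g
  clear g
  rcases Nat.lt_or_ge j 270848 with g | g
  · exact ptOK_of_chk 270592 256 c_w_21_7 j (by omega) (by omega)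
  clear h1
  have h1 := g
  clear g
  rcases Nat.lt_or_ge j 271104 with g | g
  · exact ptOK_of_chk 270848 256 c_w_21_8 j (by omega) (by omega)
  clear h1
  have h1 := g
  clear g
  rcases Nat.lt_or_ge j 271360 with g | g
  · exact ptOK_of_chk 271104 256 c_w_21_9 j (by omega) (by omega)
  clear h1
  have h1 := g
  clear g
  rcases Nat.lt_or_ge j 271616 with g | g
  · exact ptOK_of_chk 271360 256 c_w_21_10 j (by omega) (by omega)
  clear h1
  have h1 := g
  clear g
  rcases Nat.lt_or_ge j 271872 with g | g
  · exact ptOK_of_chk 271616 256 c_w_21_11 j (by omega) (by omega)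
  clear h1
  have h1 := g
  clear g
  rcases Nat.lt_or_ge j 272128 with g | g
  · exact ptOK_of_chk 271872 256 c_w_21_12 j (by omega) (by omega)
  clear h1
  have h1 := g
  clear g
  rcases Nat.lt_or_ge j 272384 with g | g
  · exact ptOK_of_chk 272128 256 c_w_21_13 j (by omega) (by omega)
  clear h1
  have h1 := g
  clear g
  rcases Nat.lt_or_ge j 272640 with g | g
  · exact ptOK_of_chk 272384 256 c_w_21_14 j (by omega) (by omega)
  clear h1
  have h1 := g
  clear g
  rcases Nat.lt_or_ge j 272896 with g | g
  · exact ptOK_of_chk 272640 256 c_w_21_15 j (by omega) (by omega)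
  clear h1
  have h1 := g
  clear g
  rcases Nat.lt_or_ge j 273152 with g | g
  · exact ptOK_of_chk 272896 256 c_w_21_16 j (by omega) (by omega)
  clear h1
  have h1 := g
  clear g
  rcases Nat.lt_or_ge j 273408 with g | g
  · exact ptOK_of_chk 273152 256 c_w_21_17 j (by omega) (by omega)
  clear h1
  have h1 := g
  clear g
  rcases Nat.lt_or_ge j 273664 with g | g
  · exact ptOK_of_chk 273408 256 c_w_21_18 j (by omega) (by omega)
  clear h1
  have h1 := g
  clear g
  rcases Nat.lt_or_ge j 273920 with g | g
  · exact ptOK_of_chk 273664 256 c_w_21_19 j (by omega) (by omega)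
  clear h1
  have h1 := g
  clear g
  rcases Nat.lt_or_ge j 274176 with g | g
  · exact ptOK_of_chk 273920 256 c_w_21_20 j (by omega) (by omega)
  clear h1
  have h1 := g
  clear g
  rcases Nat.lt_or_ge j 274432 with g | g
  · exact ptOK_of_chk 274176 256 c_w_21_21 j (by omega) (by omega)
  clear h1
  have h1 := g
  clear g
  rcases Nat.lt_or_ge j 274688 with g | g
  · exact ptOK_of_chk 274432 256 c_w_21_22 j (by omega) (by omega)
  clear h1
  have h1 := g
  clear g
  rcases Nat.lt_or_ge j 274944 with g | g
  · exact ptOK_of_chk 274688 256 c_w_21_23 j (by omega) (by omega)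
  clear h1
  have h1 := g
  clear g
  rcases Nat.lt_or_ge j 275200 with g | g
  · exact ptOK_of_chk 274944 256 c_w_21_24 j (by omega) (by omega)
  clear h1
  have h1 := g
  clear g
  rcases Nat.lt_or_ge j 275456 with g | g
  · exact ptOK_of_chk 275200 256 c_w_21_25 j (by omega) (by omega)
  clear h1
  have h1 := g
  clear g
  rcases Nat.lt_or_ge j 275712 with g | g
  · exact ptOK_of_chk 275456 256 c_w_21_26 j (by omega) (by omega)
  clear h1
  have h1 := g
  clear g
  rcases Nat.lt_or_ge j 275968 with g | g
  · exact ptOK_of_chk 275712 256 c_w_21_27 j (by omega) (by omega)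
  clear h1
  have h1 := g
  clear g
  rcases Nat.lt_or_ge j 276224 with g | g
  · exact ptOK_of_chk 275968 256 c_w_21_28 j (by omega) (by omega)
  clear h1
  have h1 := g
  clear g
  rcases Nat.lt_or_ge j 276480 with g | g
  · exact ptOK_of_chk 276224 256 c_w_21_29 j (by omega) (by omega)
  clear h1
  have h1 := g
  clear g
  rcases Nat.lt_or_ge j 276736 with g | g
  · exact ptOK_of_chk 276480 256 c_w_21_30 j (by omega) (by omega)
  clear h1
  have h1 := g
  clear g
  rcases Nat.lt_or_ge j 276992 with g | g
  · exact ptOK_of_chk 276736 256 c_w_21_31 j (by omega) (by omega)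
  clear h1
  have h1 := g
  clear g
  rcases Nat.lt_or_ge j 277248 with g | g
  · exact ptOK_of_chk 276992 256 c_w_21_32 j (by omega) (by omega)
  clear h1
  have h1 := g
  clear g
  rcases Nat.lt_or_ge j 277504 with g | g
  · exact ptOK_of_chk 277248 256 c_w_21_33 j (by omega) (by omega)
  clear h1
  have h1 := g
  clear g
  rcases Nat.lt_or_ge j 277760 with g | g
  · exact ptOK_of_chk 277504 256 c_w_21_34 j (by omega) (by omega)
  clear h1
  have h1 := g
  clear g
  rcases Nat.lt_or_ge j 278016 with g | g
  · exact ptOK_of_chk 277760 256 c_w_21_35 j (by omega) (by omega)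
  clear h1
  have h1 := g
  clear g
  rcases Nat.lt_or_ge j 278272 with g | g
  · exact ptOK_of_chk 278016 256 c_w_21_36 j (by omega) (by omega)
  clear h1
  have h1 := g
  clear g
  rcases Nat.lt_or_ge j 278528 with g | g
  · exact ptOK_of_chk 278272 256 c_w_21_37 j (by omega) (by omega)
  clear h1
  have h1 := g
  clear g
  rcases Nat.lt_or_ge j 278784 with g | g
  · exact ptOK_of_chk 278528 256 c_w_21_38 j (by omega) (by omega)
  clear h1
  have h1 := g
  clear g
  rcases Nat.lt_or_ge j 279040 with g | g
  · exact ptOK_of_chk 278784 256 c_w_21_39 j (by omega) (by omega)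
  clear h1
  have h1 := g
  clear g
  rcases Nat.lt_or_ge j 279296 with g | g
  · exact ptOK_of_chk 279040 256 c_w_21_40 j (by omega) (by omega)
  clear h1
  have h1 := g
  clear g
  rcases Nat.lt_or_ge j 279552 with g | g
  · exact ptOK_of_chk 279296 256 c_w_21_41 j (by omega) (by omega)
  clear h1
  have h1 := g
  clear g
  rcases Nat.lt_or_ge j 279808 with g | g
  · exact ptOK_of_chk 279552 256 c_w_21_42 j (by omega) (by omega)
  clear h1
  have h1 := g
  clear g
  rcases Nat.lt_or_ge j 280064 with g | g
  · exact ptOK_of_chk 279808 256 c_w_21_43 j (by omega) (by omega)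
  clear h1
  have h1 := g
  clear g
  rcases Nat.lt_or_ge j 280320 with g | g
  · exact ptOK_of_chk 280064 256 c_w_21_44 j (by omega) (by omega)
  clear h1
  have h1 := g
  clear g
  rcases Nat.lt_or_ge j 280576 with g | g
  · exact ptOK_of_chk 280320 256 c_w_21_45 j (by omega) (by omega)
  clear h1
  have h1 := g
  clear g
  rcases Nat.lt_or_ge j 280832 with g | g
  · exact ptOK_of_chk 280576 256 c_w_21_46 j (by omega) (by omega)
  clear h1
  have h1 := g
  clear g
  rcases Nat.lt_or_ge j 281088 with g | g
  · exact ptOK_of_chk 280832 256 c_w_21_47 j (by omega) (by omega)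
  clear h1
  have h1 := g
  clear g
  rcases Nat.lt_or_ge j 281344 with g | g
  · exact ptOK_of_chk 281088 256 c_w_21_48 j (by omega) (by omega)
  clear h1
  have h1 := g
  clear g
  exact ptOK_of_chk 281344 256 c_w_21_49 j (by omega) (by omega)

end Cfsg.Agent.Lib.Helper4.F24M
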