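import Cfsg.Agent.Lib.Helper4.F24M.PtOK
set_option autoImplicit false
set_option maxRecDepth 1000000
set_option Elab.async false

/-! # The checks of the tables of the triple cover of the Fischer group at the points from 281600 to 294399 -/

namespace Cfsg.Agent.Lib.Helper4.F24M
open Cfsg.Agent.Lib.Helper4.TCov

theorem c_w_22_0 : chkPtRange 3 920808 MLF MCF WLF 281600 256 = true := by decide +kernel
theorem c_w_22_1 : chkPtRange 3 920808 MLF MCF WLF 281856 256 = true := by decide +kernel
theorem c_w_22_2 : chkPtRange 3 920808 MLF MCF WLF 282112 256 = true := by decide +kernel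
theorem c_w_22_3 : chkPtRange 3 920808 MLF MCF WLF 282368 256 = true := by decide +kernel
theorem c_w_22_4 : chkPtRange 3 920808 MLF MCF WLF 282624 256 = true := by decide +kernel
theorem c_w_22_5 : chkPtRange 3 920808 MLF MCF WLF 282880 256 = true := by decide +kernel
theorem c_w_22_6 : chkPtRange 3 920808 MLF MCF WLF 283136 256 = true := by decide +kernel
theorem c_w_22_7 : chkPtRange 3 920808 MLF MCF WLF 283392 256 = true := by decide +kernel
theorem c_w_22_8 : chkPtRange 3 920808 MLF MCF WLF 283648 256 = true := by decide +kernel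
theorem c_w_22_9 : chkPtRange 3 920808 MLF MCF WLF 283904 256 = true := by decide +kernel
theorem c_w_22_10 : chkPtRange 3 920808 MLF MCF WLF 284160 256 = true := by decide +kernel
theorem c_w_22_11 : chkPtRange 3 920808 MLF MCF WLF 284416 256 = true := by decide +kernel
theorem c_w_22_12 : chkPtRange 3 920808 MLF MCF WLF 284672 256 = true := by decide +kernel
theorem c_w_22_13 : chkPtRange 3 920808 MLF MCF WLF 284928 256 = true := by decide +kernel
theorem c_w_22_14 : chkPtRange 3 920808 MLF MCF WLF 285184 256 = true := by decide +kernel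
theorem c_w_22_15 : chkPtRange 3 920808 MLF MCF WLF 285440 256 = true := by decide +kernel
theorem c_w_22_16 : chkPtRange 3 920808 MLF MCF WLF 285696 256 = true := by decide +kernel
theorem c_w_22_17 : chkPtRange 3 920808 MLF MCF WLF 285952 256 = true := by decide +kernel
theorem c_w_22_18 : chkPtRange 3 920808 MLF MCF WLF 286208 256 = true := by decide +kernel
theorem c_w_22_19 : chkPtRange 3 920808 MLF MCF WLF 286464 256 = true := by decide +kernel
theorem c_w_22_20 : chkPtRange 3 920808 MLF MCF WLF 286720 256 = true := by decide +kernel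
theorem c_w_22_21 : chkPtRange 3 920808 MLF MCF WLF 286976 256 = true := by decide +kernel
theorem c_w_22_22 : chkPtRange 3 920808 MLF MCF WLF 287232 256 = true := by decide +kernel
theorem c_w_22_23 : chkPtRange 3 920808 MLF MCF WLF 287488 256 = true := by decide +kernel
theorem c_w_22_24 : chkPtRange 3 920808 MLF MCF WLF 287744 256 = true := by decide +kernel
theorem c_w_22_25 : chkPtRange 3 920808 MLF MCF WLF 288000 256 = true := by decide +kernel
theorem c_w_22_26 : chkPtRange 3 920808 MLF MCF WLF 288256 256 = true := by decide +kernel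
theorem c_w_22_27 : chkPtRange 3 920808 MLF MCF WLF 288512 256 = true := by decide +kernel
theorem c_w_22_28 : chkPtRange 3 920808 MLF MCF WLF 288768 256 = true := by decide +kernel
theorem c_w_22_29 : chkPtRange 3 920808 MLF MCF WLF 289024 256 = true := by decide +kernel
theorem c_w_22_30 : chkPtRange 3 920808 MLF MCF WLF 289280 256 = true := by decide +kernel
theorem c_w_22_31 : chkPtRange 3 920808 MLF MCF WLF 289536 256 = true := by decide +kernel
theorem c_w_22_32 : chkPtRange 3 920808 MLF MCF WLF 289792 256 = true := by decide +kernel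
theorem c_w_22_33 : chkPtRange 3 920808 MLF MCF WLF 290048 256 = true := by decide +kernel
theorem c_w_22_34 : chkPtRange 3 920808 MLF MCF WLF 290304 256 = true := by decide +kernel
theorem c_w_22_35 : chkPtRange 3 920808 MLF MCF WLF 290560 256 = true := by decide +kernel
theorem c_w_22_36 : chkPtRange 3 920808 MLF MCF WLF 290816 256 = true := by decide +kernel
theorem c_w_22_37 : chkPtRange 3 920808 MLF MCF WLF 291072 256 = true := by decide +kernel
theorem c_w_22_38 : chkPtRange 3 920808 MLF MCF WLF 291328 256 = true := by decide +kernel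
theorem c_w_22_39 : chkPtRange 3 920808 MLF MCF WLF 291584 256 = true := by decide +kernel
theorem c_w_22_40 : chkPtRange 3 920808 MLF MCF WLF 291840 256 = true := by decide +kernel
theorem c_w_22_41 : chkPtRange 3 920808 MLF MCF WLF 292096 256 = true := by decide +kernel
theorem c_w_22_42 : chkPtRange 3 920808 MLF MCF WLF 292352 256 = true := by decide +kernel
theorem c_w_22_43 : chkPtRange 3 920808 MLF MCF WLF 292608 256 = true := by decide +kernel
theorem c_w_22_44 : chkPtRange 3 920808 MLF MCF WLF 292864 256 = true := by decide +kernel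
theorem c_w_22_45 : chkPtRange 3 920808 MLF MCF WLF 293120 256 = true := by decide +kernel
theorem c_w_22_46 : chkPtRange 3 920808 MLF MCF WLF 293376 256 = true := by decide +kernel
theorem c_w_22_47 : chkPtRange 3 920808 MLF MCF WLF 293632 256 = true := by decide +kernel
theorem c_w_22_48 : chkPtRange 3 920808 MLF MCF WLF 293888 256 = true := by decide +kernel
theorem c_w_22_49 : chkPtRange 3 920808 MLF MCF WLF 294144 256 = true := by decide +kernel

theorem ptOK_22 (j : ℕ) (h1 : 281600 ≤ j) (h2 : j < 294400) : PtOK j := by
  rcases Nat.lt_or_ge j 281856 with g | g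
  · exact ptOK_of_chk 281600 256 c_w_22_0 j (by omega) (by omega)
  clear h1
  have h1 := g
  clear g
  rcases Nat.lt_or_ge j 282112 with g | g
  · exact ptOK_of_chk 281856 256 c_w_22_1 j (by omega) (by omega)
  clear h1
  have h1 := g
  clear g
  rcases Nat.lt_or_ge j 282368 with g | g
  · exact ptOK_of_chk 282112 256 c_w_22_2 j (by omega) (by omega)
  clear h1
  have h1 := g
  clear g
  rcases Nat.lt_or_ge j 282624 with g | g
  · exact ptOK_of_chk 282368 256 c_w_22_3 j (by omega) (by omega)
  clear h1
  have h1 := g
  clear g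
  rcases Nat.lt_or_ge j 282880 with g | g
  · exact ptOK_of_chk 282624 256 c_w_22_4 j (by omega) (by omega)
  clear h1
  have h1 := g
  clear g
  rcases Nat.lt_or_ge j 283136 with g | g
  · exact ptOK_of_chk 282880 256 c_w_22_5 j (by omega) (by omega)
  clear h1
  have h1 := g
  clear g
  rcases Nat.lt_or_ge j 283392 with g | g
  · exact ptOK_of_chk 283136 256 c_w_22_6 j (by omega) (by omega)
  clear h1
  have h1 := g
  clear g
  rcases Nat.lt_or_ge j 283648 with g | g
  · exact ptOK_of_chk 283392 256 c_w_22_7 j (by omega) (by omega)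
  clear h1
  have h1 := g
  clear g
  rcases Nat.lt_or_ge j 283904 with g | g
  · exact ptOK_of_chk 283648 256 c_w_22_8 j (by omega) (by omega)
  clear h1
  have h1 := g
  clear g
  rcases Nat.lt_or_ge j 284160 with g | g
  · exact ptOK_of_chk 283904 256 c_w_22_9 j (by omega) (by omega)
  clear h1
  have h1 := g
  clear g
  rcases Nat.lt_or_ge j 284416 with g | g
  · exact ptOK_of_chk 284160 256 c_w_22_10 j (by omega) (by omega)
  clear h1
  have h1 := g
  clear g
  rcases Nat.lt_or_ge j 284672 with g | g
  · exact ptOK_of_chk 284416 256 c_w_22_11 j (by omega) (by omega)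
  clear h1
  have h1 := g
  clear g
  rcases Nat.lt_or_ge j 284928 with g | g
  · exact ptOK_of_chk 284672 256 c_w_22_12 j (by omega) (by omega)
  clear h1
  have h1 := g
  clear g
  rcases Nat.lt_or_ge j 285184 with g | g
  · exact ptOK_of_chk 284928 256 c_w_22_13 j (by omega) (by omega)
  clear h1
  have h1 := g
  clear g
  rcases Nat.lt_or_ge j 285440 with g | g
  · exact ptOK_of_chk 285184 256 c_w_22_14 j (by omega) (by omega)
  clear h1
  have h1 := g
  clear g
  rcases Nat.lt_or_ge j 285696 with g | g
  · exact ptOK_of_chk 285440 256 c_w_22_15 j (by omega) (by omega)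
  clear h1
  have h1 := g
  clear g
  rcases Nat.lt_or_ge j 285952 with g | g
  · exact ptOK_of_chk 285696 256 c_w_22_16 j (by omega) (by omega)
  clear h1
  have h1 := g
  clear g
  rcases Nat.lt_or_ge j 286208 with g | g
  · exact ptOK_of_chk 285952 256 c_w_22_17 j (by omega) (by omega)
  clear h1
  have h1 := g
  clear g
  rcases Nat.lt_or_ge j 286464 with g | g
  · exact ptOK_of_chk 286208 256 c_w_22_18 j (by omega) (by omega)
  clear h1
  have h1 := g
  clear g
  rcases Nat.lt_or_ge j 286720 with g | g
  · exact ptOK_of_chk 286464 256 c_w_22_19 j (by omega) (by omega)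
  clear h1
  have h1 := g
  clear g
  rcases Nat.lt_or_ge j 286976 with g | g
  · exact ptOK_of_chk 286720 256 c_w_22_20 j (by omega) (by omega)
  clear h1
  have h1 := g
  clear g
  rcases Nat.lt_or_ge j 287232 with g | g
  · exact ptOK_of_chk 286976 256 c_w_22_21 j (by omega) (by omega)
  clear h1
  have h1 := g
  clear g
  rcases Nat.lt_or_ge j 287488 with g | g
  · exact ptOK_of_chk 287232 256 c_w_22_22 j (by omega) (by omega)
  clear h1
  have h1 := g
  clear g
  rcases Nat.lt_or_ge j 287744 with g | g
  · exact ptOK_of_chk 287488 256 c_w_22_23 j (by omega) (by omega)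
  clear h1
  have h1 := g
  clear g
  rcases Nat.lt_or_ge j 288000 with g | g
  · exact ptOK_of_chk 287744 256 c_w_22_24 j (by omega) (by omega)
  clear h1
  have h1 := g
  clear g
  rcases Nat.lt_or_ge j 288256 with g | g
  · exact ptOK_of_chk 288000 256 c_w_22_25 j (by omega) (by omega)
  clear h1
  have h1 := g
  clear g
  rcases Nat.lt_or_ge j 288512 with g | g
  · exact ptOK_of_chk 288256 256 c_w_22_26 j (by omega) (by omega)
  clear h1
  have h1 := g
  clear g
  rcases Nat.lt_or_ge j 288768 with g | g
  · exact ptOK_of_chk 288512 256 c_w_22_27 j (by omega) (by omega)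
  clear h1
  have h1 := g
  clear g
  rcases Nat.lt_or_ge j 289024 with g | g
  · exact ptOK_of_chk 288768 256 c_w_22_28 j (by omega) (by omega)
  clear h1
  have h1 := g
  clear g
  rcases Nat.lt_or_ge j 289280 with g | g
  · exact ptOK_of_chk 289024 256 c_w_22_29 j (by omega) (by omega)
  clear h1
  have h1 := g
  clear g
  rcases Nat.lt_or_ge j 289536 with g | g
  · exact ptOK_of_chk 289280 256 c_w_22_30 j (by omega) (by omega)
  clear h1
  have h1 := g
  clear g
  rcases Nat.lt_or_ge j 289792 with g | g
  · exact ptOK_of_chk 289536 256 c_w_22_31 j (by omega) (by omega)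
  clear h1
  have h1 := g
  clear g
  rcases Nat.lt_or_ge j 290048 with g | g
  · exact ptOK_of_chk 289792 256 c_w_22_32 j (by omega) (by omega)
  clear h1
  have h1 := g
  clear g
  rcases Nat.lt_or_ge j 290304 with g | g
  · exact ptOK_of_chk 290048 256 c_w_22_33 j (by omega) (by omega)
  clear h1
  have h1 := g
  clear g
  rcases Nat.lt_or_ge j 290560 with g | g
  · exact ptOK_of_chk 290304 256 c_w_22_34 j (by omega) (by omega)
  clear h1
  have h1 := g
  clear g
  rcases Nat.lt_or_ge j 290816 with g | g
  · exact ptOK_of_chk 290560 256 c_w_22_35 j (by omega) (by omega)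
  clear h1
  have h1 := g
  clear g
  rcases Nat.lt_or_ge j 291072 with g | g
  · exact ptOK_of_chk 290816 256 c_w_22_36 j (by omega) (by omega)
  clear h1
  have h1 := g
  clear g
  rcases Nat.lt_or_ge j 291328 with g | g
  · exact ptOK_of_chk 291072 256 c_w_22_37 j (by omega) (by omega)
  clear h1
  have h1 := g
  clear g
  rcases Nat.lt_or_ge j 291584 with g | g
  · exact ptOK_of_chk 291328 256 c_w_22_38 j (by omega) (by omega)
  clear h1
  have h1 := g
  clear g
  rcases Nat.lt_or_ge j 291840 with g | g
  · exact ptOK_of_chk 291584 256 c_w_22_39 j (by omega) (by omega)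
  clear h1
  have h1 := g
  clear g
  rcases Nat.lt_or_ge j 292096 with g | g
  · exact ptOK_of_chk 291840 256 c_w_22_40 j (by omega) (by omega)
  clear h1
  have h1 := g
  clear g
  rcases Nat.lt_or_ge j 292352 with g | g
  · exact ptOK_of_chk 292096 256 c_w_22_41 j (by omega) (by omega)
  clear h1
  have h1 := g
  clear g
  rcases Nat.lt_or_ge j 292608 with g | g
  · exact ptOK_of_chk 292352 256 c_w_22_42 j (by omega) (by omega)
  clear h1
  have h1 := g
  clear g
  rcases Nat.lt_or_ge j 292864 with g | g
  · exact ptOK_of_chk 292608 256 c_w_22_43 j (by omega) (by omega)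
  clear h1
  have h1 := g
  clear g
  rcases Nat.lt_or_ge j 293120 with g | g
  · exact ptOK_of_chk 292864 256 c_w_22_44 j (by omega) (by omega)
  clear h1
  have h1 := g
  clear g
  rcases Nat.lt_or_ge j 293376 with g | g
  · exact ptOK_of_chk 293120 256 c_w_22_45 j (by omega) (by omega)
  clear h1
  have h1 := g
  clear g
  rcases Nat.lt_or_ge j 293632 with g | g
  · exact ptOK_of_chk 293376 256 c_w_22_46 j (by omega) (by omega)
  clear h1
  have h1 := g
  clear g
  rcases Nat.lt_or_ge j 293888 with g | g
  · exact ptOK_of_chk 293632 256 c_w_22_47 j (by omega) (by omega)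
  clear h1
  have h1 := g
  clear g
  rcases Nat.lt_or_ge j 294144 with g | g
  · exact ptOK_of_chk 293888 256 c_w_22_48 j (by omega) (by omega)
  clear h1
  have h1 := g
  clear g
  exact ptOK_of_chk 294144 256 c_w_22_49 j (by omega) (by omega)

end Cfsg.Agent.Lib.Helper4.F24M
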