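import Cfsg.Agent.Lib.Helper4.F24M.PtOK
set_option autoImplicit false
set_option maxRecDepth 1000000
set_option Elab.async false

/-! # The checks of the tables of the triple cover of the Fischer group at the points from 294400 to 306935 -/

namespace Cfsg.Agent.Lib.Helper4.F24M
open Cfsg.Agent.Lib.Helper4.TCov

theorem c_w_23_0 : chkPtRange 3 920808 MLF MCF WLF 294400 256 = true := by decide +kernel
theorem c_w_23_1 : chkPtRange 3 920808 MLF MCF WLF 294656 256 = true := by decide +kernel
theorem c_w_23_2 : chkPtRange 3 920808 MLF MCF WLF 294912 256 = true := by decide +kernel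
theorem c_w_23_3 : chkPtRange 3 920808 MLF MCF WLF 295168 256 = true := by decide +kernel
theorem c_w_23_4 : chkPtRange 3 920808 MLF MCF WLF 295424 256 = true := by decide +kernel
theorem c_w_23_5 : chkPtRange 3 920808 MLF MCF WLF 295680 256 = true := by decide +kernel
theorem c_w_23_6 : chkPtRange 3 920808 MLF MCF WLF 295936 256 = true := by decide +kernel
theorem c_w_23_7 : chkPtRange 3 920808 MLF MCF WLF 296192 256 = true := by decide +kernel
theorem c_w_23_8 : chkPtRange 3 920808 MLF MCF WLF 296448 256 = true := by decide +kernel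
theorem c_w_23_9 : chkPtRange 3 920808 MLF MCF WLF 296704 256 = true := by decide +kernel
theorem c_w_23_10 : chkPtRange 3 920808 MLF MCF WLF 296960 256 = true := by decide +kernel
theorem c_w_23_11 : chkPtRange 3 920808 MLF MCF WLF 297216 256 = true := by decide +kernel
theorem c_w_23_12 : chkPtRange 3 920808 MLF MCF WLF 297472 256 = true := by decide +kernel
theorem c_w_23_13 : chkPtRange 3 920808 MLF MCF WLF 297728 256 = true := by decide +kernel
theorem c_w_23_14 : chkPtRange 3 920808 MLF MCF WLF 297984 256 = true := by decide +kernel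
theorem c_w_23_15 : chkPtRange 3 920808 MLF MCF WLF 298240 256 = true := by decide +kernel
theorem c_w_23_16 : chkPtRange 3 920808 MLF MCF WLF 298496 256 = true := by decide +kernel
theorem c_w_23_17 : chkPtRange 3 920808 MLF MCF WLF 298752 256 = true := by decide +kernel
theorem c_w_23_18 : chkPtRange 3 920808 MLF MCF WLF 299008 256 = true := by decide +kernel
theorem c_w_23_19 : chkPtRange 3 920808 MLF MCF WLF 299264 256 = true := by decide +kernel
theorem c_w_23_20 : chkPtRange 3 920808 MLF MCF WLF 299520 256 = true := by decide +kernel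
theorem c_w_23_21 : chkPtRange 3 920808 MLF MCF WLF 299776 256 = true := by decide +kernel
theorem c_w_23_22 : chkPtRange 3 920808 MLF MCF WLF 300032 256 = true := by decide +kernel
theorem c_w_23_23 : chkPtRange 3 920808 MLF MCF WLF 300288 256 = true := by decide +kernel
theorem c_w_23_24 : chkPtRange 3 920808 MLF MCF WLF 300544 256 = true := by decide +kernel
theorem c_w_23_25 : chkPtRange 3 920808 MLF MCF WLF 300800 256 = true := by decide +kernel
theorem c_w_23_26 : chkPtRange 3 920808 MLF MCF WLF 301056 256 = true := by decide +kernel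
theorem c_w_23_27 : chkPtRange 3 920808 MLF MCF WLF 301312 256 = true := by decide +kernel
theorem c_w_23_28 : chkPtRange 3 920808 MLF MCF WLF 301568 256 = true := by decide +kernel
theorem c_w_23_29 : chkPtRange 3 920808 MLF MCF WLF 301824 256 = true := by decide +kernel
theorem c_w_23_30 : chkPtRange 3 920808 MLF MCF WLF 302080 256 = true := by decide +kernel
theorem c_w_23_31 : chkPtRange 3 920808 MLF MCF WLF 302336 256 = true := by decide +kernel
theorem c_w_23_32 : chkPtRange 3 920808 MLF MCF WLF 302592 256 = true := by decide +kernel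
theorem c_w_23_33 : chkPtRange 3 920808 MLF MCF WLF 302848 256 = true := by decide +kernel
theorem c_w_23_34 : chkPtRange 3 920808 MLF MCF WLF 303104 256 = true := by decide +kernel
theorem c_w_23_35 : chkPtRange 3 920808 MLF MCF WLF 303360 256 = true := by decide +kernel
theorem c_w_23_36 : chkPtRange 3 920808 MLF MCF WLF 303616 256 = true := by decide +kernel
theorem c_w_23_37 : chkPtRange 3 920808 MLF MCF WLF 303872 256 = true := by decide +kernel
theorem c_w_23_38 : chkPtRange 3 920808 MLF MCF WLF 304128 256 = true := by decide +kernel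
theorem c_w_23_39 : chkPtRange 3 920808 MLF MCF WLF 304384 256 = true := by decide +kernel
theorem c_w_23_40 : chkPtRange 3 920808 MLF MCF WLF 304640 256 = true := by decide +kernel
theorem c_w_23_41 : chkPtRange 3 920808 MLF MCF WLF 304896 256 = true := by decide +kernel
theorem c_w_23_42 : chkPtRange 3 920808 MLF MCF WLF 305152 256 = true := by decide +kernel
theorem c_w_23_43 : chkPtRange 3 920808 MLF MCF WLF 305408 256 = true := by decide +kernel
theorem c_w_23_44 : chkPtRange 3 920808 MLF MCF WLF 305664 256 = true := by decide +kernel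
theorem c_w_23_45 : chkPtRange 3 920808 MLF MCF WLF 305920 256 = true := by decide +kernel
theorem c_w_23_46 : chkPtRange 3 920808 MLF MCF WLF 306176 256 = true := by decide +kernel
theorem c_w_23_47 : chkPtRange 3 920808 MLF MCF WLF 306432 256 = true := by decide +kernel
theorem c_w_23_48 : chkPtRange 3 920808 MLF MCF WLF 306688 248 = true := by decide +kernel

theorem ptOK_23 (j : ℕ) (h1 : 294400 ≤ j) (h2 : j < 306936) : PtOK j := by
  rcases Nat.lt_or_ge j 294656 with g | g
  · exact ptOK_of_chk 294400 256 c_w_23_0 j (by omega) (by omega)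
  clear h1
  have h1 := g
  clear g
  rcases Nat.lt_or_ge j 294912 with g | g
  · exact ptOK_of_chk 294656 256 c_w_23_1 j (by omega) (by omega)
  clear h1
  have h1 := g
  clear g
  rcases Nat.lt_or_ge j 295168 with g | g
  · exact ptOK_of_chk 294912 256 c_w_23_2 j (by omega) (by omega)
  clear h1
  have h1 := g
  clear g
  rcases Nat.lt_or_ge j 295424 with g | g
  · exact ptOK_of_chk 295168 256 c_w_23_3 j (by omega) (by omega)
  clear h1
  have h1 := g
  clear g
  rcases Nat.lt_or_ge j 295680 with g | g
  · exact ptOK_of_chk 295424 256 c_w_23_4 j (by omega) (by omega)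
  clear h1
  have h1 := g
  clear g
  rcases Nat.lt_or_ge j 295936 with g | g
  · exact ptOK_of_chk 295680 256 c_w_23_5 j (by omega) (by omega)
  clear h1
  have h1 := g
  clear g
  rcases Nat.lt_or_ge j 296192 with g | g
  · exact ptOK_of_chk 295936 256 c_w_23_6 j (by omega) (by omega)
  clear h1
  have h1 := g
  clear g
  rcases Nat.lt_or_ge j 296448 with g | g
  · exact ptOK_of_chk 296192 256 c_w_23_7 j (by omega) (by omega)
  clear h1
  have h1 := g
  clear g
  rcases Nat.lt_or_ge j 296704 with g | g
  · exact ptOK_of_chk 296448 256 c_w_23_8 j (by omega) (by omega)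
  clear h1
  have h1 := g
  clear g
  rcases Nat.lt_or_ge j 296960 with g | g
  · exact ptOK_of_chk 296704 256 c_w_23_9 j (by omega) (by omega)
  clear h1
  have h1 := g
  clear g
  rcases Nat.lt_or_ge j 297216 with g | g
  · exact ptOK_of_chk 296960 256 c_w_23_10 j (by omega) (by omega)
  clear h1
  have h1 := g
  clear g
  rcases Nat.lt_or_ge j 297472 with g | g
  · exact ptOK_of_chk 297216 256 c_w_23_11 j (by omega) (by omega)
  clear h1
  have h1 := g
  clear g
  rcases Nat.lt_or_ge j 297728 with g | g
  · exact ptOK_of_chk 297472 256 c_w_23_12 j (by omega) (by omega)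
  clear h1
  have h1 := g
  clear g
  rcases Nat.lt_or_ge j 297984 with g | g
  · exact ptOK_of_chk 297728 256 c_w_23_13 j (by omega) (by omega)
  clear h1
  have h1 := g
  clear g
  rcases Nat.lt_or_ge j 298240 with g | g
  · exact ptOK_of_chk 297984 256 c_w_23_14 j (by omega) (by omega)
  clear h1
  have h1 := g
  clear g
  rcases Nat.lt_or_ge j 298496 with g | g
  · exact ptOK_of_chk 298240 256 c_w_23_15 j (by omega) (by omega)
  clear h1
  have h1 := g
  clear g
  rcases Nat.lt_or_ge j 298752 with g | g
  · exact ptOK_of_chk 298496 256 c_w_23_16 j (by omega) (by omega)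
  clear h1
  have h1 := g
  clear g
  rcases Nat.lt_or_ge j 299008 with g | g
  · exact ptOK_of_chk 298752 256 c_w_23_17 j (by omega) (by omega)
  clear h1
  have h1 := g
  clear g
  rcases Nat.lt_or_ge j 299264 with g | g
  · exact ptOK_of_chk 299008 256 c_w_23_18 j (by omega) (by omega)
  clear h1
  have h1 := g
  clear g
  rcases Nat.lt_or_ge j 299520 with g | g
  · exact ptOK_of_chk 299264 256 c_w_23_19 j (by omega) (by omega)
  clear h1
  have h1 := g
  clear g
  rcases Nat.lt_or_ge j 299776 with g | g
  · exact ptOK_of_chk 299520 256 c_w_23_20 j (by omega) (by omega)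
  clear h1
  have h1 := g
  clear g
  rcases Nat.lt_or_ge j 300032 with g | g
  · exact ptOK_of_chk 299776 256 c_w_23_21 j (by omega) (by omega)
  clear h1
  have h1 := g
  clear g
  rcases Nat.lt_or_ge j 300288 with g | g
  · exact ptOK_of_chk 300032 256 c_w_23_22 j (by omega) (by omega)
  clear h1
  have h1 := g
  clear g
  rcases Nat.lt_or_ge j 300544 with g | g
  · exact ptOK_of_chk 300288 256 c_w_23_23 j (by omega) (by omega)
  clear h1
  have h1 := g
  clear g
  rcases Nat.lt_or_ge j 300800 with g | g
  · exact ptOK_of_chk 300544 256 c_w_23_24 j (by omega) (by omega)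
  clear h1
  have h1 := g
  clear g
  rcases Nat.lt_or_ge j 301056 with g | g
  · exact ptOK_of_chk 300800 256 c_w_23_25 j (by omega) (by omega)
  clear h1
  have h1 := g
  clear g
  rcases Nat.lt_or_ge j 301312 with g | g
  · exact ptOK_of_chk 301056 256 c_w_23_26 j (by omega) (by omega)
  clear h1
  have h1 := g
  clear g
  rcases Nat.lt_or_ge j 301568 with g | g
  · exact ptOK_of_chk 301312 256 c_w_23_27 j (by omega) (by omega)
  clear h1
  have h1 := g
  clear g
  rcases Nat.lt_or_ge j 301824 with g | g
  · exact ptOK_of_chk 301568 256 c_w_23_28 j (by omega) (by omega)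
  clear h1
  have h1 := g
  clear g
  rcases Nat.lt_or_ge j 302080 with g | g
  · exact ptOK_of_chk 301824 256 c_w_23_29 j (by omega) (by omega)
  clear h1
  have h1 := g
  clear g
  rcases Nat.lt_or_ge j 302336 with g | g
  · exact ptOK_of_chk 302080 256 c_w_23_30 j (by omega) (by omega)
  clear h1
  have h1 := g
  clear g
  rcases Nat.lt_or_ge j 302592 with g | g
  · exact ptOK_of_chk 302336 256 c_w_23_31 j (by omega) (by omega)
  clear h1
  have h1 := g
  clear g
  rcases Nat.lt_or_ge j 302848 with g | g
  · exact ptOK_of_chk 302592 256 c_w_23_32 j (by omega) (by omega)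
  clear h1
  have h1 := g
  clear g
  rcases Nat.lt_or_ge j 303104 with g | g
  · exact ptOK_of_chk 302848 256 c_w_23_33 j (by omega) (by omega)
  clear h1
  have h1 := g
  clear g
  rcases Nat.lt_or_ge j 303360 with g | g
  · exact ptOK_of_chk 303104 256 c_w_23_34 j (by omega) (by omega)
  clear h1
  have h1 := g
  clear g
  rcases Nat.lt_or_ge j 303616 with g | g
  · exact ptOK_of_chk 303360 256 c_w_23_35 j (by omega) (by omega)
  clear h1
  have h1 := g
  clear g
  rcases Nat.lt_or_ge j 303872 with g | g
  · exact ptOK_of_chk 303616 256 c_w_23_36 j (by omega) (by omega)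
  clear h1
  have h1 := g
  clear g
  rcases Nat.lt_or_ge j 304128 with g | g
  · exact ptOK_of_chk 303872 256 c_w_23_37 j (by omega) (by omega)
  clear h1
  have h1 := g
  clear g
  rcases Nat.lt_or_ge j 304384 with g | g
  · exact ptOK_of_chk 304128 256 c_w_23_38 j (by omega) (by omega)
  clear h1
  have h1 := g
  clear g
  rcases Nat.lt_or_ge j 304640 with g | g
  · exact ptOK_of_chk 304384 256 c_w_23_39 j (by omega) (by omega)
  clear h1
  have h1 := g
  clear g
  rcases Nat.lt_or_ge j 304896 with g | g
  · exact ptOK_of_chk 304640 256 c_w_23_40 j (by omega) (by omega)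
  clear h1
  have h1 := g
  clear g
  rcases Nat.lt_or_ge j 305152 with g | g
  · exact ptOK_of_chk 304896 256 c_w_23_41 j (by omega) (by omega)
  clear h1
  have h1 := g
  clear g
  rcases Nat.lt_or_ge j 305408 with g | g
  · exact ptOK_of_chk 305152 256 c_w_23_42 j (by omega) (by omega)
  clear h1
  have h1 := g
  clear g
  rcases Nat.lt_or_ge j 305664 with g | g
  · exact ptOK_of_chk 305408 256 c_w_23_43 j (by omega) (by omega)
  clear h1
  have h1 := g
  clear g
  rcases Nat.lt_or_ge j 305920 with g | g
  · exact ptOK_of_chk 305664 256 c_w_23_44 j (by omega) (by omega)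
  clear h1
  have h1 := g
  clear g
  rcases Nat.lt_or_ge j 306176 with g | g
  · exact ptOK_of_chk 305920 256 c_w_23_45 j (by omega) (by omega)
  clear h1
  have h1 := g
  clear g
  rcases Nat.lt_or_ge j 306432 with g | g
  · exact ptOK_of_chk 306176 256 c_w_23_46 j (by omega) (by omega)
  clear h1
  have h1 := g
  clear g
  rcases Nat.lt_or_ge j 306688 with g | g
  · exact ptOK_of_chk 306432 256 c_w_23_47 j (by omega) (by omega)
  clear h1
  have h1 := g
  clear g
  exact ptOK_of_chk 306688 248 c_w_23_48 j (by omega) (by omega)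

end Cfsg.Agent.Lib.Helper4.F24M
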