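import Cfsg.Agent.Lib.Helper4.F24M.PtOK
set_option autoImplicit false
set_option maxRecDepth 1000000
set_option Elab.async false

/-! # The checks of the tables of the triple cover of the Fischer group at the points from 38400 to 51199 -/

namespace Cfsg.Agent.Lib.Helper4.F24M
open Cfsg.Agent.Lib.Helper4.TCov

theorem c_w_3_0 : chkPtRange 3 920808 MLF MCF WLF 38400 256 = true := by decide +kernel
theorem c_w_3_1 : chkPtRange 3 920808 MLF MCF WLF 38656 256 = true := by decide +kernel
theorem c_w_3_2 : chkPtRange 3 920808 MLF MCF WLF 38912 256 = true := by decide +kernel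
theorem c_w_3_3 : chkPtRange 3 920808 MLF MCF WLF 39168 256 = true := by decide +kernel
theorem c_w_3_4 : chkPtRange 3 920808 MLF MCF WLF 39424 256 = true := by decide +kernel
theorem c_w_3_5 : chkPtRange 3 920808 MLF MCF WLF 39680 256 = true := by decide +kernel
theorem c_w_3_6 : chkPtRange 3 920808 MLF MCF WLF 39936 256 = true := by decide +kernel
theorem c_w_3_7 : chkPtRange 3 920808 MLF MCF WLF 40192 256 = true := by decide +kernel
theorem c_w_3_8 : chkPtRange 3 920808 MLF MCF WLF 40448 256 = true := by decide +kernel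
theorem c_w_3_9 : chkPtRange 3 920808 MLF MCF WLF 40704 256 = true := by decide +kernel
theorem c_w_3_10 : chkPtRange 3 920808 MLF MCF WLF 40960 256 = true := by decide +kernel
theorem c_w_3_11 : chkPtRange 3 920808 MLF MCF WLF 41216 256 = true := by decide +kernel
theorem c_w_3_12 : chkPtRange 3 920808 MLF MCF WLF 41472 256 = true := by decide +kernel
theorem c_w_3_13 : chkPtRange 3 920808 MLF MCF WLF 41728 256 = true := by decide +kernel
theorem c_w_3_14 : chkPtRange 3 920808 MLF MCF WLF 41984 256 = true := by decide +kernel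
theorem c_w_3_15 : chkPtRange 3 920808 MLF MCF WLF 42240 256 = true := by decide +kernel
theorem c_w_3_16 : chkPtRange 3 920808 MLF MCF WLF 42496 256 = true := by decide +kernel
theorem c_w_3_17 : chkPtRange 3 920808 MLF MCF WLF 42752 256 = true := by decide +kernel
theorem c_w_3_18 : chkPtRange 3 920808 MLF MCF WLF 43008 256 = true := by decide +kernel
theorem c_w_3_19 : chkPtRange 3 920808 MLF MCF WLF 43264 256 = true := by decide +kernel
theorem c_w_3_20 : chkPtRange 3 920808 MLF MCF WLF 43520 256 = true := by decide +kernel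
theorem c_w_3_21 : chkPtRange 3 920808 MLF MCF WLF 43776 256 = true := by decide +kernel
theorem c_w_3_22 : chkPtRange 3 920808 MLF MCF WLF 44032 256 = true := by decide +kernel
theorem c_w_3_23 : chkPtRange 3 920808 MLF MCF WLF 44288 256 = true := by decide +kernel
theorem c_w_3_24 : chkPtRange 3 920808 MLF MCF WLF 44544 256 = true := by decide +kernel
theorem c_w_3_25 : chkPtRange 3 920808 MLF MCF WLF 44800 256 = true := by decide +kernel
theorem c_w_3_26 : chkPtRange 3 920808 MLF MCF WLF 45056 256 = true := by decide +kernel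
theorem c_w_3_27 : chkPtRange 3 920808 MLF MCF WLF 45312 256 = true := by decide +kernel
theorem c_w_3_28 : chkPtRange 3 920808 MLF MCF WLF 45568 256 = true := by decide +kernel
theorem c_w_3_29 : chkPtRange 3 920808 MLF MCF WLF 45824 256 = true := by decide +kernel
theorem c_w_3_30 : chkPtRange 3 920808 MLF MCF WLF 46080 256 = true := by decide +kernel
theorem c_w_3_31 : chkPtRange 3 920808 MLF MCF WLF 46336 256 = true := by decide +kernel
theorem c_w_3_32 : chkPtRange 3 920808 MLF MCF WLF 46592 256 = true := by decide +kernel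
theorem c_w_3_33 : chkPtRange 3 920808 MLF MCF WLF 46848 256 = true := by decide +kernel
theorem c_w_3_34 : chkPtRange 3 920808 MLF MCF WLF 47104 256 = true := by decide +kernel
theorem c_w_3_35 : chkPtRange 3 920808 MLF MCF WLF 47360 256 = true := by decide +kernel
theorem c_w_3_36 : chkPtRange 3 920808 MLF MCF WLF 47616 256 = true := by decide +kernel
theorem c_w_3_37 : chkPtRange 3 920808 MLF MCF WLF 47872 256 = true := by decide +kernel
theorem c_w_3_38 : chkPtRange 3 920808 MLF MCF WLF 48128 256 = true := by decide +kernel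
theorem c_w_3_39 : chkPtRange 3 920808 MLF MCF WLF 48384 256 = true := by decide +kernel
theorem c_w_3_40 : chkPtRange 3 920808 MLF MCF WLF 48640 256 = true := by decide +kernel
theorem c_w_3_41 : chkPtRange 3 920808 MLF MCF WLF 48896 256 = true := by decide +kernel
theorem c_w_3_42 : chkPtRange 3 920808 MLF MCF WLF 49152 256 = true := by decide +kernel
theorem c_w_3_43 : chkPtRange 3 920808 MLF MCF WLF 49408 256 = true := by decide +kernel
theorem c_w_3_44 : chkPtRange 3 920808 MLF MCF WLF 49664 256 = true := by decide +kernel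
theorem c_w_3_45 : chkPtRange 3 920808 MLF MCF WLF 49920 256 = true := by decide +kernel
theorem c_w_3_46 : chkPtRange 3 920808 MLF MCF WLF 50176 256 = true := by decide +kernel
theorem c_w_3_47 : chkPtRange 3 920808 MLF MCF WLF 50432 256 = true := by decide +kernel
theorem c_w_3_48 : chkPtRange 3 920808 MLF MCF WLF 50688 256 = true := by decide +kernel
theorem c_w_3_49 : chkPtRange 3 920808 MLF MCF WLF 50944 256 = true := by decide +kernel

theorem ptOK_3 (j : ℕ) (h1 : 38400 ≤ j) (h2 : j < 51200) : PtOK j := by
  rcases Nat.lt_or_ge j 38656 with g | g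
  · exact ptOK_of_chk 38400 256 c_w_3_0 j (by omega) (by omega)
  clear h1
  have h1 := g
  clear g
  rcases Nat.lt_or_ge j 38912 with g | g
  · exact ptOK_of_chk 38656 256 c_w_3_1 j (by omega) (by omega)
  clear h1
  have h1 := g
  clear g
  rcases Nat.lt_or_ge j 39168 with g | g
  · exact ptOK_of_chk 38912 256 c_w_3_2 j (by omega) (by omega)
  clear h1
  have h1 := g
  clear g
  rcases Nat.lt_or_ge j 39424 with g | g
  · exact ptOK_of_chk 39168 256 c_w_3_3 j (by omega) (by omega)
  clear h1
  have h1 := g
  clear g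
  rcases Nat.lt_or_ge j 39680 with g | g
  · exact ptOK_of_chk 39424 256 c_w_3_4 j (by omega) (by omega)
  clear h1
  have h1 := g
  clear g
  rcases Nat.lt_or_ge j 39936 with g | g
  · exact ptOK_of_chk 39680 256 c_w_3_5 j (by omega) (by omega)
  clear h1
  have h1 := g
  clear g
  rcases Nat.lt_or_ge j 40192 with g | g
  · exact ptOK_of_chk 39936 256 c_w_3_6 j (by omega) (by omega)
  clear h1
  have h1 := g
  clear g
  rcases Nat.lt_or_ge j 40448 with g | g
  · exact ptOK_of_chk 40192 256 c_w_3_7 j (by omega) (by omega)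
  clear h1
  have h1 := g
  clear g
  rcases Nat.lt_or_ge j 40704 with g | g
  · exact ptOK_of_chk 40448 256 c_w_3_8 j (by omega) (by omega)
  clear h1
  have h1 := g
  clear g
  rcases Nat.lt_or_ge j 40960 with g | g
  · exact ptOK_of_chk 40704 256 c_w_3_9 j (by omega) (by omega)
  clear h1
  have h1 := g
  clear g
  rcases Nat.lt_or_ge j 41216 with g | g
  · exact ptOK_of_chk 40960 256 c_w_3_10 j (by omega) (by omega)
  clear h1
  have h1 := g
  clear g
  rcases Nat.lt_or_ge j 41472 with g | g
  · exact ptOK_of_chk 41216 256 c_w_3_11 j (by omega) (by omega)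
  clear h1
  have h1 := g
  clear g
  rcases Nat.lt_or_ge j 41728 with g | g
  · exact ptOK_of_chk 41472 256 c_w_3_12 j (by omega) (by omega)
  clear h1
  have h1 := g
  clear g
  rcases Nat.lt_or_ge j 41984 with g | g
  · exact ptOK_of_chk 41728 256 c_w_3_13 j (by omega) (by omega)
  clear h1
  have h1 := g
  clear g
  rcases Nat.lt_or_ge j 42240 with g | g
  · exact ptOK_of_chk 41984 256 c_w_3_14 j (by omega) (by omega)
  clear h1
  have h1 := g
  clear g
  rcases Nat.lt_or_ge j 42496 with g | g
  · exact ptOK_of_chk 42240 256 c_w_3_15 j (by omega) (by omega)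
  clear h1
  have h1 := g
  clear g
  rcases Nat.lt_or_ge j 42752 with g | g
  · exact ptOK_of_chk 42496 256 c_w_3_16 j (by omega) (by omega)
  clear h1
  have h1 := g
  clear g
  rcases Nat.lt_or_ge j 43008 with g | g
  · exact ptOK_of_chk 42752 256 c_w_3_17 j (by omega) (by omega)
  clear h1
  have h1 := g
  clear g
  rcases Nat.lt_or_ge j 43264 with g | g
  · exact ptOK_of_chk 43008 256 c_w_3_18 j (by omega) (by omega)
  clear h1
  have h1 := g
  clear g
  rcases Nat.lt_or_ge j 43520 with g | g
  · exact ptOK_of_chk 43264 256 c_w_3_19 j (by omega) (by omega)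
  clear h1
  have h1 := g
  clear g
  rcases Nat.lt_or_ge j 43776 with g | g
  · exact ptOK_of_chk 43520 256 c_w_3_20 j (by omega) (by omega)
  clear h1
  have h1 := g
  clear g
  rcases Nat.lt_or_ge j 44032 with g | g
  · exact ptOK_of_chk 43776 256 c_w_3_21 j (by omega) (by omega)
  clear h1
  have h1 := g
  clear g
  rcases Nat.lt_or_ge j 44288 with g | g
  · exact ptOK_of_chk 44032 256 c_w_3_22 j (by omega) (by omega)
  clear h1
  have h1 := g
  clear g
  rcases Nat.lt_or_ge j 44544 with g | g
  · exact ptOK_of_chk 44288 256 c_w_3_23 j (by omega) (by omega)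
  clear h1
  have h1 := g
  clear g
  rcases Nat.lt_or_ge j 44800 with g | g
  · exact ptOK_of_chk 44544 256 c_w_3_24 j (by omega) (by omega)
  clear h1
  have h1 := g
  clear g
  rcases Nat.lt_or_ge j 45056 with g | g
  · exact ptOK_of_chk 44800 256 c_w_3_25 j (by omega) (by omega)
  clear h1
  have h1 := g
  clear g
  rcases Nat.lt_or_ge j 45312 with g | g
  · exact ptOK_of_chk 45056 256 c_w_3_26 j (by omega) (by omega)
  clear h1
  have h1 := g
  clear g
  rcases Nat.lt_or_ge j 45568 with g | g
  · exact ptOK_of_chk 45312 256 c_w_3_27 j (by omega) (by omega)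
  clear h1
  have h1 := g
  clear g
  rcases Nat.lt_or_ge j 45824 with g | g
  · exact ptOK_of_chk 45568 256 c_w_3_28 j (by omega) (by omega)
  clear h1
  have h1 := g
  clear g
  rcases Nat.lt_or_ge j 46080 with g | g
  · exact ptOK_of_chk 45824 256 c_w_3_29 j (by omega) (by omega)
  clear h1
  have h1 := g
  clear g
  rcases Nat.lt_or_ge j 46336 with g | g
  · exact ptOK_of_chk 46080 256 c_w_3_30 j (by omega) (by omega)
  clear h1
  have h1 := g
  clear g
  rcases Nat.lt_or_ge j 46592 with g | g
  · exact ptOK_of_chk 46336 256 c_w_3_31 j (by omega) (by omega)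
  clear h1
  have h1 := g
  clear g
  rcases Nat.lt_or_ge j 46848 with g | g
  · exact ptOK_of_chk 46592 256 c_w_3_32 j (by omega) (by omega)
  clear h1
  have h1 := g
  clear g
  rcases Nat.lt_or_ge j 47104 with g | g
  · exact ptOK_of_chk 46848 256 c_w_3_33 j (by omega) (by omega)
  clear h1
  have h1 := g
  clear g
  rcases Nat.lt_or_ge j 47360 with g | g
  · exact ptOK_of_chk 47104 256 c_w_3_34 j (by omega) (by omega)
  clear h1
  have h1 := g
  clear g
  rcases Nat.lt_or_ge j 47616 with g | g
  · exact ptOK_of_chk 47360 256 c_w_3_35 j (by omega) (by omega)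
  clear h1
  have h1 := g
  clear g
  rcases Nat.lt_or_ge j 47872 with g | g
  · exact ptOK_of_chk 47616 256 c_w_3_36 j (by omega) (by omega)
  clear h1
  have h1 := g
  clear g
  rcases Nat.lt_or_ge j 48128 with g | g
  · exact ptOK_of_chk 47872 256 c_w_3_37 j (by omega) (by omega)
  clear h1
  have h1 := g
  clear g
  rcases Nat.lt_or_ge j 48384 with g | g
  · exact ptOK_of_chk 48128 256 c_w_3_38 j (by omega) (by omega)
  clear h1
  have h1 := g
  clear g
  rcases Nat.lt_or_ge j 48640 with g | g
  · exact ptOK_of_chk 48384 256 c_w_3_39 j (by omega) (by omega)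
  clear h1
  have h1 := g
  clear g
  rcases Nat.lt_or_ge j 48896 with g | g
  · exact ptOK_of_chk 48640 256 c_w_3_40 j (by omega) (by omega)
  clear h1
  have h1 := g
  clear g
  rcases Nat.lt_or_ge j 49152 with g | g
  · exact ptOK_of_chk 48896 256 c_w_3_41 j (by omega) (by omega)
  clear h1
  have h1 := g
  clear g
  rcases Nat.lt_or_ge j 49408 with g | g
  · exact ptOK_of_chk 49152 256 c_w_3_42 j (by omega) (by omega)
  clear h1
  have h1 := g
  clear g
  rcases Nat.lt_or_ge j 49664 with g | g
  · exact ptOK_of_chk 49408 256 c_w_3_43 j (by omega) (by omega)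
  clear h1
  have h1 := g
  clear g
  rcases Nat.lt_or_ge j 49920 with g | g
  · exact ptOK_of_chk 49664 256 c_w_3_44 j (by omega) (by omega)
  clear h1
  have h1 := g
  clear g
  rcases Nat.lt_or_ge j 50176 with g | g
  · exact ptOK_of_chk 49920 256 c_w_3_45 j (by omega) (by omega)
  clear h1
  have h1 := g
  clear g
  rcases Nat.lt_or_ge j 50432 with g | g
  · exact ptOK_of_chk 50176 256 c_w_3_46 j (by omega) (by omega)
  clear h1
  have h1 := g
  clear g
  rcases Nat.lt_or_ge j 50688 with g | g
  · exact ptOK_of_chk 50432 256 c_w_3_47 j (by omega) (by omega)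
  clear h1
  have h1 := g
  clear g
  rcases Nat.lt_or_ge j 50944 with g | g
  · exact ptOK_of_chk 50688 256 c_w_3_48 j (by omega) (by omega)
  clear h1
  have h1 := g
  clear g
  exact ptOK_of_chk 50944 256 c_w_3_49 j (by omega) (by omega)

end Cfsg.Agent.Lib.Helper4.F24M
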