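import Cfsg.Agent.Lib.Helper4.F24M.PtOK
set_option autoImplicit false
set_option maxRecDepth 1000000
set_option Elab.async false

/-! # The checks of the tables of the triple cover of the Fischer group at the points from 51200 to 63999 -/

namespace Cfsg.Agent.Lib.Helper4.F24M
open Cfsg.Agent.Lib.Helper4.TCov

theorem c_w_4_0 : chkPtRange 3 920808 MLF MCF WLF 51200 256 = true := by decide +kernel
theorem c_w_4_1 : chkPtRange 3 920808 MLF MCF WLF 51456 256 = true := by decide +kernel
theorem c_w_4_2 : chkPtRange 3 920808 MLF MCF WLF 51712 256 = true := by decide +kernel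
theorem c_w_4_3 : chkPtRange 3 920808 MLF MCF WLF 51968 256 = true := by decide +kernel
theorem c_w_4_4 : chkPtRange 3 920808 MLF MCF WLF 52224 256 = true := by decide +kernel
theorem c_w_4_5 : chkPtRange 3 920808 MLF MCF WLF 52480 256 = true := by decide +kernel
theorem c_w_4_6 : chkPtRange 3 920808 MLF MCF WLF 52736 256 = true := by decide +kernel
theorem c_w_4_7 : chkPtRange 3 920808 MLF MCF WLF 52992 256 = true := by decide +kernel
theorem c_w_4_8 : chkPtRange 3 920808 MLF MCF WLF 53248 256 = true := by decide +kernel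
theorem c_w_4_9 : chkPtRange 3 920808 MLF MCF WLF 53504 256 = true := by decide +kernel
theorem c_w_4_10 : chkPtRange 3 920808 MLF MCF WLF 53760 256 = true := by decide +kernel
theorem c_w_4_11 : chkPtRange 3 920808 MLF MCF WLF 54016 256 = true := by decide +kernel
theorem c_w_4_12 : chkPtRange 3 920808 MLF MCF WLF 54272 256 = true := by decide +kernel
theorem c_w_4_13 : chkPtRange 3 920808 MLF MCF WLF 54528 256 = true := by decide +kernel
theorem c_w_4_14 : chkPtRange 3 920808 MLF MCF WLF 54784 256 = true := by decide +kernel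
theorem c_w_4_15 : chkPtRange 3 920808 MLF MCF WLF 55040 256 = true := by decide +kernel
theorem c_w_4_16 : chkPtRange 3 920808 MLF MCF WLF 55296 256 = true := by decide +kernel
theorem c_w_4_17 : chkPtRange 3 920808 MLF MCF WLF 55552 256 = true := by decide +kernel
theorem c_w_4_18 : chkPtRange 3 920808 MLF MCF WLF 55808 256 = true := by decide +kernel
theorem c_w_4_19 : chkPtRange 3 920808 MLF MCF WLF 56064 256 = true := by decide +kernel
theorem c_w_4_20 : chkPtRange 3 920808 MLF MCF WLF 56320 256 = true := by decide +kernel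
theorem c_w_4_21 : chkPtRange 3 920808 MLF MCF WLF 56576 256 = true := by decide +kernel
theorem c_w_4_22 : chkPtRange 3 920808 MLF MCF WLF 56832 256 = true := by decide +kernel
theorem c_w_4_23 : chkPtRange 3 920808 MLF MCF WLF 57088 256 = true := by decide +kernel
theorem c_w_4_24 : chkPtRange 3 920808 MLF MCF WLF 57344 256 = true := by decide +kernel
theorem c_w_4_25 : chkPtRange 3 920808 MLF MCF WLF 57600 256 = true := by decide +kernel
theorem c_w_4_26 : chkPtRange 3 920808 MLF MCF WLF 57856 256 = true := by decide +kernel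
theorem c_w_4_27 : chkPtRange 3 920808 MLF MCF WLF 58112 256 = true := by decide +kernel
theorem c_w_4_28 : chkPtRange 3 920808 MLF MCF WLF 58368 256 = true := by decide +kernel
theorem c_w_4_29 : chkPtRange 3 920808 MLF MCF WLF 58624 256 = true := by decide +kernel
theorem c_w_4_30 : chkPtRange 3 920808 MLF MCF WLF 58880 256 = true := by decide +kernel
theorem c_w_4_31 : chkPtRange 3 920808 MLF MCF WLF 59136 256 = true := by decide +kernel
theorem c_w_4_32 : chkPtRange 3 920808 MLF MCF WLF 59392 256 = true := by decide +kernel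
theorem c_w_4_33 : chkPtRange 3 920808 MLF MCF WLF 59648 256 = true := by decide +kernel
theorem c_w_4_34 : chkPtRange 3 920808 MLF MCF WLF 59904 256 = true := by decide +kernel
theorem c_w_4_35 : chkPtRange 3 920808 MLF MCF WLF 60160 256 = true := by decide +kernel
theorem c_w_4_36 : chkPtRange 3 920808 MLF MCF WLF 60416 256 = true := by decide +kernel
theorem c_w_4_37 : chkPtRange 3 920808 MLF MCF WLF 60672 256 = true := by decide +kernel
theorem c_w_4_38 : chkPtRange 3 920808 MLF MCF WLF 60928 256 = true := by decide +kernel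
theorem c_w_4_39 : chkPtRange 3 920808 MLF MCF WLF 61184 256 = true := by decide +kernel
theorem c_w_4_40 : chkPtRange 3 920808 MLF MCF WLF 61440 256 = true := by decide +kernel
theorem c_w_4_41 : chkPtRange 3 920808 MLF MCF WLF 61696 256 = true := by decide +kernel
theorem c_w_4_42 : chkPtRange 3 920808 MLF MCF WLF 61952 256 = true := by decide +kernel
theorem c_w_4_43 : chkPtRange 3 920808 MLF MCF WLF 62208 256 = true := by decide +kernel
theorem c_w_4_44 : chkPtRange 3 920808 MLF MCF WLF 62464 256 = true := by decide +kernel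
theorem c_w_4_45 : chkPtRange 3 920808 MLF MCF WLF 62720 256 = true := by decide +kernel
theorem c_w_4_46 : chkPtRange 3 920808 MLF MCF WLF 62976 256 = true := by decide +kernel
theorem c_w_4_47 : chkPtRange 3 920808 MLF MCF WLF 63232 256 = true := by decide +kernel
theorem c_w_4_48 : chkPtRange 3 920808 MLF MCF WLF 63488 256 = true := by decide +kernel
theorem c_w_4_49 : chkPtRange 3 920808 MLF MCF WLF 63744 256 = true := by decide +kernel

theorem ptOK_4 (j : ℕ) (h1 : 51200 ≤ j) (h2 : j < 64000) : PtOK j := by
  rcases Nat.lt_or_ge j 51456 with g | g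
  · exact ptOK_of_chk 51200 256 c_w_4_0 j (by omega) (by omega)
  clear h1
  have h1 := g
  clear g
  rcases Nat.lt_or_ge j 51712 with g | g
  · exact ptOK_of_chk 51456 256 c_w_4_1 j (by omega) (by omega)
  clear h1
  have h1 := g
  clear g
  rcases Nat.lt_or_ge j 51968 with g | g
  · exact ptOK_of_chk 51712 256 c_w_4_2 j (by omega) (by omega)
  clear h1
  have h1 := g
  clear g
  rcases Nat.lt_or_ge j 52224 with g | g
  · exact ptOK_of_chk 51968 256 c_w_4_3 j (by omega) (by omega)
  clear h1
  have h1 := g
  clear g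
  rcases Nat.lt_or_ge j 52480 with g | g
  · exact ptOK_of_chk 52224 256 c_w_4_4 j (by omega) (by omega)
  clear h1
  have h1 := g
  clear g
  rcases Nat.lt_or_ge j 52736 with g | g
  · exact ptOK_of_chk 52480 256 c_w_4_5 j (by omega) (by omega)
  clear h1
  have h1 := g
  clear g
  rcases Nat.lt_or_ge j 52992 with g | g
  · exact ptOK_of_chk 52736 256 c_w_4_6 j (by omega) (by omega)
  clear h1
  have h1 := g
  clear g
  rcases Nat.lt_or_ge j 53248 with g | g
  · exact ptOK_of_chk 52992 256 c_w_4_7 j (by omega) (by omega)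
  clear h1
  have h1 := g
  clear g
  rcases Nat.lt_or_ge j 53504 with g | g
  · exact ptOK_of_chk 53248 256 c_w_4_8 j (by omega) (by omega)
  clear h1
  have h1 := g
  clear g
  rcases Nat.lt_or_ge j 53760 with g | g
  · exact ptOK_of_chk 53504 256 c_w_4_9 j (by omega) (by omega)
  clear h1
  have h1 := g
  clear g
  rcases Nat.lt_or_ge j 54016 with g | g
  · exact ptOK_of_chk 53760 256 c_w_4_10 j (by omega) (by omega)
  clear h1
  have h1 := g
  clear g
  rcases Nat.lt_or_ge j 54272 with g | g
  · exact ptOK_of_chk 54016 256 c_w_4_11 j (by omega) (by omega)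
  clear h1
  have h1 := g
  clear g
  rcases Nat.lt_or_ge j 54528 with g | g
  · exact ptOK_of_chk 54272 256 c_w_4_12 j (by omega) (by omega)
  clear h1
  have h1 := g
  clear g
  rcases Nat.lt_or_ge j 54784 with g | g
  · exact ptOK_of_chk 54528 256 c_w_4_13 j (by omega) (by omega)
  clear h1
  have h1 := g
  clear g
  rcases Nat.lt_or_ge j 55040 with g | g
  · exact ptOK_of_chk 54784 256 c_w_4_14 j (by omega) (by omega)
  clear h1
  have h1 := g
  clear g
  rcases Nat.lt_or_ge j 55296 with g | g
  · exact ptOK_of_chk 55040 256 c_w_4_15 j (by omega) (by omega)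
  clear h1
  have h1 := g
  clear g
  rcases Nat.lt_or_ge j 55552 with g | g
  · exact ptOK_of_chk 55296 256 c_w_4_16 j (by omega) (by omega)
  clear h1
  have h1 := g
  clear g
  rcases Nat.lt_or_ge j 55808 with g | g
  · exact ptOK_of_chk 55552 256 c_w_4_17 j (by omega) (by omega)
  clear h1
  have h1 := g
  clear g
  rcases Nat.lt_or_ge j 56064 with g | g
  · exact ptOK_of_chk 55808 256 c_w_4_18 j (by omega) (by omega)
  clear h1
  have h1 := g
  clear g
  rcases Nat.lt_or_ge j 56320 with g | g
  · exact ptOK_of_chk 56064 256 c_w_4_19 j (by omega) (by omega)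
  clear h1
  have h1 := g
  clear g
  rcases Nat.lt_or_ge j 56576 with g | g
  · exact ptOK_of_chk 56320 256 c_w_4_20 j (by omega) (by omega)
  clear h1
  have h1 := g
  clear g
  rcases Nat.lt_or_ge j 56832 with g | g
  · exact ptOK_of_chk 56576 256 c_w_4_21 j (by omega) (by omega)
  clear h1
  have h1 := g
  clear g
  rcases Nat.lt_or_ge j 57088 with g | g
  · exact ptOK_of_chk 56832 256 c_w_4_22 j (by omega) (by omega)
  clear h1
  have h1 := g
  clear g
  rcases Nat.lt_or_ge j 57344 with g | g
  · exact ptOK_of_chk 57088 256 c_w_4_23 j (by omega) (by omega)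
  clear h1
  have h1 := g
  clear g
  rcases Nat.lt_or_ge j 57600 with g | g
  · exact ptOK_of_chk 57344 256 c_w_4_24 j (by omega) (by omega)
  clear h1
  have h1 := g
  clear g
  rcases Nat.lt_or_ge j 57856 with g | g
  · exact ptOK_of_chk 57600 256 c_w_4_25 j (by omega) (by omega)
  clear h1
  have h1 := g
  clear g
  rcases Nat.lt_or_ge j 58112 with g | g
  · exact ptOK_of_chk 57856 256 c_w_4_26 j (by omega) (by omega)
  clear h1
  have h1 := g
  clear g
  rcases Nat.lt_or_ge j 58368 with g | g
  · exact ptOK_of_chk 58112 256 c_w_4_27 j (by omega) (by omega)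
  clear h1
  have h1 := g
  clear g
  rcases Nat.lt_or_ge j 58624 with g | g
  · exact ptOK_of_chk 58368 256 c_w_4_28 j (by omega) (by omega)
  clear h1
  have h1 := g
  clear g
  rcases Nat.lt_or_ge j 58880 with g | g
  · exact ptOK_of_chk 58624 256 c_w_4_29 j (by omega) (by omega)
  clear h1
  have h1 := g
  clear g
  rcases Nat.lt_or_ge j 59136 with g | g
  · exact ptOK_of_chk 58880 256 c_w_4_30 j (by omega) (by omega)
  clear h1
  have h1 := g
  clear g
  rcases Nat.lt_or_ge j 59392 with g | g
  · exact ptOK_of_chk 59136 256 c_w_4_31 j (by omega) (by omega)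
  clear h1
  have h1 := g
  clear g
  rcases Nat.lt_or_ge j 59648 with g | g
  · exact ptOK_of_chk 59392 256 c_w_4_32 j (by omega) (by omega)
  clear h1
  have h1 := g
  clear g
  rcases Nat.lt_or_ge j 59904 with g | g
  · exact ptOK_of_chk 59648 256 c_w_4_33 j (by omega) (by omega)
  clear h1
  have h1 := g
  clear g
  rcases Nat.lt_or_ge j 60160 with g | g
  · exact ptOK_of_chk 59904 256 c_w_4_34 j (by omega) (by omega)
  clear h1
  have h1 := g
  clear g
  rcases Nat.lt_or_ge j 60416 with g | g
  · exact ptOK_of_chk 60160 256 c_w_4_35 j (by omega) (by omega)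
  clear h1
  have h1 := g
  clear g
  rcases Nat.lt_or_ge j 60672 with g | g
  · exact ptOK_of_chk 60416 256 c_w_4_36 j (by omega) (by omega)
  clear h1
  have h1 := g
  clear g
  rcases Nat.lt_or_ge j 60928 with g | g
  · exact ptOK_of_chk 60672 256 c_w_4_37 j (by omega) (by omega)
  clear h1
  have h1 := g
  clear g
  rcases Nat.lt_or_ge j 61184 with g | g
  · exact ptOK_of_chk 60928 256 c_w_4_38 j (by omega) (by omega)
  clear h1
  have h1 := g
  clear g
  rcases Nat.lt_or_ge j 61440 with g | g
  · exact ptOK_of_chk 61184 256 c_w_4_39 j (by omega) (by omega)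
  clear h1
  have h1 := g
  clear g
  rcases Nat.lt_or_ge j 61696 with g | g
  · exact ptOK_of_chk 61440 256 c_w_4_40 j (by omega) (by omega)
  clear h1
  have h1 := g
  clear g
  rcases Nat.lt_or_ge j 61952 with g | g
  · exact ptOK_of_chk 61696 256 c_w_4_41 j (by omega) (by omega)
  clear h1
  have h1 := g
  clear g
  rcases Nat.lt_or_ge j 62208 with g | g
  · exact ptOK_of_chk 61952 256 c_w_4_42 j (by omega) (by omega)
  clear h1
  have h1 := g
  clear g
  rcases Nat.lt_or_ge j 62464 with g | g
  · exact ptOK_of_chk 62208 256 c_w_4_43 j (by omega) (by omega)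
  clear h1
  have h1 := g
  clear g
  rcases Nat.lt_or_ge j 62720 with g | g
  · exact ptOK_of_chk 62464 256 c_w_4_44 j (by omega) (by omega)
  clear h1
  have h1 := g
  clear g
  rcases Nat.lt_or_ge j 62976 with g | g
  · exact ptOK_of_chk 62720 256 c_w_4_45 j (by omega) (by omega)
  clear h1
  have h1 := g
  clear g
  rcases Nat.lt_or_ge j 63232 with g | g
  · exact ptOK_of_chk 62976 256 c_w_4_46 j (by omega) (by omega)
  clear h1
  have h1 := g
  clear g
  rcases Nat.lt_or_ge j 63488 with g | g
  · exact ptOK_of_chk 63232 256 c_w_4_47 j (by omega) (by omega)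
  clear h1
  have h1 := g
  clear g
  rcases Nat.lt_or_ge j 63744 with g | g
  · exact ptOK_of_chk 63488 256 c_w_4_48 j (by omega) (by omega)
  clear h1
  have h1 := g
  clear g
  exact ptOK_of_chk 63744 256 c_w_4_49 j (by omega) (by omega)

end Cfsg.Agent.Lib.Helper4.F24M
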