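import Cfsg.Agent.Lib.Helper4.F24M.PtOK
set_option autoImplicit false
set_option maxRecDepth 1000000
set_option Elab.async false

/-! # The checks of the tables of the triple cover of the Fischer group at the points from 64000 to 76799 -/

namespace Cfsg.Agent.Lib.Helper4.F24M
open Cfsg.Agent.Lib.Helper4.TCov

theorem c_w_5_0 : chkPtRange 3 920808 MLF MCF WLF 64000 256 = true := by decide +kernel
theorem c_w_5_1 : chkPtRange 3 920808 MLF MCF WLF 64256 256 = true := by decide +kernel
theorem c_w_5_2 : chkPtRange 3 920808 MLF MCF WLF 64512 256 = true := by decide +kernel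
theorem c_w_5_3 : chkPtRange 3 920808 MLF MCF WLF 64768 256 = true := by decide +kernel
theorem c_w_5_4 : chkPtRange 3 920808 MLF MCF WLF 65024 256 = true := by decide +kernel
theorem c_w_5_5 : chkPtRange 3 920808 MLF MCF WLF 65280 256 = true := by decide +kernel
theorem c_w_5_6 : chkPtRange 3 920808 MLF MCF WLF 65536 256 = true := by decide +kernel
theorem c_w_5_7 : chkPtRange 3 920808 MLF MCF WLF 65792 256 = true := by decide +kernel
theorem c_w_5_8 : chkPtRange 3 920808 MLF MCF WLF 66048 256 = true := by decide +kernel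
theorem c_w_5_9 : chkPtRange 3 920808 MLF MCF WLF 66304 256 = true := by decide +kernel
theorem c_w_5_10 : chkPtRange 3 920808 MLF MCF WLF 66560 256 = true := by decide +kernel
theorem c_w_5_11 : chkPtRange 3 920808 MLF MCF WLF 66816 256 = true := by decide +kernel
theorem c_w_5_12 : chkPtRange 3 920808 MLF MCF WLF 67072 256 = true := by decide +kernel
theorem c_w_5_13 : chkPtRange 3 920808 MLF MCF WLF 67328 256 = true := by decide +kernel
theorem c_w_5_14 : chkPtRange 3 920808 MLF MCF WLF 67584 256 = true := by decide +kernel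
theorem c_w_5_15 : chkPtRange 3 920808 MLF MCF WLF 67840 256 = true := by decide +kernel
theorem c_w_5_16 : chkPtRange 3 920808 MLF MCF WLF 68096 256 = true := by decide +kernel
theorem c_w_5_17 : chkPtRange 3 920808 MLF MCF WLF 68352 256 = true := by decide +kernel
theorem c_w_5_18 : chkPtRange 3 920808 MLF MCF WLF 68608 256 = true := by decide +kernel
theorem c_w_5_19 : chkPtRange 3 920808 MLF MCF WLF 68864 256 = true := by decide +kernel
theorem c_w_5_20 : chkPtRange 3 920808 MLF MCF WLF 69120 256 = true := by decide +kernel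
theorem c_w_5_21 : chkPtRange 3 920808 MLF MCF WLF 69376 256 = true := by decide +kernel
theorem c_w_5_22 : chkPtRange 3 920808 MLF MCF WLF 69632 256 = true := by decide +kernel
theorem c_w_5_23 : chkPtRange 3 920808 MLF MCF WLF 69888 256 = true := by decide +kernel
theorem c_w_5_24 : chkPtRange 3 920808 MLF MCF WLF 70144 256 = true := by decide +kernel
theorem c_w_5_25 : chkPtRange 3 920808 MLF MCF WLF 70400 256 = true := by decide +kernel
theorem c_w_5_26 : chkPtRange 3 920808 MLF MCF WLF 70656 256 = true := by decide +kernel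
theorem c_w_5_27 : chkPtRange 3 920808 MLF MCF WLF 70912 256 = true := by decide +kernel
theorem c_w_5_28 : chkPtRange 3 920808 MLF MCF WLF 71168 256 = true := by decide +kernel
theorem c_w_5_29 : chkPtRange 3 920808 MLF MCF WLF 71424 256 = true := by decide +kernel
theorem c_w_5_30 : chkPtRange 3 920808 MLF MCF WLF 71680 256 = true := by decide +kernel
theorem c_w_5_31 : chkPtRange 3 920808 MLF MCF WLF 71936 256 = true := by decide +kernel
theorem c_w_5_32 : chkPtRange 3 920808 MLF MCF WLF 72192 256 = true := by decide +kernel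
theorem c_w_5_33 : chkPtRange 3 920808 MLF MCF WLF 72448 256 = true := by decide +kernel
theorem c_w_5_34 : chkPtRange 3 920808 MLF MCF WLF 72704 256 = true := by decide +kernel
theorem c_w_5_35 : chkPtRange 3 920808 MLF MCF WLF 72960 256 = true := by decide +kernel
theorem c_w_5_36 : chkPtRange 3 920808 MLF MCF WLF 73216 256 = true := by decide +kernel
theorem c_w_5_37 : chkPtRange 3 920808 MLF MCF WLF 73472 256 = true := by decide +kernel
theorem c_w_5_38 : chkPtRange 3 920808 MLF MCF WLF 73728 256 = true := by decide +kernel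
theorem c_w_5_39 : chkPtRange 3 920808 MLF MCF WLF 73984 256 = true := by decide +kernel
theorem c_w_5_40 : chkPtRange 3 920808 MLF MCF WLF 74240 256 = true := by decide +kernel
theorem c_w_5_41 : chkPtRange 3 920808 MLF MCF WLF 74496 256 = true := by decide +kernel
theorem c_w_5_42 : chkPtRange 3 920808 MLF MCF WLF 74752 256 = true := by decide +kernel
theorem c_w_5_43 : chkPtRange 3 920808 MLF MCF WLF 75008 256 = true := by decide +kernel
theorem c_w_5_44 : chkPtRange 3 920808 MLF MCF WLF 75264 256 = true := by decide +kernel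
theorem c_w_5_45 : chkPtRange 3 920808 MLF MCF WLF 75520 256 = true := by decide +kernel
theorem c_w_5_46 : chkPtRange 3 920808 MLF MCF WLF 75776 256 = true := by decide +kernel
theorem c_w_5_47 : chkPtRange 3 920808 MLF MCF WLF 76032 256 = true := by decide +kernel
theorem c_w_5_48 : chkPtRange 3 920808 MLF MCF WLF 76288 256 = true := by decide +kernel
theorem c_w_5_49 : chkPtRange 3 920808 MLF MCF WLF 76544 256 = true := by decide +kernel

theorem ptOK_5 (j : ℕ) (h1 : 64000 ≤ j) (h2 : j < 76800) : PtOK j := by
  rcases Nat.lt_or_ge j 64256 with g | g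
  · exact ptOK_of_chk 64000 256 c_w_5_0 j (by omega) (by omega)
  clear h1
  have h1 := g
  clear g
  rcases Nat.lt_or_ge j 64512 with g | g
  · exact ptOK_of_chk 64256 256 c_w_5_1 j (by omega) (by omega)
  clear h1
  have h1 := g
  clear g
  rcases Nat.lt_or_ge j 64768 with g | g
  · exact ptOK_of_chk 64512 256 c_w_5_2 j (by omega) (by omega)
  clear h1
  have h1 := g
  clear g
  rcases Nat.lt_or_ge j 65024 with g | g
  · exact ptOK_of_chk 64768 256 c_w_5_3 j (by omega) (by omega)
  clear h1
  have h1 := g
  clear g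
  rcases Nat.lt_or_ge j 65280 with g | g
  · exact ptOK_of_chk 65024 256 c_w_5_4 j (by omega) (by omega)
  clear h1
  have h1 := g
  clear g
  rcases Nat.lt_or_ge j 65536 with g | g
  · exact ptOK_of_chk 65280 256 c_w_5_5 j (by omega) (by omega)
  clear h1
  have h1 := g
  clear g
  rcases Nat.lt_or_ge j 65792 with g | g
  · exact ptOK_of_chk 65536 256 c_w_5_6 j (by omega) (by omega)
  clear h1
  have h1 := g
  clear g
  rcases Nat.lt_or_ge j 66048 with g | g
  · exact ptOK_of_chk 65792 256 c_w_5_7 j (by omega) (by omega)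
  clear h1
  have h1 := g
  clear g
  rcases Nat.lt_or_ge j 66304 with g | g
  · exact ptOK_of_chk 66048 256 c_w_5_8 j (by omega) (by omega)
  clear h1
  have h1 := g
  clear g
  rcases Nat.lt_or_ge j 66560 with g | g
  · exact ptOK_of_chk 66304 256 c_w_5_9 j (by omega) (by omega)
  clear h1
  have h1 := g
  clear g
  rcases Nat.lt_or_ge j 66816 with g | g
  · exact ptOK_of_chk 66560 256 c_w_5_10 j (by omega) (by omega)
  clear h1
  have h1 := g
  clear g
  rcases Nat.lt_or_ge j 67072 with g | g
  · exact ptOK_of_chk 66816 256 c_w_5_11 j (by omega) (by omega)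
  clear h1
  have h1 := g
  clear g
  rcases Nat.lt_or_ge j 67328 with g | g
  · exact ptOK_of_chk 67072 256 c_w_5_12 j (by omega) (by omega)
  clear h1
  have h1 := g
  clear g
  rcases Nat.lt_or_ge j 67584 with g | g
  · exact ptOK_of_chk 67328 256 c_w_5_13 j (by omega) (by omega)
  clear h1
  have h1 := g
  clear g
  rcases Nat.lt_or_ge j 67840 with g | g
  · exact ptOK_of_chk 67584 256 c_w_5_14 j (by omega) (by omega)
  clear h1
  have h1 := g
  clear g
  rcases Nat.lt_or_ge j 68096 with g | g
  · exact ptOK_of_chk 67840 256 c_w_5_15 j (by omega) (by omega)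
  clear h1
  have h1 := g
  clear g
  rcases Nat.lt_or_ge j 68352 with g | g
  · exact ptOK_of_chk 68096 256 c_w_5_16 j (by omega) (by omega)
  clear h1
  have h1 := g
  clear g
  rcases Nat.lt_or_ge j 68608 with g | g
  · exact ptOK_of_chk 68352 256 c_w_5_17 j (by omega) (by omega)
  clear h1
  have h1 := g
  clear g
  rcases Nat.lt_or_ge j 68864 with g | g
  · exact ptOK_of_chk 68608 256 c_w_5_18 j (by omega) (by omega)
  clear h1
  have h1 := g
  clear g
  rcases Nat.lt_or_ge j 69120 with g | g
  · exact ptOK_of_chk 68864 256 c_w_5_19 j (by omega) (by omega)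
  clear h1
  have h1 := g
  clear g
  rcases Nat.lt_or_ge j 69376 with g | g
  · exact ptOK_of_chk 69120 256 c_w_5_20 j (by omega) (by omega)
  clear h1
  have h1 := g
  clear g
  rcases Nat.lt_or_ge j 69632 with g | g
  · exact ptOK_of_chk 69376 256 c_w_5_21 j (by omega) (by omega)
  clear h1
  have h1 := g
  clear g
  rcases Nat.lt_or_ge j 69888 with g | g
  · exact ptOK_of_chk 69632 256 c_w_5_22 j (by omega) (by omega)
  clear h1
  have h1 := g
  clear g
  rcases Nat.lt_or_ge j 70144 with g | g
  · exact ptOK_of_chk 69888 256 c_w_5_23 j (by omega) (by omega)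
  clear h1
  have h1 := g
  clear g
  rcases Nat.lt_or_ge j 70400 with g | g
  · exact ptOK_of_chk 70144 256 c_w_5_24 j (by omega) (by omega)
  clear h1
  have h1 := g
  clear g
  rcases Nat.lt_or_ge j 70656 with g | g
  · exact ptOK_of_chk 70400 256 c_w_5_25 j (by omega) (by omega)
  clear h1
  have h1 := g
  clear g
  rcases Nat.lt_or_ge j 70912 with g | g
  · exact ptOK_of_chk 70656 256 c_w_5_26 j (by omega) (by omega)
  clear h1
  have h1 := g
  clear g
  rcases Nat.lt_or_ge j 71168 with g | g
  · exact ptOK_of_chk 70912 256 c_w_5_27 j (by omega) (by omega)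
  clear h1
  have h1 := g
  clear g
  rcases Nat.lt_or_ge j 71424 with g | g
  · exact ptOK_of_chk 71168 256 c_w_5_28 j (by omega) (by omega)
  clear h1
  have h1 := g
  clear g
  rcases Nat.lt_or_ge j 71680 with g | g
  · exact ptOK_of_chk 71424 256 c_w_5_29 j (by omega) (by omega)
  clear h1
  have h1 := g
  clear g
  rcases Nat.lt_or_ge j 71936 with g | g
  · exact ptOK_of_chk 71680 256 c_w_5_30 j (by omega) (by omega)
  clear h1
  have h1 := g
  clear g
  rcases Nat.lt_or_ge j 72192 with g | g
  · exact ptOK_of_chk 71936 256 c_w_5_31 j (by omega) (by omega)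
  clear h1
  have h1 := g
  clear g
  rcases Nat.lt_or_ge j 72448 with g | g
  · exact ptOK_of_chk 72192 256 c_w_5_32 j (by omega) (by omega)
  clear h1
  have h1 := g
  clear g
  rcases Nat.lt_or_ge j 72704 with g | g
  · exact ptOK_of_chk 72448 256 c_w_5_33 j (by omega) (by omega)
  clear h1
  have h1 := g
  clear g
  rcases Nat.lt_or_ge j 72960 with g | g
  · exact ptOK_of_chk 72704 256 c_w_5_34 j (by omega) (by omega)
  clear h1
  have h1 := g
  clear g
  rcases Nat.lt_or_ge j 73216 with g | g
  · exact ptOK_of_chk 72960 256 c_w_5_35 j (by omega) (by omega)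
  clear h1
  have h1 := g
  clear g
  rcases Nat.lt_or_ge j 73472 with g | g
  · exact ptOK_of_chk 73216 256 c_w_5_36 j (by omega) (by omega)
  clear h1
  have h1 := g
  clear g
  rcases Nat.lt_or_ge j 73728 with g | g
  · exact ptOK_of_chk 73472 256 c_w_5_37 j (by omega) (by omega)
  clear h1
  have h1 := g
  clear g
  rcases Nat.lt_or_ge j 73984 with g | g
  · exact ptOK_of_chk 73728 256 c_w_5_38 j (by omega) (by omega)
  clear h1
  have h1 := g
  clear g
  rcases Nat.lt_or_ge j 74240 with g | g
  · exact ptOK_of_chk 73984 256 c_w_5_39 j (by omega) (by omega)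
  clear h1
  have h1 := g
  clear g
  rcases Nat.lt_or_ge j 74496 with g | g
  · exact ptOK_of_chk 74240 256 c_w_5_40 j (by omega) (by omega)
  clear h1
  have h1 := g
  clear g
  rcases Nat.lt_or_ge j 74752 with g | g
  · exact ptOK_of_chk 74496 256 c_w_5_41 j (by omega) (by omega)
  clear h1
  have h1 := g
  clear g
  rcases Nat.lt_or_ge j 75008 with g | g
  · exact ptOK_of_chk 74752 256 c_w_5_42 j (by omega) (by omega)
  clear h1
  have h1 := g
  clear g
  rcases Nat.lt_or_ge j 75264 with g | g
  · exact ptOK_of_chk 75008 256 c_w_5_43 j (by omega) (by omega)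
  clear h1
  have h1 := g
  clear g
  rcases Nat.lt_or_ge j 75520 with g | g
  · exact ptOK_of_chk 75264 256 c_w_5_44 j (by omega) (by omega)
  clear h1
  have h1 := g
  clear g
  rcases Nat.lt_or_ge j 75776 with g | g
  · exact ptOK_of_chk 75520 256 c_w_5_45 j (by omega) (by omega)
  clear h1
  have h1 := g
  clear g
  rcases Nat.lt_or_ge j 76032 with g | g
  · exact ptOK_of_chk 75776 256 c_w_5_46 j (by omega) (by omega)
  clear h1
  have h1 := g
  clear g
  rcases Nat.lt_or_ge j 76288 with g | g
  · exact ptOK_of_chk 76032 256 c_w_5_47 j (by omega) (by omega)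
  clear h1
  have h1 := g
  clear g
  rcases Nat.lt_or_ge j 76544 with g | g
  · exact ptOK_of_chk 76288 256 c_w_5_48 j (by omega) (by omega)
  clear h1
  have h1 := g
  clear g
  exact ptOK_of_chk 76544 256 c_w_5_49 j (by omega) (by omega)

end Cfsg.Agent.Lib.Helper4.F24M
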