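import Cfsg.Agent.Lib.Helper4.F24M.PtOK
set_option autoImplicit false
set_option maxRecDepth 1000000
set_option Elab.async false

/-! # The checks of the tables of the triple cover of the Fischer group at the points from 76800 to 89599 -/

namespace Cfsg.Agent.Lib.Helper4.F24M
open Cfsg.Agent.Lib.Helper4.TCov

theorem c_w_6_0 : chkPtRange 3 920808 MLF MCF WLF 76800 256 = true := by decide +kernel
theorem c_w_6_1 : chkPtRange 3 920808 MLF MCF WLF 77056 256 = true := by decide +kernel
theorem c_w_6_2 : chkPtRange 3 920808 MLF MCF WLF 77312 256 = true := by decide +kernel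
theorem c_w_6_3 : chkPtRange 3 920808 MLF MCF WLF 77568 256 = true := by decide +kernel
theorem c_w_6_4 : chkPtRange 3 920808 MLF MCF WLF 77824 256 = true := by decide +kernel
theorem c_w_6_5 : chkPtRange 3 920808 MLF MCF WLF 78080 256 = true := by decide +kernel
theorem c_w_6_6 : chkPtRange 3 920808 MLF MCF WLF 78336 256 = true := by decide +kernel
theorem c_w_6_7 : chkPtRange 3 920808 MLF MCF WLF 78592 256 = true := by decide +kernel
theorem c_w_6_8 : chkPtRange 3 920808 MLF MCF WLF 78848 256 = true := by decide +kernel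
theorem c_w_6_9 : chkPtRange 3 920808 MLF MCF WLF 79104 256 = true := by decide +kernel
theorem c_w_6_10 : chkPtRange 3 920808 MLF MCF WLF 79360 256 = true := by decide +kernel
theorem c_w_6_11 : chkPtRange 3 920808 MLF MCF WLF 79616 256 = true := by decide +kernel
theorem c_w_6_12 : chkPtRange 3 920808 MLF MCF WLF 79872 256 = true := by decide +kernel
theorem c_w_6_13 : chkPtRange 3 920808 MLF MCF WLF 80128 256 = true := by decide +kernel
theorem c_w_6_14 : chkPtRange 3 920808 MLF MCF WLF 80384 256 = true := by decide +kernel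
theorem c_w_6_15 : chkPtRange 3 920808 MLF MCF WLF 80640 256 = true := by decide +kernel
theorem c_w_6_16 : chkPtRange 3 920808 MLF MCF WLF 80896 256 = true := by decide +kernel
theorem c_w_6_17 : chkPtRange 3 920808 MLF MCF WLF 81152 256 = true := by decide +kernel
theorem c_w_6_18 : chkPtRange 3 920808 MLF MCF WLF 81408 256 = true := by decide +kernel
theorem c_w_6_19 : chkPtRange 3 920808 MLF MCF WLF 81664 256 = true := by decide +kernel
theorem c_w_6_20 : chkPtRange 3 920808 MLF MCF WLF 81920 256 = true := by decide +kernel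
theorem c_w_6_21 : chkPtRange 3 920808 MLF MCF WLF 82176 256 = true := by decide +kernel
theorem c_w_6_22 : chkPtRange 3 920808 MLF MCF WLF 82432 256 = true := by decide +kernel
theorem c_w_6_23 : chkPtRange 3 920808 MLF MCF WLF 82688 256 = true := by decide +kernel
theorem c_w_6_24 : chkPtRange 3 920808 MLF MCF WLF 82944 256 = true := by decide +kernel
theorem c_w_6_25 : chkPtRange 3 920808 MLF MCF WLF 83200 256 = true := by decide +kernel
theorem c_w_6_26 : chkPtRange 3 920808 MLF MCF WLF 83456 256 = true := by decide +kernel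
theorem c_w_6_27 : chkPtRange 3 920808 MLF MCF WLF 83712 256 = true := by decide +kernel
theorem c_w_6_28 : chkPtRange 3 920808 MLF MCF WLF 83968 256 = true := by decide +kernel
theorem c_w_6_29 : chkPtRange 3 920808 MLF MCF WLF 84224 256 = true := by decide +kernel
theorem c_w_6_30 : chkPtRange 3 920808 MLF MCF WLF 84480 256 = true := by decide +kernel
theorem c_w_6_31 : chkPtRange 3 920808 MLF MCF WLF 84736 256 = true := by decide +kernel
theorem c_w_6_32 : chkPtRange 3 920808 MLF MCF WLF 84992 256 = true := by decide +kernel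
theorem c_w_6_33 : chkPtRange 3 920808 MLF MCF WLF 85248 256 = true := by decide +kernel
theorem c_w_6_34 : chkPtRange 3 920808 MLF MCF WLF 85504 256 = true := by decide +kernel
theorem c_w_6_35 : chkPtRange 3 920808 MLF MCF WLF 85760 256 = true := by decide +kernel
theorem c_w_6_36 : chkPtRange 3 920808 MLF MCF WLF 86016 256 = true := by decide +kernel
theorem c_w_6_37 : chkPtRange 3 920808 MLF MCF WLF 86272 256 = true := by decide +kernel
theorem c_w_6_38 : chkPtRange 3 920808 MLF MCF WLF 86528 256 = true := by decide +kernel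
theorem c_w_6_39 : chkPtRange 3 920808 MLF MCF WLF 86784 256 = true := by decide +kernel
theorem c_w_6_40 : chkPtRange 3 920808 MLF MCF WLF 87040 256 = true := by decide +kernel
theorem c_w_6_41 : chkPtRange 3 920808 MLF MCF WLF 87296 256 = true := by decide +kernel
theorem c_w_6_42 : chkPtRange 3 920808 MLF MCF WLF 87552 256 = true := by decide +kernel
theorem c_w_6_43 : chkPtRange 3 920808 MLF MCF WLF 87808 256 = true := by decide +kernel
theorem c_w_6_44 : chkPtRange 3 920808 MLF MCF WLF 88064 256 = true := by decide +kernel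
theorem c_w_6_45 : chkPtRange 3 920808 MLF MCF WLF 88320 256 = true := by decide +kernel
theorem c_w_6_46 : chkPtRange 3 920808 MLF MCF WLF 88576 256 = true := by decide +kernel
theorem c_w_6_47 : chkPtRange 3 920808 MLF MCF WLF 88832 256 = true := by decide +kernel
theorem c_w_6_48 : chkPtRange 3 920808 MLF MCF WLF 89088 256 = true := by decide +kernel
theorem c_w_6_49 : chkPtRange 3 920808 MLF MCF WLF 89344 256 = true := by decide +kernel

theorem ptOK_6 (j : ℕ) (h1 : 76800 ≤ j) (h2 : j < 89600) : PtOK j := by
  rcases Nat.lt_or_ge j 77056 with g | g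
  · exact ptOK_of_chk 76800 256 c_w_6_0 j (by omega) (by omega)
  clear h1
  have h1 := g
  clear g
  rcases Nat.lt_or_ge j 77312 with g | g
  · exact ptOK_of_chk 77056 256 c_w_6_1 j (by omega) (by omega)
  clear h1
  have h1 := g
  clear g
  rcases Nat.lt_or_ge j 77568 with g | g
  · exact ptOK_of_chk 77312 256 c_w_6_2 j (by omega) (by omega)
  clear h1
  have h1 := g
  clear g
  rcases Nat.lt_or_ge j 77824 with g | g
  · exact ptOK_of_chk 77568 256 c_w_6_3 j (by omega) (by omega)
  clear h1
  have h1 := g
  clear g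
  rcases Nat.lt_or_ge j 78080 with g | g
  · exact ptOK_of_chk 77824 256 c_w_6_4 j (by omega) (by omega)
  clear h1
  have h1 := g
  clear g
  rcases Nat.lt_or_ge j 78336 with g | g
  · exact ptOK_of_chk 78080 256 c_w_6_5 j (by omega) (by omega)
  clear h1
  have h1 := g
  clear g
  rcases Nat.lt_or_ge j 78592 with g | g
  · exact ptOK_of_chk 78336 256 c_w_6_6 j (by omega) (by omega)
  clear h1
  have h1 := g
  clear g
  rcases Nat.lt_or_ge j 78848 with g | g
  · exact ptOK_of_chk 78592 256 c_w_6_7 j (by omega) (by omega)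
  clear h1
  have h1 := g
  clear g
  rcases Nat.lt_or_ge j 79104 with g | g
  · exact ptOK_of_chk 78848 256 c_w_6_8 j (by omega) (by omega)
  clear h1
  have h1 := g
  clear g
  rcases Nat.lt_or_ge j 79360 with g | g
  · exact ptOK_of_chk 79104 256 c_w_6_9 j (by omega) (by omega)
  clear h1
  have h1 := g
  clear g
  rcases Nat.lt_or_ge j 79616 with g | g
  · exact ptOK_of_chk 79360 256 c_w_6_10 j (by omega) (by omega)
  clear h1
  have h1 := g
  clear g
  rcases Nat.lt_or_ge j 79872 with g | g
  · exact ptOK_of_chk 79616 256 c_w_6_11 j (by omega) (by omega)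
  clear h1
  have h1 := g
  clear g
  rcases Nat.lt_or_ge j 80128 with g | g
  · exact ptOK_of_chk 79872 256 c_w_6_12 j (by omega) (by omega)
  clear h1
  have h1 := g
  clear g
  rcases Nat.lt_or_ge j 80384 with g | g
  · exact ptOK_of_chk 80128 256 c_w_6_13 j (by omega) (by omega)
  clear h1
  have h1 := g
  clear g
  rcases Nat.lt_or_ge j 80640 with g | g
  · exact ptOK_of_chk 80384 256 c_w_6_14 j (by omega) (by omega)
  clear h1
  have h1 := g
  clear g
  rcases Nat.lt_or_ge j 80896 with g | g
  · exact ptOK_of_chk 80640 256 c_w_6_15 j (by omega) (by omega)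
  clear h1
  have h1 := g
  clear g
  rcases Nat.lt_or_ge j 81152 with g | g
  · exact ptOK_of_chk 80896 256 c_w_6_16 j (by omega) (by omega)
  clear h1
  have h1 := g
  clear g
  rcases Nat.lt_or_ge j 81408 with g | g
  · exact ptOK_of_chk 81152 256 c_w_6_17 j (by omega) (by omega)
  clear h1
  have h1 := g
  clear g
  rcases Nat.lt_or_ge j 81664 with g | g
  · exact ptOK_of_chk 81408 256 c_w_6_18 j (by omega) (by omega)
  clear h1
  have h1 := g
  clear g
  rcases Nat.lt_or_ge j 81920 with g | g
  · exact ptOK_of_chk 81664 256 c_w_6_19 j (by omega) (by omega)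
  clear h1
  have h1 := g
  clear g
  rcases Nat.lt_or_ge j 82176 with g | g
  · exact ptOK_of_chk 81920 256 c_w_6_20 j (by omega) (by omega)
  clear h1
  have h1 := g
  clear g
  rcases Nat.lt_or_ge j 82432 with g | g
  · exact ptOK_of_chk 82176 256 c_w_6_21 j (by omega) (by omega)
  clear h1
  have h1 := g
  clear g
  rcases Nat.lt_or_ge j 82688 with g | g
  · exact ptOK_of_chk 82432 256 c_w_6_22 j (by omega) (by omega)
  clear h1
  have h1 := g
  clear g
  rcases Nat.lt_or_ge j 82944 with g | g
  · exact ptOK_of_chk 82688 256 c_w_6_23 j (by omega) (by omega)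
  clear h1
  have h1 := g
  clear g
  rcases Nat.lt_or_ge j 83200 with g | g
  · exact ptOK_of_chk 82944 256 c_w_6_24 j (by omega) (by omega)
  clear h1
  have h1 := g
  clear g
  rcases Nat.lt_or_ge j 83456 with g | g
  · exact ptOK_of_chk 83200 256 c_w_6_25 j (by omega) (by omega)
  clear h1
  have h1 := g
  clear g
  rcases Nat.lt_or_ge j 83712 with g | g
  · exact ptOK_of_chk 83456 256 c_w_6_26 j (by omega) (by omega)
  clear h1
  have h1 := g
  clear g
  rcases Nat.lt_or_ge j 83968 with g | g
  · exact ptOK_of_chk 83712 256 c_w_6_27 j (by omega) (by omega)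
  clear h1
  have h1 := g
  clear g
  rcases Nat.lt_or_ge j 84224 with g | g
  · exact ptOK_of_chk 83968 256 c_w_6_28 j (by omega) (by omega)
  clear h1
  have h1 := g
  clear g
  rcases Nat.lt_or_ge j 84480 with g | g
  · exact ptOK_of_chk 84224 256 c_w_6_29 j (by omega) (by omega)
  clear h1
  have h1 := g
  clear g
  rcases Nat.lt_or_ge j 84736 with g | g
  · exact ptOK_of_chk 84480 256 c_w_6_30 j (by omega) (by omega)
  clear h1
  have h1 := g
  clear g
  rcases Nat.lt_or_ge j 84992 with g | g
  · exact ptOK_of_chk 84736 256 c_w_6_31 j (by omega) (by omega)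
  clear h1
  have h1 := g
  clear g
  rcases Nat.lt_or_ge j 85248 with g | g
  · exact ptOK_of_chk 84992 256 c_w_6_32 j (by omega) (by omega)
  clear h1
  have h1 := g
  clear g
  rcases Nat.lt_or_ge j 85504 with g | g
  · exact ptOK_of_chk 85248 256 c_w_6_33 j (by omega) (by omega)
  clear h1
  have h1 := g
  clear g
  rcases Nat.lt_or_ge j 85760 with g | g
  · exact ptOK_of_chk 85504 256 c_w_6_34 j (by omega) (by omega)
  clear h1
  have h1 := g
  clear g
  rcases Nat.lt_or_ge j 86016 with g | g
  · exact ptOK_of_chk 85760 256 c_w_6_35 j (by omega) (by omega)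
  clear h1
  have h1 := g
  clear g
  rcases Nat.lt_or_ge j 86272 with g | g
  · exact ptOK_of_chk 86016 256 c_w_6_36 j (by omega) (by omega)
  clear h1
  have h1 := g
  clear g
  rcases Nat.lt_or_ge j 86528 with g | g
  · exact ptOK_of_chk 86272 256 c_w_6_37 j (by omega) (by omega)
  clear h1
  have h1 := g
  clear g
  rcases Nat.lt_or_ge j 86784 with g | g
  · exact ptOK_of_chk 86528 256 c_w_6_38 j (by omega) (by omega)
  clear h1
  have h1 := g
  clear g
  rcases Nat.lt_or_ge j 87040 with g | g
  · exact ptOK_of_chk 86784 256 c_w_6_39 j (by omega) (by omega)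
  clear h1
  have h1 := g
  clear g
  rcases Nat.lt_or_ge j 87296 with g | g
  · exact ptOK_of_chk 87040 256 c_w_6_40 j (by omega) (by omega)
  clear h1
  have h1 := g
  clear g
  rcases Nat.lt_or_ge j 87552 with g | g
  · exact ptOK_of_chk 87296 256 c_w_6_41 j (by omega) (by omega)
  clear h1
  have h1 := g
  clear g
  rcases Nat.lt_or_ge j 87808 with g | g
  · exact ptOK_of_chk 87552 256 c_w_6_42 j (by omega) (by omega)
  clear h1
  have h1 := g
  clear g
  rcases Nat.lt_or_ge j 88064 with g | g
  · exact ptOK_of_chk 87808 256 c_w_6_43 j (by omega) (by omega)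
  clear h1
  have h1 := g
  clear g
  rcases Nat.lt_or_ge j 88320 with g | g
  · exact ptOK_of_chk 88064 256 c_w_6_44 j (by omega) (by omega)
  clear h1
  have h1 := g
  clear g
  rcases Nat.lt_or_ge j 88576 with g | g
  · exact ptOK_of_chk 88320 256 c_w_6_45 j (by omega) (by omega)
  clear h1
  have h1 := g
  clear g
  rcases Nat.lt_or_ge j 88832 with g | g
  · exact ptOK_of_chk 88576 256 c_w_6_46 j (by omega) (by omega)
  clear h1
  have h1 := g
  clear g
  rcases Nat.lt_or_ge j 89088 with g | g
  · exact ptOK_of_chk 88832 256 c_w_6_47 j (by omega) (by omega)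
  clear h1
  have h1 := g
  clear g
  rcases Nat.lt_or_ge j 89344 with g | g
  · exact ptOK_of_chk 89088 256 c_w_6_48 j (by omega) (by omega)
  clear h1
  have h1 := g
  clear g
  exact ptOK_of_chk 89344 256 c_w_6_49 j (by omega) (by omega)

end Cfsg.Agent.Lib.Helper4.F24M
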