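import Cfsg.Agent.Lib.Helper4.F24M.PtOK
set_option autoImplicit false
set_option maxRecDepth 1000000
set_option Elab.async false

/-! # The checks of the tables of the triple cover of the Fischer group at the points from 89600 to 102399 -/

namespace Cfsg.Agent.Lib.Helper4.F24M
open Cfsg.Agent.Lib.Helper4.TCov

theorem c_w_7_0 : chkPtRange 3 920808 MLF MCF WLF 89600 256 = true := by decide +kernel
theorem c_w_7_1 : chkPtRange 3 920808 MLF MCF WLF 89856 256 = true := by decide +kernel
theorem c_w_7_2 : chkPtRange 3 920808 MLF MCF WLF 90112 256 = true := by decide +kernel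
theorem c_w_7_3 : chkPtRange 3 920808 MLF MCF WLF 90368 256 = true := by decide +kernel
theorem c_w_7_4 : chkPtRange 3 920808 MLF MCF WLF 90624 256 = true := by decide +kernel
theorem c_w_7_5 : chkPtRange 3 920808 MLF MCF WLF 90880 256 = true := by decide +kernel
theorem c_w_7_6 : chkPtRange 3 920808 MLF MCF WLF 91136 256 = true := by decide +kernel
theorem c_w_7_7 : chkPtRange 3 920808 MLF MCF WLF 91392 256 = true := by decide +kernel
theorem c_w_7_8 : chkPtRange 3 920808 MLF MCF WLF 91648 256 = true := by decide +kernel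
theorem c_w_7_9 : chkPtRange 3 920808 MLF MCF WLF 91904 256 = true := by decide +kernel
theorem c_w_7_10 : chkPtRange 3 920808 MLF MCF WLF 92160 256 = true := by decide +kernel
theorem c_w_7_11 : chkPtRange 3 920808 MLF MCF WLF 92416 256 = true := by decide +kernel
theorem c_w_7_12 : chkPtRange 3 920808 MLF MCF WLF 92672 256 = true := by decide +kernel
theorem c_w_7_13 : chkPtRange 3 920808 MLF MCF WLF 92928 256 = true := by decide +kernel
theorem c_w_7_14 : chkPtRange 3 920808 MLF MCF WLF 93184 256 = true := by decide +kernel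
theorem c_w_7_15 : chkPtRange 3 920808 MLF MCF WLF 93440 256 = true := by decide +kernel
theorem c_w_7_16 : chkPtRange 3 920808 MLF MCF WLF 93696 256 = true := by decide +kernel
theorem c_w_7_17 : chkPtRange 3 920808 MLF MCF WLF 93952 256 = true := by decide +kernel
theorem c_w_7_18 : chkPtRange 3 920808 MLF MCF WLF 94208 256 = true := by decide +kernel
theorem c_w_7_19 : chkPtRange 3 920808 MLF MCF WLF 94464 256 = true := by decide +kernel
theorem c_w_7_20 : chkPtRange 3 920808 MLF MCF WLF 94720 256 = true := by decide +kernel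
theorem c_w_7_21 : chkPtRange 3 920808 MLF MCF WLF 94976 256 = true := by decide +kernel
theorem c_w_7_22 : chkPtRange 3 920808 MLF MCF WLF 95232 256 = true := by decide +kernel
theorem c_w_7_23 : chkPtRange 3 920808 MLF MCF WLF 95488 256 = true := by decide +kernel
theorem c_w_7_24 : chkPtRange 3 920808 MLF MCF WLF 95744 256 = true := by decide +kernel
theorem c_w_7_25 : chkPtRange 3 920808 MLF MCF WLF 96000 256 = true := by decide +kernel
theorem c_w_7_26 : chkPtRange 3 920808 MLF MCF WLF 96256 256 = true := by decide +kernel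
theorem c_w_7_27 : chkPtRange 3 920808 MLF MCF WLF 96512 256 = true := by decide +kernel
theorem c_w_7_28 : chkPtRange 3 920808 MLF MCF WLF 96768 256 = true := by decide +kernel
theorem c_w_7_29 : chkPtRange 3 920808 MLF MCF WLF 97024 256 = true := by decide +kernel
theorem c_w_7_30 : chkPtRange 3 920808 MLF MCF WLF 97280 256 = true := by decide +kernel
theorem c_w_7_31 : chkPtRange 3 920808 MLF MCF WLF 97536 256 = true := by decide +kernel
theorem c_w_7_32 : chkPtRange 3 920808 MLF MCF WLF 97792 256 = true := by decide +kernel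
theorem c_w_7_33 : chkPtRange 3 920808 MLF MCF WLF 98048 256 = true := by decide +kernel
theorem c_w_7_34 : chkPtRange 3 920808 MLF MCF WLF 98304 256 = true := by decide +kernel
theorem c_w_7_35 : chkPtRange 3 920808 MLF MCF WLF 98560 256 = true := by decide +kernel
theorem c_w_7_36 : chkPtRange 3 920808 MLF MCF WLF 98816 256 = true := by decide +kernel
theorem c_w_7_37 : chkPtRange 3 920808 MLF MCF WLF 99072 256 = true := by decide +kernel
theorem c_w_7_38 : chkPtRange 3 920808 MLF MCF WLF 99328 256 = true := by decide +kernel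
theorem c_w_7_39 : chkPtRange 3 920808 MLF MCF WLF 99584 256 = true := by decide +kernel
theorem c_w_7_40 : chkPtRange 3 920808 MLF MCF WLF 99840 256 = true := by decide +kernel
theorem c_w_7_41 : chkPtRange 3 920808 MLF MCF WLF 100096 256 = true := by decide +kernel
theorem c_w_7_42 : chkPtRange 3 920808 MLF MCF WLF 100352 256 = true := by decide +kernel
theorem c_w_7_43 : chkPtRange 3 920808 MLF MCF WLF 100608 256 = true := by decide +kernel
theorem c_w_7_44 : chkPtRange 3 920808 MLF MCF WLF 100864 256 = true := by decide +kernel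
theorem c_w_7_45 : chkPtRange 3 920808 MLF MCF WLF 101120 256 = true := by decide +kernel
theorem c_w_7_46 : chkPtRange 3 920808 MLF MCF WLF 101376 256 = true := by decide +kernel
theorem c_w_7_47 : chkPtRange 3 920808 MLF MCF WLF 101632 256 = true := by decide +kernel
theorem c_w_7_48 : chkPtRange 3 920808 MLF MCF WLF 101888 256 = true := by decide +kernel
theorem c_w_7_49 : chkPtRange 3 920808 MLF MCF WLF 102144 256 = true := by decide +kernel

theorem ptOK_7 (j : ℕ) (h1 : 89600 ≤ j) (h2 : j < 102400) : PtOK j := by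
  rcases Nat.lt_or_ge j 89856 with g | g
  · exact ptOK_of_chk 89600 256 c_w_7_0 j (by omega) (by omega)
  clear h1
  have h1 := g
  clear g
  rcases Nat.lt_or_ge j 90112 with g | g
  · exact ptOK_of_chk 89856 256 c_w_7_1 j (by omega) (by omega)
  clear h1
  have h1 := g
  clear g
  rcases Nat.lt_or_ge j 90368 with g | g
  · exact ptOK_of_chk 90112 256 c_w_7_2 j (by omega) (by omega)
  clear h1
  have h1 := g
  clear g
  rcases Nat.lt_or_ge j 90624 with g | g
  · exact ptOK_of_chk 90368 256 c_w_7_3 j (by omega) (by omega)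
  clear h1
  have h1 := g
  clear g
  rcases Nat.lt_or_ge j 90880 with g | g
  · exact ptOK_of_chk 90624 256 c_w_7_4 j (by omega) (by omega)
  clear h1
  have h1 := g
  clear g
  rcases Nat.lt_or_ge j 91136 with g | g
  · exact ptOK_of_chk 90880 256 c_w_7_5 j (by omega) (by omega)
  clear h1
  have h1 := g
  clear g
  rcases Nat.lt_or_ge j 91392 with g | g
  · exact ptOK_of_chk 91136 256 c_w_7_6 j (by omega) (by omega)
  clear h1
  have h1 := g
  clear g
  rcases Nat.lt_or_ge j 91648 with g | g
  · exact ptOK_of_chk 91392 256 c_w_7_7 j (by omega) (by omega)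
  clear h1
  have h1 := g
  clear g
  rcases Nat.lt_or_ge j 91904 with g | g
  · exact ptOK_of_chk 91648 256 c_w_7_8 j (by omega) (by omega)
  clear h1
  have h1 := g
  clear g
  rcases Nat.lt_or_ge j 92160 with g | g
  · exact ptOK_of_chk 91904 256 c_w_7_9 j (by omega) (by omega)
  clear h1
  have h1 := g
  clear g
  rcases Nat.lt_or_ge j 92416 with g | g
  · exact ptOK_of_chk 92160 256 c_w_7_10 j (by omega) (by omega)
  clear h1
  have h1 := g
  clear g
  rcases Nat.lt_or_ge j 92672 with g | g
  · exact ptOK_of_chk 92416 256 c_w_7_11 j (by omega) (by omega)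
  clear h1
  have h1 := g
  clear g
  rcases Nat.lt_or_ge j 92928 with g | g
  · exact ptOK_of_chk 92672 256 c_w_7_12 j (by omega) (by omega)
  clear h1
  have h1 := g
  clear g
  rcases Nat.lt_or_ge j 93184 with g | g
  · exact ptOK_of_chk 92928 256 c_w_7_13 j (by omega) (by omega)
  clear h1
  have h1 := g
  clear g
  rcases Nat.lt_or_ge j 93440 with g | g
  · exact ptOK_of_chk 93184 256 c_w_7_14 j (by omega) (by omega)
  clear h1
  have h1 := g
  clear g
  rcases Nat.lt_or_ge j 93696 with g | g
  · exact ptOK_of_chk 93440 256 c_w_7_15 j (by omega) (by omega)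
  clear h1
  have h1 := g
  clear g
  rcases Nat.lt_or_ge j 93952 with g | g
  · exact ptOK_of_chk 93696 256 c_w_7_16 j (by omega) (by omega)
  clear h1
  have h1 := g
  clear g
  rcases Nat.lt_or_ge j 94208 with g | g
  · exact ptOK_of_chk 93952 256 c_w_7_17 j (by omega) (by omega)
  clear h1
  have h1 := g
  clear g
  rcases Nat.lt_or_ge j 94464 with g | g
  · exact ptOK_of_chk 94208 256 c_w_7_18 j (by omega) (by omega)
  clear h1
  have h1 := g
  clear g
  rcases Nat.lt_or_ge j 94720 with g | g
  · exact ptOK_of_chk 94464 256 c_w_7_19 j (by omega) (by omega)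
  clear h1
  have h1 := g
  clear g
  rcases Nat.lt_or_ge j 94976 with g | g
  · exact ptOK_of_chk 94720 256 c_w_7_20 j (by omega) (by omega)
  clear h1
  have h1 := g
  clear g
  rcases Nat.lt_or_ge j 95232 with g | g
  · exact ptOK_of_chk 94976 256 c_w_7_21 j (by omega) (by omega)
  clear h1
  have h1 := g
  clear g
  rcases Nat.lt_or_ge j 95488 with g | g
  · exact ptOK_of_chk 95232 256 c_w_7_22 j (by omega) (by omega)
  clear h1
  have h1 := g
  clear g
  rcases Nat.lt_or_ge j 95744 with g | g
  · exact ptOK_of_chk 95488 256 c_w_7_23 j (by omega) (by omega)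
  clear h1
  have h1 := g
  clear g
  rcases Nat.lt_or_ge j 96000 with g | g
  · exact ptOK_of_chk 95744 256 c_w_7_24 j (by omega) (by omega)
  clear h1
  have h1 := g
  clear g
  rcases Nat.lt_or_ge j 96256 with g | g
  · exact ptOK_of_chk 96000 256 c_w_7_25 j (by omega) (by omega)
  clear h1
  have h1 := g
  clear g
  rcases Nat.lt_or_ge j 96512 with g | g
  · exact ptOK_of_chk 96256 256 c_w_7_26 j (by omega) (by omega)
  clear h1
  have h1 := g
  clear g
  rcases Nat.lt_or_ge j 96768 with g | g
  · exact ptOK_of_chk 96512 256 c_w_7_27 j (by omega) (by omega)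
  clear h1
  have h1 := g
  clear g
  rcases Nat.lt_or_ge j 97024 with g | g
  · exact ptOK_of_chk 96768 256 c_w_7_28 j (by omega) (by omega)
  clear h1
  have h1 := g
  clear g
  rcases Nat.lt_or_ge j 97280 with g | g
  · exact ptOK_of_chk 97024 256 c_w_7_29 j (by omega) (by omega)
  clear h1
  have h1 := g
  clear g
  rcases Nat.lt_or_ge j 97536 with g | g
  · exact ptOK_of_chk 97280 256 c_w_7_30 j (by omega) (by omega)
  clear h1
  have h1 := g
  clear g
  rcases Nat.lt_or_ge j 97792 with g | g
  · exact ptOK_of_chk 97536 256 c_w_7_31 j (by omega) (by omega)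
  clear h1
  have h1 := g
  clear g
  rcases Nat.lt_or_ge j 98048 with g | g
  · exact ptOK_of_chk 97792 256 c_w_7_32 j (by omega) (by omega)
  clear h1
  have h1 := g
  clear g
  rcases Nat.lt_or_ge j 98304 with g | g
  · exact ptOK_of_chk 98048 256 c_w_7_33 j (by omega) (by omega)
  clear h1
  have h1 := g
  clear g
  rcases Nat.lt_or_ge j 98560 with g | g
  · exact ptOK_of_chk 98304 256 c_w_7_34 j (by omega) (by omega)
  clear h1
  have h1 := g
  clear g
  rcases Nat.lt_or_ge j 98816 with g | g
  · exact ptOK_of_chk 98560 256 c_w_7_35 j (by omega) (by omega)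
  clear h1
  have h1 := g
  clear g
  rcases Nat.lt_or_ge j 99072 with g | g
  · exact ptOK_of_chk 98816 256 c_w_7_36 j (by omega) (by omega)
  clear h1
  have h1 := g
  clear g
  rcases Nat.lt_or_ge j 99328 with g | g
  · exact ptOK_of_chk 99072 256 c_w_7_37 j (by omega) (by omega)
  clear h1
  have h1 := g
  clear g
  rcases Nat.lt_or_ge j 99584 with g | g
  · exact ptOK_of_chk 99328 256 c_w_7_38 j (by omega) (by omega)
  clear h1
  have h1 := g
  clear g
  rcases Nat.lt_or_ge j 99840 with g | g
  · exact ptOK_of_chk 99584 256 c_w_7_39 j (by omega) (by omega)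
  clear h1
  have h1 := g
  clear g
  rcases Nat.lt_or_ge j 100096 with g | g
  · exact ptOK_of_chk 99840 256 c_w_7_40 j (by omega) (by omega)
  clear h1
  have h1 := g
  clear g
  rcases Nat.lt_or_ge j 100352 with g | g
  · exact ptOK_of_chk 100096 256 c_w_7_41 j (by omega) (by omega)
  clear h1
  have h1 := g
  clear g
  rcases Nat.lt_or_ge j 100608 with g | g
  · exact ptOK_of_chk 100352 256 c_w_7_42 j (by omega) (by omega)
  clear h1
  have h1 := g
  clear g
  rcases Nat.lt_or_ge j 100864 with g | g
  · exact ptOK_of_chk 100608 256 c_w_7_43 j (by omega) (by omega)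
  clear h1
  have h1 := g
  clear g
  rcases Nat.lt_or_ge j 101120 with g | g
  · exact ptOK_of_chk 100864 256 c_w_7_44 j (by omega) (by omega)
  clear h1
  have h1 := g
  clear g
  rcases Nat.lt_or_ge j 101376 with g | g
  · exact ptOK_of_chk 101120 256 c_w_7_45 j (by omega) (by omega)
  clear h1
  have h1 := g
  clear g
  rcases Nat.lt_or_ge j 101632 with g | g
  · exact ptOK_of_chk 101376 256 c_w_7_46 j (by omega) (by omega)
  clear h1
  have h1 := g
  clear g
  rcases Nat.lt_or_ge j 101888 with g | g
  · exact ptOK_of_chk 101632 256 c_w_7_47 j (by omega) (by omega)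
  clear h1
  have h1 := g
  clear g
  rcases Nat.lt_or_ge j 102144 with g | g
  · exact ptOK_of_chk 101888 256 c_w_7_48 j (by omega) (by omega)
  clear h1
  have h1 := g
  clear g
  exact ptOK_of_chk 102144 256 c_w_7_49 j (by omega) (by omega)

end Cfsg.Agent.Lib.Helper4.F24M
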