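import Cfsg.Agent.Lib.Helper4.F24M.PtOK
set_option autoImplicit false
set_option maxRecDepth 1000000
set_option Elab.async false

/-! # The checks of the tables of the triple cover of the Fischer group at the points from 102400 to 115199 -/

namespace Cfsg.Agent.Lib.Helper4.F24M
open Cfsg.Agent.Lib.Helper4.TCov

theorem c_w_8_0 : chkPtRange 3 920808 MLF MCF WLF 102400 256 = true := by decide +kernel
theorem c_w_8_1 : chkPtRange 3 920808 MLF MCF WLF 102656 256 = true := by decide +kernel
theorem c_w_8_2 : chkPtRange 3 920808 MLF MCF WLF 102912 256 = true := by decide +kernel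
theorem c_w_8_3 : chkPtRange 3 920808 MLF MCF WLF 103168 256 = true := by decide +kernel
theorem c_w_8_4 : chkPtRange 3 920808 MLF MCF WLF 103424 256 = true := by decide +kernel
theorem c_w_8_5 : chkPtRange 3 920808 MLF MCF WLF 103680 256 = true := by decide +kernel
theorem c_w_8_6 : chkPtRange 3 920808 MLF MCF WLF 103936 256 = true := by decide +kernel
theorem c_w_8_7 : chkPtRange 3 920808 MLF MCF WLF 104192 256 = true := by decide +kernel
theorem c_w_8_8 : chkPtRange 3 920808 MLF MCF WLF 104448 256 = true := by decide +kernel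
theorem c_w_8_9 : chkPtRange 3 920808 MLF MCF WLF 104704 256 = true := by decide +kernel
theorem c_w_8_10 : chkPtRange 3 920808 MLF MCF WLF 104960 256 = true := by decide +kernel
theorem c_w_8_11 : chkPtRange 3 920808 MLF MCF WLF 105216 256 = true := by decide +kernel
theorem c_w_8_12 : chkPtRange 3 920808 MLF MCF WLF 105472 256 = true := by decide +kernel
theorem c_w_8_13 : chkPtRange 3 920808 MLF MCF WLF 105728 256 = true := by decide +kernel
theorem c_w_8_14 : chkPtRange 3 920808 MLF MCF WLF 105984 256 = true := by decide +kernel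
theorem c_w_8_15 : chkPtRange 3 920808 MLF MCF WLF 106240 256 = true := by decide +kernel
theorem c_w_8_16 : chkPtRange 3 920808 MLF MCF WLF 106496 256 = true := by decide +kernel
theorem c_w_8_17 : chkPtRange 3 920808 MLF MCF WLF 106752 256 = true := by decide +kernel
theorem c_w_8_18 : chkPtRange 3 920808 MLF MCF WLF 107008 256 = true := by decide +kernel
theorem c_w_8_19 : chkPtRange 3 920808 MLF MCF WLF 107264 256 = true := by decide +kernel
theorem c_w_8_20 : chkPtRange 3 920808 MLF MCF WLF 107520 256 = true := by decide +kernel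
theorem c_w_8_21 : chkPtRange 3 920808 MLF MCF WLF 107776 256 = true := by decide +kernel
theorem c_w_8_22 : chkPtRange 3 920808 MLF MCF WLF 108032 256 = true := by decide +kernel
theorem c_w_8_23 : chkPtRange 3 920808 MLF MCF WLF 108288 256 = true := by decide +kernel
theorem c_w_8_24 : chkPtRange 3 920808 MLF MCF WLF 108544 256 = true := by decide +kernel
theorem c_w_8_25 : chkPtRange 3 920808 MLF MCF WLF 108800 256 = true := by decide +kernel
theorem c_w_8_26 : chkPtRange 3 920808 MLF MCF WLF 109056 256 = true := by decide +kernel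
theorem c_w_8_27 : chkPtRange 3 920808 MLF MCF WLF 109312 256 = true := by decide +kernel
theorem c_w_8_28 : chkPtRange 3 920808 MLF MCF WLF 109568 256 = true := by decide +kernel
theorem c_w_8_29 : chkPtRange 3 920808 MLF MCF WLF 109824 256 = true := by decide +kernel
theorem c_w_8_30 : chkPtRange 3 920808 MLF MCF WLF 110080 256 = true := by decide +kernel
theorem c_w_8_31 : chkPtRange 3 920808 MLF MCF WLF 110336 256 = true := by decide +kernel
theorem c_w_8_32 : chkPtRange 3 920808 MLF MCF WLF 110592 256 = true := by decide +kernel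
theorem c_w_8_33 : chkPtRange 3 920808 MLF MCF WLF 110848 256 = true := by decide +kernel
theorem c_w_8_34 : chkPtRange 3 920808 MLF MCF WLF 111104 256 = true := by decide +kernel
theorem c_w_8_35 : chkPtRange 3 920808 MLF MCF WLF 111360 256 = true := by decide +kernel
theorem c_w_8_36 : chkPtRange 3 920808 MLF MCF WLF 111616 256 = true := by decide +kernel
theorem c_w_8_37 : chkPtRange 3 920808 MLF MCF WLF 111872 256 = true := by decide +kernel
theorem c_w_8_38 : chkPtRange 3 920808 MLF MCF WLF 112128 256 = true := by decide +kernel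
theorem c_w_8_39 : chkPtRange 3 920808 MLF MCF WLF 112384 256 = true := by decide +kernel
theorem c_w_8_40 : chkPtRange 3 920808 MLF MCF WLF 112640 256 = true := by decide +kernel
theorem c_w_8_41 : chkPtRange 3 920808 MLF MCF WLF 112896 256 = true := by decide +kernel
theorem c_w_8_42 : chkPtRange 3 920808 MLF MCF WLF 113152 256 = true := by decide +kernel
theorem c_w_8_43 : chkPtRange 3 920808 MLF MCF WLF 113408 256 = true := by decide +kernel
theorem c_w_8_44 : chkPtRange 3 920808 MLF MCF WLF 113664 256 = true := by decide +kernel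
theorem c_w_8_45 : chkPtRange 3 920808 MLF MCF WLF 113920 256 = true := by decide +kernel
theorem c_w_8_46 : chkPtRange 3 920808 MLF MCF WLF 114176 256 = true := by decide +kernel
theorem c_w_8_47 : chkPtRange 3 920808 MLF MCF WLF 114432 256 = true := by decide +kernel
theorem c_w_8_48 : chkPtRange 3 920808 MLF MCF WLF 114688 256 = true := by decide +kernel
theorem c_w_8_49 : chkPtRange 3 920808 MLF MCF WLF 114944 256 = true := by decide +kernel

theorem ptOK_8 (j : ℕ) (h1 : 102400 ≤ j) (h2 : j < 115200) : PtOK j := by
  rcases Nat.lt_or_ge j 102656 with g | g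
  · exact ptOK_of_chk 102400 256 c_w_8_0 j (by omega) (by omega)
  clear h1
  have h1 := g
  clear g
  rcases Nat.lt_or_ge j 102912 with g | g
  · exact ptOK_of_chk 102656 256 c_w_8_1 j (by omega) (by omega)
  clear h1
  have h1 := g
  clear g
  rcases Nat.lt_or_ge j 103168 with g | g
  · exact ptOK_of_chk 102912 256 c_w_8_2 j (by omega) (by omega)
  clear h1
  have h1 := g
  clear g
  rcases Nat.lt_or_ge j 103424 with g | g
  · exact ptOK_of_chk 103168 256 c_w_8_3 j (by omega) (by omega)
  clear h1
  have h1 := g
  clear g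
  rcases Nat.lt_or_ge j 103680 with g | g
  · exact ptOK_of_chk 103424 256 c_w_8_4 j (by omega) (by omega)
  clear h1
  have h1 := g
  clear g
  rcases Nat.lt_or_ge j 103936 with g | g
  · exact ptOK_of_chk 103680 256 c_w_8_5 j (by omega) (by omega)
  clear h1
  have h1 := g
  clear g
  rcases Nat.lt_or_ge j 104192 with g | g
  · exact ptOK_of_chk 103936 256 c_w_8_6 j (by omega) (by omega)
  clear h1
  have h1 := g
  clear g
  rcases Nat.lt_or_ge j 104448 with g | g
  · exact ptOK_of_chk 104192 256 c_w_8_7 j (by omega) (by omega)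
  clear h1
  have h1 := g
  clear g
  rcases Nat.lt_or_ge j 104704 with g | g
  · exact ptOK_of_chk 104448 256 c_w_8_8 j (by omega) (by omega)
  clear h1
  have h1 := g
  clear g
  rcases Nat.lt_or_ge j 104960 with g | g
  · exact ptOK_of_chk 104704 256 c_w_8_9 j (by omega) (by omega)
  clear h1
  have h1 := g
  clear g
  rcases Nat.lt_or_ge j 105216 with g | g
  · exact ptOK_of_chk 104960 256 c_w_8_10 j (by omega) (by omega)
  clear h1
  have h1 := g
  clear g
  rcases Nat.lt_or_ge j 105472 with g | g
  · exact ptOK_of_chk 105216 256 c_w_8_11 j (by omega) (by omega)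
  clear h1
  have h1 := g
  clear g
  rcases Nat.lt_or_ge j 105728 with g | g
  · exact ptOK_of_chk 105472 256 c_w_8_12 j (by omega) (by omega)
  clear h1
  have h1 := g
  clear g
  rcases Nat.lt_or_ge j 105984 with g | g
  · exact ptOK_of_chk 105728 256 c_w_8_13 j (by omega) (by omega)
  clear h1
  have h1 := g
  clear g
  rcases Nat.lt_or_ge j 106240 with g | g
  · exact ptOK_of_chk 105984 256 c_w_8_14 j (by omega) (by omega)
  clear h1
  have h1 := g
  clear g
  rcases Nat.lt_or_ge j 106496 with g | g
  · exact ptOK_of_chk 106240 256 c_w_8_15 j (by omega) (by omega)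
  clear h1
  have h1 := g
  clear g
  rcases Nat.lt_or_ge j 106752 with g | g
  · exact ptOK_of_chk 106496 256 c_w_8_16 j (by omega) (by omega)
  clear h1
  have h1 := g
  clear g
  rcases Nat.lt_or_ge j 107008 with g | g
  · exact ptOK_of_chk 106752 256 c_w_8_17 j (by omega) (by omega)
  clear h1
  have h1 := g
  clear g
  rcases Nat.lt_or_ge j 107264 with g | g
  · exact ptOK_of_chk 107008 256 c_w_8_18 j (by omega) (by omega)
  clear h1
  have h1 := g
  clear g
  rcases Nat.lt_or_ge j 107520 with g | g
  · exact ptOK_of_chk 107264 256 c_w_8_19 j (by omega) (by omega)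
  clear h1
  have h1 := g
  clear g
  rcases Nat.lt_or_ge j 107776 with g | g
  · exact ptOK_of_chk 107520 256 c_w_8_20 j (by omega) (by omega)
  clear h1
  have h1 := g
  clear g
  rcases Nat.lt_or_ge j 108032 with g | g
  · exact ptOK_of_chk 107776 256 c_w_8_21 j (by omega) (by omega)
  clear h1
  have h1 := g
  clear g
  rcases Nat.lt_or_ge j 108288 with g | g
  · exact ptOK_of_chk 108032 256 c_w_8_22 j (by omega) (by omega)
  clear h1
  have h1 := g
  clear g
  rcases Nat.lt_or_ge j 108544 with g | g
  · exact ptOK_of_chk 108288 256 c_w_8_23 j (by omega) (by omega)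
  clear h1
  have h1 := g
  clear g
  rcases Nat.lt_or_ge j 108800 with g | g
  · exact ptOK_of_chk 108544 256 c_w_8_24 j (by omega) (by omega)
  clear h1
  have h1 := g
  clear g
  rcases Nat.lt_or_ge j 109056 with g | g
  · exact ptOK_of_chk 108800 256 c_w_8_25 j (by omega) (by omega)
  clear h1
  have h1 := g
  clear g
  rcases Nat.lt_or_ge j 109312 with g | g
  · exact ptOK_of_chk 109056 256 c_w_8_26 j (by omega) (by omega)
  clear h1
  have h1 := g
  clear g
  rcases Nat.lt_or_ge j 109568 with g | g
  · exact ptOK_of_chk 109312 256 c_w_8_27 j (by omega) (by omega)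
  clear h1
  have h1 := g
  clear g
  rcases Nat.lt_or_ge j 109824 with g | g
  · exact ptOK_of_chk 109568 256 c_w_8_28 j (by omega) (by omega)
  clear h1
  have h1 := g
  clear g
  rcases Nat.lt_or_ge j 110080 with g | g
  · exact ptOK_of_chk 109824 256 c_w_8_29 j (by omega) (by omega)
  clear h1
  have h1 := g
  clear g
  rcases Nat.lt_or_ge j 110336 with g | g
  · exact ptOK_of_chk 110080 256 c_w_8_30 j (by omega) (by omega)
  clear h1
  have h1 := g
  clear g
  rcases Nat.lt_or_ge j 110592 with g | g
  · exact ptOK_of_chk 110336 256 c_w_8_31 j (by omega) (by omega)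
  clear h1
  have h1 := g
  clear g
  rcases Nat.lt_or_ge j 110848 with g | g
  · exact ptOK_of_chk 110592 256 c_w_8_32 j (by omega) (by omega)
  clear h1
  have h1 := g
  clear g
  rcases Nat.lt_or_ge j 111104 with g | g
  · exact ptOK_of_chk 110848 256 c_w_8_33 j (by omega) (by omega)
  clear h1
  have h1 := g
  clear g
  rcases Nat.lt_or_ge j 111360 with g | g
  · exact ptOK_of_chk 111104 256 c_w_8_34 j (by omega) (by omega)
  clear h1
  have h1 := g
  clear g
  rcases Nat.lt_or_ge j 111616 with g | g
  · exact ptOK_of_chk 111360 256 c_w_8_35 j (by omega) (by omega)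
  clear h1
  have h1 := g
  clear g
  rcases Nat.lt_or_ge j 111872 with g | g
  · exact ptOK_of_chk 111616 256 c_w_8_36 j (by omega) (by omega)
  clear h1
  have h1 := g
  clear g
  rcases Nat.lt_or_ge j 112128 with g | g
  · exact ptOK_of_chk 111872 256 c_w_8_37 j (by omega) (by omega)
  clear h1
  have h1 := g
  clear g
  rcases Nat.lt_or_ge j 112384 with g | g
  · exact ptOK_of_chk 112128 256 c_w_8_38 j (by omega) (by omega)
  clear h1
  have h1 := g
  clear g
  rcases Nat.lt_or_ge j 112640 with g | g
  · exact ptOK_of_chk 112384 256 c_w_8_39 j (by omega) (by omega)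
  clear h1
  have h1 := g
  clear g
  rcases Nat.lt_or_ge j 112896 with g | g
  · exact ptOK_of_chk 112640 256 c_w_8_40 j (by omega) (by omega)
  clear h1
  have h1 := g
  clear g
  rcases Nat.lt_or_ge j 113152 with g | g
  · exact ptOK_of_chk 112896 256 c_w_8_41 j (by omega) (by omega)
  clear h1
  have h1 := g
  clear g
  rcases Nat.lt_or_ge j 113408 with g | g
  · exact ptOK_of_chk 113152 256 c_w_8_42 j (by omega) (by omega)
  clear h1
  have h1 := g
  clear g
  rcases Nat.lt_or_ge j 113664 with g | g
  · exact ptOK_of_chk 113408 256 c_w_8_43 j (by omega) (by omega)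
  clear h1
  have h1 := g
  clear g
  rcases Nat.lt_or_ge j 113920 with g | g
  · exact ptOK_of_chk 113664 256 c_w_8_44 j (by omega) (by omega)
  clear h1
  have h1 := g
  clear g
  rcases Nat.lt_or_ge j 114176 with g | g
  · exact ptOK_of_chk 113920 256 c_w_8_45 j (by omega) (by omega)
  clear h1
  have h1 := g
  clear g
  rcases Nat.lt_or_ge j 114432 with g | g
  · exact ptOK_of_chk 114176 256 c_w_8_46 j (by omega) (by omega)
  clear h1
  have h1 := g
  clear g
  rcases Nat.lt_or_ge j 114688 with g | g
  · exact ptOK_of_chk 114432 256 c_w_8_47 j (by omega) (by omega)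
  clear h1
  have h1 := g
  clear g
  rcases Nat.lt_or_ge j 114944 with g | g
  · exact ptOK_of_chk 114688 256 c_w_8_48 j (by omega) (by omega)
  clear h1
  have h1 := g
  clear g
  exact ptOK_of_chk 114944 256 c_w_8_49 j (by omega) (by omega)

end Cfsg.Agent.Lib.Helper4.F24M
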