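import Cfsg.Agent.Lib.Helper4.F24M.PtOK
set_option autoImplicit false
set_option maxRecDepth 1000000
set_option Elab.async false

/-! # The checks of the tables of the triple cover of the Fischer group at the points from 115200 to 127999 -/

namespace Cfsg.Agent.Lib.Helper4.F24M
open Cfsg.Agent.Lib.Helper4.TCov

theorem c_w_9_0 : chkPtRange 3 920808 MLF MCF WLF 115200 256 = true := by decide +kernel
theorem c_w_9_1 : chkPtRange 3 920808 MLF MCF WLF 115456 256 = true := by decide +kernel
theorem c_w_9_2 : chkPtRange 3 920808 MLF MCF WLF 115712 256 = true := by decide +kernel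
theorem c_w_9_3 : chkPtRange 3 920808 MLF MCF WLF 115968 256 = true := by decide +kernel
theorem c_w_9_4 : chkPtRange 3 920808 MLF MCF WLF 116224 256 = true := by decide +kernel
theorem c_w_9_5 : chkPtRange 3 920808 MLF MCF WLF 116480 256 = true := by decide +kernel
theorem c_w_9_6 : chkPtRange 3 920808 MLF MCF WLF 116736 256 = true := by decide +kernel
theorem c_w_9_7 : chkPtRange 3 920808 MLF MCF WLF 116992 256 = true := by decide +kernel
theorem c_w_9_8 : chkPtRange 3 920808 MLF MCF WLF 117248 256 = true := by decide +kernel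
theorem c_w_9_9 : chkPtRange 3 920808 MLF MCF WLF 117504 256 = true := by decide +kernel
theorem c_w_9_10 : chkPtRange 3 920808 MLF MCF WLF 117760 256 = true := by decide +kernel
theorem c_w_9_11 : chkPtRange 3 920808 MLF MCF WLF 118016 256 = true := by decide +kernel
theorem c_w_9_12 : chkPtRange 3 920808 MLF MCF WLF 118272 256 = true := by decide +kernel
theorem c_w_9_13 : chkPtRange 3 920808 MLF MCF WLF 118528 256 = true := by decide +kernel
theorem c_w_9_14 : chkPtRange 3 920808 MLF MCF WLF 118784 256 = true := by decide +kernel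
theorem c_w_9_15 : chkPtRange 3 920808 MLF MCF WLF 119040 256 = true := by decide +kernel
theorem c_w_9_16 : chkPtRange 3 920808 MLF MCF WLF 119296 256 = true := by decide +kernel
theorem c_w_9_17 : chkPtRange 3 920808 MLF MCF WLF 119552 256 = true := by decide +kernel
theorem c_w_9_18 : chkPtRange 3 920808 MLF MCF WLF 119808 256 = true := by decide +kernel
theorem c_w_9_19 : chkPtRange 3 920808 MLF MCF WLF 120064 256 = true := by decide +kernel
theorem c_w_9_20 : chkPtRange 3 920808 MLF MCF WLF 120320 256 = true := by decide +kernel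
theorem c_w_9_21 : chkPtRange 3 920808 MLF MCF WLF 120576 256 = true := by decide +kernel
theorem c_w_9_22 : chkPtRange 3 920808 MLF MCF WLF 120832 256 = true := by decide +kernel
theorem c_w_9_23 : chkPtRange 3 920808 MLF MCF WLF 121088 256 = true := by decide +kernel
theorem c_w_9_24 : chkPtRange 3 920808 MLF MCF WLF 121344 256 = true := by decide +kernel
theorem c_w_9_25 : chkPtRange 3 920808 MLF MCF WLF 121600 256 = true := by decide +kernel
theorem c_w_9_26 : chkPtRange 3 920808 MLF MCF WLF 121856 256 = true := by decide +kernel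
theorem c_w_9_27 : chkPtRange 3 920808 MLF MCF WLF 122112 256 = true := by decide +kernel
theorem c_w_9_28 : chkPtRange 3 920808 MLF MCF WLF 122368 256 = true := by decide +kernel
theorem c_w_9_29 : chkPtRange 3 920808 MLF MCF WLF 122624 256 = true := by decide +kernel
theorem c_w_9_30 : chkPtRange 3 920808 MLF MCF WLF 122880 256 = true := by decide +kernel
theorem c_w_9_31 : chkPtRange 3 920808 MLF MCF WLF 123136 256 = true := by decide +kernel
theorem c_w_9_32 : chkPtRange 3 920808 MLF MCF WLF 123392 256 = true := by decide +kernel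
theorem c_w_9_33 : chkPtRange 3 920808 MLF MCF WLF 123648 256 = true := by decide +kernel
theorem c_w_9_34 : chkPtRange 3 920808 MLF MCF WLF 123904 256 = true := by decide +kernel
theorem c_w_9_35 : chkPtRange 3 920808 MLF MCF WLF 124160 256 = true := by decide +kernel
theorem c_w_9_36 : chkPtRange 3 920808 MLF MCF WLF 124416 256 = true := by decide +kernel
theorem c_w_9_37 : chkPtRange 3 920808 MLF MCF WLF 124672 256 = true := by decide +kernel
theorem c_w_9_38 : chkPtRange 3 920808 MLF MCF WLF 124928 256 = true := by decide +kernel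
theorem c_w_9_39 : chkPtRange 3 920808 MLF MCF WLF 125184 256 = true := by decide +kernel
theorem c_w_9_40 : chkPtRange 3 920808 MLF MCF WLF 125440 256 = true := by decide +kernel
theorem c_w_9_41 : chkPtRange 3 920808 MLF MCF WLF 125696 256 = true := by decide +kernel
theorem c_w_9_42 : chkPtRange 3 920808 MLF MCF WLF 125952 256 = true := by decide +kernel
theorem c_w_9_43 : chkPtRange 3 920808 MLF MCF WLF 126208 256 = true := by decide +kernel
theorem c_w_9_44 : chkPtRange 3 920808 MLF MCF WLF 126464 256 = true := by decide +kernel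
theorem c_w_9_45 : chkPtRange 3 920808 MLF MCF WLF 126720 256 = true := by decide +kernel
theorem c_w_9_46 : chkPtRange 3 920808 MLF MCF WLF 126976 256 = true := by decide +kernel
theorem c_w_9_47 : chkPtRange 3 920808 MLF MCF WLF 127232 256 = true := by decide +kernel
theorem c_w_9_48 : chkPtRange 3 920808 MLF MCF WLF 127488 256 = true := by decide +kernel
theorem c_w_9_49 : chkPtRange 3 920808 MLF MCF WLF 127744 256 = true := by decide +kernel

theorem ptOK_9 (j : ℕ) (h1 : 115200 ≤ j) (h2 : j < 128000) : PtOK j := by
  rcases Nat.lt_or_ge j 115456 with g | g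
  · exact ptOK_of_chk 115200 256 c_w_9_0 j (by omega) (by omega)
  clear h1
  have h1 := g
  clear g
  rcases Nat.lt_or_ge j 115712 with g | g
  · exact ptOK_of_chk 115456 256 c_w_9_1 j (by omega) (by omega)
  clear h1
  have h1 := g
  clear g
  rcases Nat.lt_or_ge j 115968 with g | g
  · exact ptOK_of_chk 115712 256 c_w_9_2 j (by omega) (by omega)
  clear h1
  have h1 := g
  clear g
  rcases Nat.lt_or_ge j 116224 with g | g
  · exact ptOK_of_chk 115968 256 c_w_9_3 j (by omega) (by omega)
  clear h1
  have h1 := g
  clear g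
  rcases Nat.lt_or_ge j 116480 with g | g
  · exact ptOK_of_chk 116224 256 c_w_9_4 j (by omega) (by omega)
  clear h1
  have h1 := g
  clear g
  rcases Nat.lt_or_ge j 116736 with g | g
  · exact ptOK_of_chk 116480 256 c_w_9_5 j (by omega) (by omega)
  clear h1
  have h1 := g
  clear g
  rcases Nat.lt_or_ge j 116992 with g | g
  · exact ptOK_of_chk 116736 256 c_w_9_6 j (by omega) (by omega)
  clear h1
  have h1 := g
  clear g
  rcases Nat.lt_or_ge j 117248 with g | g
  · exact ptOK_of_chk 116992 256 c_w_9_7 j (by omega) (by omega)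
  clear h1
  have h1 := g
  clear g
  rcases Nat.lt_or_ge j 117504 with g | g
  · exact ptOK_of_chk 117248 256 c_w_9_8 j (by omega) (by omega)
  clear h1
  have h1 := g
  clear g
  rcases Nat.lt_or_ge j 117760 with g | g
  · exact ptOK_of_chk 117504 256 c_w_9_9 j (by omega) (by omega)
  clear h1
  have h1 := g
  clear g
  rcases Nat.lt_or_ge j 118016 with g | g
  · exact ptOK_of_chk 117760 256 c_w_9_10 j (by omega) (by omega)
  clear h1
  have h1 := g
  clear g
  rcases Nat.lt_or_ge j 118272 with g | g
  · exact ptOK_of_chk 118016 256 c_w_9_11 j (by omega) (by omega)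
  clear h1
  have h1 := g
  clear g
  rcases Nat.lt_or_ge j 118528 with g | g
  · exact ptOK_of_chk 118272 256 c_w_9_12 j (by omega) (by omega)
  clear h1
  have h1 := g
  clear g
  rcases Nat.lt_or_ge j 118784 with g | g
  · exact ptOK_of_chk 118528 256 c_w_9_13 j (by omega) (by omega)
  clear h1
  have h1 := g
  clear g
  rcases Nat.lt_or_ge j 119040 with g | g
  · exact ptOK_of_chk 118784 256 c_w_9_14 j (by omega) (by omega)
  clear h1
  have h1 := g
  clear g
  rcases Nat.lt_or_ge j 119296 with g | g
  · exact ptOK_of_chk 119040 256 c_w_9_15 j (by omega) (by omega)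
  clear h1
  have h1 := g
  clear g
  rcases Nat.lt_or_ge j 119552 with g | g
  · exact ptOK_of_chk 119296 256 c_w_9_16 j (by omega) (by omega)
  clear h1
  have h1 := g
  clear g
  rcases Nat.lt_or_ge j 119808 with g | g
  · exact ptOK_of_chk 119552 256 c_w_9_17 j (by omega) (by omega)
  clear h1
  have h1 := g
  clear g
  rcases Nat.lt_or_ge j 120064 with g | g
  · exact ptOK_of_chk 119808 256 c_w_9_18 j (by omega) (by omega)
  clear h1
  have h1 := g
  clear g
  rcases Nat.lt_or_ge j 120320 with g | g
  · exact ptOK_of_chk 120064 256 c_w_9_19 j (by omega) (by omega)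
  clear h1
  have h1 := g
  clear g
  rcases Nat.lt_or_ge j 120576 with g | g
  · exact ptOK_of_chk 120320 256 c_w_9_20 j (by omega) (by omega)
  clear h1
  have h1 := g
  clear g
  rcases Nat.lt_or_ge j 120832 with g | g
  · exact ptOK_of_chk 120576 256 c_w_9_21 j (by omega) (by omega)
  clear h1
  have h1 := g
  clear g
  rcases Nat.lt_or_ge j 121088 with g | g
  · exact ptOK_of_chk 120832 256 c_w_9_22 j (by omega) (by omega)
  clear h1
  have h1 := g
  clear g
  rcases Nat.lt_or_ge j 121344 with g | g
  · exact ptOK_of_chk 121088 256 c_w_9_23 j (by omega) (by omega)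
  clear h1
  have h1 := g
  clear g
  rcases Nat.lt_or_ge j 121600 with g | g
  · exact ptOK_of_chk 121344 256 c_w_9_24 j (by omega) (by omega)
  clear h1
  have h1 := g
  clear g
  rcases Nat.lt_or_ge j 121856 with g | g
  · exact ptOK_of_chk 121600 256 c_w_9_25 j (by omega) (by omega)
  clear h1
  have h1 := g
  clear g
  rcases Nat.lt_or_ge j 122112 with g | g
  · exact ptOK_of_chk 121856 256 c_w_9_26 j (by omega) (by omega)
  clear h1
  have h1 := g
  clear g
  rcases Nat.lt_or_ge j 122368 with g | g
  · exact ptOK_of_chk 122112 256 c_w_9_27 j (by omega) (by omega)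
  clear h1
  have h1 := g
  clear g
  rcases Nat.lt_or_ge j 122624 with g | g
  · exact ptOK_of_chk 122368 256 c_w_9_28 j (by omega) (by omega)
  clear h1
  have h1 := g
  clear g
  rcases Nat.lt_or_ge j 122880 with g | g
  · exact ptOK_of_chk 122624 256 c_w_9_29 j (by omega) (by omega)
  clear h1
  have h1 := g
  clear g
  rcases Nat.lt_or_ge j 123136 with g | g
  · exact ptOK_of_chk 122880 256 c_w_9_30 j (by omega) (by omega)
  clear h1
  have h1 := g
  clear g
  rcases Nat.lt_or_ge j 123392 with g | g
  · exact ptOK_of_chk 123136 256 c_w_9_31 j (by omega) (by omega)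
  clear h1
  have h1 := g
  clear g
  rcases Nat.lt_or_ge j 123648 with g | g
  · exact ptOK_of_chk 123392 256 c_w_9_32 j (by omega) (by omega)
  clear h1
  have h1 := g
  clear g
  rcases Nat.lt_or_ge j 123904 with g | g
  · exact ptOK_of_chk 123648 256 c_w_9_33 j (by omega) (by omega)
  clear h1
  have h1 := g
  clear g
  rcases Nat.lt_or_ge j 124160 with g | g
  · exact ptOK_of_chk 123904 256 c_w_9_34 j (by omega) (by omega)
  clear h1
  have h1 := g
  clear g
  rcases Nat.lt_or_ge j 124416 with g | g
  · exact ptOK_of_chk 124160 256 c_w_9_35 j (by omega) (by omega)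
  clear h1
  have h1 := g
  clear g
  rcases Nat.lt_or_ge j 124672 with g | g
  · exact ptOK_of_chk 124416 256 c_w_9_36 j (by omega) (by omega)
  clear h1
  have h1 := g
  clear g
  rcases Nat.lt_or_ge j 124928 with g | g
  · exact ptOK_of_chk 124672 256 c_w_9_37 j (by omega) (by omega)
  clear h1
  have h1 := g
  clear g
  rcases Nat.lt_or_ge j 125184 with g | g
  · exact ptOK_of_chk 124928 256 c_w_9_38 j (by omega) (by omega)
  clear h1
  have h1 := g
  clear g
  rcases Nat.lt_or_ge j 125440 with g | g
  · exact ptOK_of_chk 125184 256 c_w_9_39 j (by omega) (by omega)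
  clear h1
  have h1 := g
  clear g
  rcases Nat.lt_or_ge j 125696 with g | g
  · exact ptOK_of_chk 125440 256 c_w_9_40 j (by omega) (by omega)
  clear h1
  have h1 := g
  clear g
  rcases Nat.lt_or_ge j 125952 with g | g
  · exact ptOK_of_chk 125696 256 c_w_9_41 j (by omega) (by omega)
  clear h1
  have h1 := g
  clear g
  rcases Nat.lt_or_ge j 126208 with g | g
  · exact ptOK_of_chk 125952 256 c_w_9_42 j (by omega) (by omega)
  clear h1
  have h1 := g
  clear g
  rcases Nat.lt_or_ge j 126464 with g | g
  · exact ptOK_of_chk 126208 256 c_w_9_43 j (by omega) (by omega)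
  clear h1
  have h1 := g
  clear g
  rcases Nat.lt_or_ge j 126720 with g | g
  · exact ptOK_of_chk 126464 256 c_w_9_44 j (by omega) (by omega)
  clear h1
  have h1 := g
  clear g
  rcases Nat.lt_or_ge j 126976 with g | g
  · exact ptOK_of_chk 126720 256 c_w_9_45 j (by omega) (by omega)
  clear h1
  have h1 := g
  clear g
  rcases Nat.lt_or_ge j 127232 with g | g
  · exact ptOK_of_chk 126976 256 c_w_9_46 j (by omega) (by omega)
  clear h1
  have h1 := g
  clear g
  rcases Nat.lt_or_ge j 127488 with g | g
  · exact ptOK_of_chk 127232 256 c_w_9_47 j (by omega) (by omega)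
  clear h1
  have h1 := g
  clear g
  rcases Nat.lt_or_ge j 127744 with g | g
  · exact ptOK_of_chk 127488 256 c_w_9_48 j (by omega) (by omega)
  clear h1
  have h1 := g
  clear g
  exact ptOK_of_chk 127744 256 c_w_9_49 j (by omega) (by omega)

end Cfsg.Agent.Lib.Helper4.F24M
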