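import Cfsg.Agent.Lib.Helper4.F24M.CW0
import Cfsg.Agent.Lib.Helper4.F24M.CW1
import Cfsg.Agent.Lib.Helper4.F24M.CW2
import Cfsg.Agent.Lib.Helper4.F24M.CW3
import Cfsg.Agent.Lib.Helper4.F24M.CW4
import Cfsg.Agent.Lib.Helper4.F24M.CW5
import Cfsg.Agent.Lib.Helper4.F24M.CW6
import Cfsg.Agent.Lib.Helper4.F24M.CW7
import Cfsg.Agent.Lib.Helper4.F24M.CW8
import Cfsg.Agent.Lib.Helper4.F24M.CW9
import Cfsg.Agent.Lib.Helper4.F24M.CW10
import Cfsg.Agent.Lib.Helper4.F24M.CW11
import Cfsg.Agent.Lib.Helper4.F24M.CW12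
import Cfsg.Agent.Lib.Helper4.F24M.CW13
import Cfsg.Agent.Lib.Helper4.F24M.CW14
import Cfsg.Agent.Lib.Helper4.F24M.CW15
import Cfsg.Agent.Lib.Helper4.F24M.CW16
import Cfsg.Agent.Lib.Helper4.F24M.CW17
import Cfsg.Agent.Lib.Helper4.F24M.CW18
import Cfsg.Agent.Lib.Helper4.F24M.CW19
import Cfsg.Agent.Lib.Helper4.F24M.CW20
import Cfsg.Agent.Lib.Helper4.F24M.CW21
import Cfsg.Agent.Lib.Helper4.F24M.CW22
import Cfsg.Agent.Lib.Helper4.F24M.CW23
set_option autoImplicit false

/-! # The checks of the tables of the triple cover of the Fischer group at all the points -/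

namespace Cfsg.Agent.Lib.Helper4.F24M

theorem ptOK (j : ℕ) (hj : j < 306936) : PtOK j := by
  rcases Nat.lt_or_ge j 12800 with g0 | g0
  · exact ptOK_0 j (by omega) g0
  rcases Nat.lt_or_ge j 25600 with g1 | g1
  · exact ptOK_1 j (by omega) g1
  rcases Nat.lt_or_ge j 38400 with g2 | g2
  · exact ptOK_2 j (by omega) g2
  rcases Nat.lt_or_ge j 51200 with g3 | g3
  · exact ptOK_3 j (by omega) g3
  rcases Nat.lt_or_ge j 64000 with g4 | g4
  · exact ptOK_4 j (by omega) g4
  rcases Nat.lt_or_ge j 76800 with g5 | g5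
  · exact ptOK_5 j (by omega) g5
  rcases Nat.lt_or_ge j 89600 with g6 | g6
  · exact ptOK_6 j (by omega) g6
  rcases Nat.lt_or_ge j 102400 with g7 | g7
  · exact ptOK_7 j (by omega) g7
  rcases Nat.lt_or_ge j 115200 with g8 | g8
  · exact ptOK_8 j (by omega) g8
  rcases Nat.lt_or_ge j 128000 with g9 | g9
  · exact ptOK_9 j (by omega) g9
  rcases Nat.lt_or_ge j 140800 with g10 | g10
  · exact ptOK_10 j (by omega) g10
  rcases Nat.lt_or_ge j 153600 with g11 | g11
  · exact ptOK_11 j (by omega) g11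
  rcases Nat.lt_or_ge j 166400 with g12 | g12
  · exact ptOK_12 j (by omega) g12
  rcases Nat.lt_or_ge j 179200 with g13 | g13
  · exact ptOK_13 j (by omega) g13
  rcases Nat.lt_or_ge j 192000 with g14 | g14
  · exact ptOK_14 j (by omega) g14
  rcases Nat.lt_or_ge j 204800 with g15 | g15
  · exact ptOK_15 j (by omega) g15
  rcases Nat.lt_or_ge j 217600 with g16 | g16
  · exact ptOK_16 j (by omega) g16
  rcases Nat.lt_or_ge j 230400 with g17 | g17
  · exact ptOK_17 j (by omega) g17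
  rcases Nat.lt_or_ge j 243200 with g18 | g18
  · exact ptOK_18 j (by omega) g18
  rcases Nat.lt_or_ge j 256000 with g19 | g19
  · exact ptOK_19 j (by omega) g19
  rcases Nat.lt_or_ge j 268800 with g20 | g20
  · exact ptOK_20 j (by omega) g20
  rcases Nat.lt_or_ge j 281600 with g21 | g21
  · exact ptOK_21 j (by omega) g21
  rcases Nat.lt_or_ge j 294400 with g22 | g22
  · exact ptOK_22 j (by omega) g22
  exact ptOK_23 j (by omega) hj

end Cfsg.Agent.Lib.Helper4.F24M
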