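import Cfsg.Agent.Lib.Helper4.F24M.Exist2

set_option autoImplicit false

/-! # The even subgroup of the presented Fischer group is its commutator subgroup -/

namespace Cfsg.Agent.Lib.Helper4.F24M

open Cfsg.Spor Cfsg.Agent.Lib.Helper6.TCP.Fi24 Cfsg.Agent.Lib.Helper4.TCov

/-- **the triple cover of the simple Fischer group `Fi24'`** -/
theorem exists_cover_Fi24' (hpt : ∀ j < NP, PtOK j) [Finite Fi24]
    (hidx : (commutator Fi24).index = 2) (hperf : commutator (commutator Fi24) = ⊤) :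
    ∃ (Γ₀ : Type) (_ : Group Γ₀) (_ : Finite Γ₀) (σ₀ : Γ₀ →* Fi24'),
      Cfsg.IsStemExtension σ₀ ∧ Nonempty (σ₀.ker ≃* Multiplicative (ZMod 3)) := by
  obtain ⟨Γ₀, i1, i2, σ₀, hσ, ⟨e⟩⟩ :=
    exists_cover_even hpt (perf_congr (ker_eq hidx) hperf)
  obtain ⟨σ₁, h1, h2⟩ := stem_congr (ker_eq hidx) σ₀ hσ
  exact ⟨Γ₀, i1, i2, σ₁, h1, ⟨(MulEquiv.subgroupCongr h2).trans e⟩⟩

end Cfsg.Agent.Lib.Helper4.F24M
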