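import Cfsg.Agent.Lib.Helper4.F24M.Tab
set_option autoImplicit false
set_option maxRecDepth 1000000

/-! # The relators of the Fischer group as words in the twelve letters (and the three letters standing for words), with the twisted sums of the labels -/

namespace Cfsg.Agent.Lib.Helper4.F24M

/-- the relators (the base words of the coset enumeration) with the twisted sums of the labels along them -/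
def WL : List (List ℕ × ℕ) :=
  [([0, 0], 0),
  ([1, 1], 0),
  ([2, 2], 0),
  ([3, 3], 0),
  ([4, 4], 0),
  ([5, 5], 0),
  ([6, 6], 0),
  ([7, 7], 0),
  ([8, 8], 0),
  ([9, 9], 0),
  ([10, 10], 0),
  ([11, 11], 0),
  ([0, 1, 0, 1, 0, 1], 0),
  ([0, 2, 0, 2], 0),
  ([0, 3, 0, 3], 0),
  ([0, 4, 0, 4], 0),
  ([0, 5, 0, 5], 0),
  ([0, 6, 0, 6], 0),
  ([0, 7, 0, 7], 0),
  ([0, 8, 0, 8], 0),
  ([0, 9, 0, 9], 0),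
  ([0, 10, 0, 10], 0),
  ([0, 11, 0, 11], 0),
  ([1, 2, 1, 2, 1, 2], 0),
  ([1, 3, 1, 3], 0),
  ([1, 4, 1, 4], 0),
  ([1, 5, 1, 5], 0),
  ([1, 6, 1, 6], 0),
  ([1, 7, 1, 7], 0),
  ([1, 8, 1, 8], 0),
  ([1, 9, 1, 9], 0),
  ([1, 10, 1, 10], 0),
  ([1, 11, 1, 11], 0),
  ([2, 3, 2, 3, 2, 3], 0),
  ([2, 4, 2, 4], 0),
  ([2, 5, 2, 5], 0),
  ([2, 6, 2, 6], 0),
  ([2, 7, 2, 7], 0),
  ([2, 8, 2, 8], 0),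
  ([2, 9, 2, 9], 0),
  ([2, 10, 2, 10], 0),
  ([2, 11, 2, 11], 0),
  ([3, 4, 3, 4, 3, 4], 0),
  ([3, 5, 3, 5], 0),
  ([3, 6, 3, 6], 0),
  ([3, 7, 3, 7], 0),
  ([3, 8, 3, 8], 0),
  ([3, 9, 3, 9], 0),
  ([3, 10, 3, 10], 0),
  ([3, 11, 3, 11], 0),
  ([4, 5, 4, 5, 4, 5], 0),
  ([4, 6, 4, 6], 0),
  ([4, 7, 4, 7], 0),
  ([4, 8, 4, 8], 0),
  ([4, 9, 4, 9], 0),
  ([4, 10, 4, 10], 0),
  ([4, 11, 4, 11], 0),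
  ([5, 6, 5, 6, 5, 6], 0),
  ([5, 7, 5, 7], 0),
  ([5, 8, 5, 8], 0),
  ([5, 9, 5, 9], 0),
  ([5, 10, 5, 10, 5, 10], 0),
  ([5, 11, 5, 11], 0),
  ([6, 7, 6, 7, 6, 7], 0),
  ([6, 8, 6, 8], 0),
  ([6, 9, 6, 9], 0),
  ([6, 10, 6, 10], 0),
  ([6, 11, 6, 11], 0),
  ([7, 8, 7, 8, 7, 8], 0),
  ([7, 9, 7, 9], 0),
  ([7, 10, 7, 10], 0),
  ([7, 11, 7, 11], 0),
  ([8, 9, 8, 9, 8, 9], 0),
  ([8, 10, 8, 10], 0),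
  ([8, 11, 8, 11], 0),
  ([9, 10, 9, 10], 0),
  ([9, 11, 9, 11], 0),
  ([10, 11, 10, 11, 10, 11], 0),
  ([0, 10, 7, 6, 5, 4, 3, 2, 10, 7, 6, 5, 4, 3, 2, 10, 7, 6, 5, 4, 3, 2, 10, 7, 6, 5, 4, 3, 2, 10, 7, 6, 5, 4, 3, 2, 10, 7, 6, 5, 4, 3, 2, 10, 7, 6, 5, 4, 3, 2, 10, 7, 6, 5, 4, 3, 2, 10, 7, 6, 5, 4, 3, 2], 0),
  ([5, 4, 3, 2, 1, 0, 5, 6, 7, 8, 9, 5, 10, 11, 5, 4, 3, 2, 1, 0, 5, 6, 7, 8, 9, 5, 10, 11, 5, 4, 3, 2, 1, 0, 5, 6, 7, 8, 9, 5, 10, 11, 5, 4, 3, 2, 1, 0, 5, 6, 7, 8, 9, 5, 10, 11, 5, 4, 3, 2, 1, 0, 5, 6, 7, 8, 9, 5, 10, 11, 5, 4, 3, 2, 1, 0, 5, 6, 7, 8, 9, 5, 10, 11, 5, 4, 3, 2, 1, 0, 5, 6, 7, 8, 9, 5, 10, 11, 5, 4, 3, 2, 1, 0, 5, 6, 7, 8, 9, 5, 10, 11, 5, 4, 3, 2, 1, 0, 5, 6, 7, 8, 9, 5, 10, 11, 5, 4, 3, 2, 1, 0, 5, 6, 7, 8, 9, 5, 10, 11, 5, 4, 3, 2, 1, 0, 5, 6, 7, 8, 9, 5, 10,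 11, 5, 4, 3, 2, 1, 0, 5, 6, 7, 8, 9, 5, 10, 11, 5, 4, 3, 2, 1, 0, 5, 6, 7, 8, 9, 5, 10, 11, 5, 4, 3, 2, 1, 0, 5, 6, 7, 8, 9, 5, 10, 11, 5, 4, 3, 2, 1, 0, 5, 6, 7, 8, 9, 5, 10, 11, 5, 4, 3, 2, 1, 0, 5, 6, 7, 8, 9, 5, 10, 11, 5, 4, 3, 2, 1, 0, 5, 6, 7, 8, 9, 5, 10, 11], 1)]

/-- the same with the last two words written with the letters standing for words -/
def WLm : List (List ℕ × ℕ) :=
  [([0, 0], 0),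
  ([1, 1], 0),
  ([2, 2], 0),
  ([3, 3], 0),
  ([4, 4], 0),
  ([5, 5], 0),
  ([6, 6], 0),
  ([7, 7], 0),
  ([8, 8], 0),
  ([9, 9], 0),
  ([10, 10], 0),
  ([11, 11], 0),
  ([0, 1, 0, 1, 0, 1], 0),
  ([0, 2, 0, 2], 0),
  ([0, 3, 0, 3], 0),
  ([0, 4, 0, 4], 0),
  ([0, 5, 0, 5], 0),
  ([0, 6, 0, 6], 0),
  ([0, 7, 0, 7], 0),
  ([0, 8, 0, 8], 0),
  ([0, 9, 0, 9], 0),
  ([0, 10, 0, 10], 0),
  ([0, 11, 0, 11], 0),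
  ([1, 2, 1, 2, 1, 2], 0),
  ([1, 3, 1, 3], 0),
  ([1, 4, 1, 4], 0),
  ([1, 5, 1, 5], 0),
  ([1, 6, 1, 6], 0),
  ([1, 7, 1, 7], 0),
  ([1, 8, 1, 8], 0),
  ([1, 9, 1, 9], 0),
  ([1, 10, 1, 10], 0),
  ([1, 11, 1, 11], 0),
  ([2, 3, 2, 3, 2, 3], 0),
  ([2, 4, 2, 4], 0),
  ([2, 5, 2, 5], 0),
  ([2, 6, 2, 6], 0),
  ([2, 7, 2, 7], 0),
  ([2, 8, 2, 8], 0),
  ([2, 9, 2, 9], 0),
  ([2, 10, 2, 10], 0),
  ([2, 11, 2, 11], 0),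
  ([3, 4, 3, 4, 3, 4], 0),
  ([3, 5, 3, 5], 0),
  ([3, 6, 3, 6], 0),
  ([3, 7, 3, 7], 0),
  ([3, 8, 3, 8], 0),
  ([3, 9, 3, 9], 0),
  ([3, 10, 3, 10], 0),
  ([3, 11, 3, 11], 0),
  ([4, 5, 4, 5, 4, 5], 0),
  ([4, 6, 4, 6], 0),
  ([4, 7, 4, 7], 0),
  ([4, 8, 4, 8], 0),
  ([4, 9, 4, 9], 0),
  ([4, 10, 4, 10], 0),
  ([4, 11, 4, 11], 0),
  ([5, 6, 5, 6, 5, 6], 0),
  ([5, 7, 5, 7], 0),
  ([5, 8, 5, 8], 0),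
  ([5, 9, 5, 9], 0),
  ([5, 10, 5, 10, 5, 10], 0),
  ([5, 11, 5, 11], 0),
  ([6, 7, 6, 7, 6, 7], 0),
  ([6, 8, 6, 8], 0),
  ([6, 9, 6, 9], 0),
  ([6, 10, 6, 10], 0),
  ([6, 11, 6, 11], 0),
  ([7, 8, 7, 8, 7, 8], 0),
  ([7, 9, 7, 9], 0),
  ([7, 10, 7, 10], 0),
  ([7, 11, 7, 11], 0),
  ([8, 9, 8, 9, 8, 9], 0),
  ([8, 10, 8, 10], 0),
  ([8, 11, 8, 11], 0),
  ([9, 10, 9, 10], 0),
  ([9, 11, 9, 11], 0),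
  ([10, 11, 10, 11, 10, 11], 0),
  ([0, 14, 14, 14, 14, 14, 14, 14, 14, 14], 0),
  ([12, 13, 12, 13, 12, 13, 12, 13, 12, 13, 12, 13, 12, 13, 12, 13, 12, 13, 12, 13, 12, 13, 12, 13, 12, 13, 12, 13, 12, 13, 12, 13, 12, 13], 1)]

/-- the words the last three letters stand for -/
def ex (c : ℕ) : List ℕ :=
  if c = 12 then [5, 4, 3, 2, 1, 0, 5] else if c = 13 then [6, 7, 8, 9, 5, 10, 11] else if c = 14 then [10, 7, 6, 5, 4, 3, 2] else [c]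

theorem WL_eq : WL = WLm.map (fun we => (we.1.flatMap ex, we.2)) := by decide +kernel

/-- the letters standing for words, with their words -/
def MC : List (ℕ × List ℕ) := [(12, [5, 4, 3, 2, 1, 0, 5]), (13, [6, 7, 8, 9, 5, 10, 11]), (14, [10, 7, 6, 5, 4, 3, 2])]

/-- the words as lists of table functions -/
noncomputable def WLF : List (List (ℕ → ℕ) × ℕ) :=
  [([M0, M0], 0),
  ([M1, M1], 0),
  ([M2, M2], 0),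
  ([M3, M3], 0),
  ([M4, M4], 0),
  ([M5, M5], 0),
  ([M6, M6], 0),
  ([M7, M7], 0),
  ([M8, M8], 0),
  ([M9, M9], 0),
  ([M10, M10], 0),
  ([M11, M11], 0),
  ([M0, M1, M0, M1, M0, M1], 0),
  ([M0, M2, M0, M2], 0),
  ([M0, M3, M0, M3], 0),
  ([M0, M4, M0, M4], 0),
  ([M0, M5, M0, M5], 0),
  ([M0, M6, M0, M6], 0),
  ([M0, M7, M0, M7], 0),
  ([M0, M8, M0, M8], 0),
  ([M0, M9, M0, M9], 0),
  ([M0, M10, M0, M10], 0),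
  ([M0, M11, M0, M11], 0),
  ([M1, M2, M1, M2, M1, M2], 0),
  ([M1, M3, M1, M3], 0),
  ([M1, M4, M1, M4], 0),
  ([M1, M5, M1, M5], 0),
  ([M1, M6, M1, M6], 0),
  ([M1, M7, M1, M7], 0),
  ([M1, M8, M1, M8], 0),
  ([M1, M9, M1, M9], 0),
  ([M1, M10, M1, M10], 0),
  ([M1, M11, M1, M11], 0),
  ([M2, M3, M2, M3, M2, M3], 0),
  ([M2, M4, M2, M4], 0),
  ([M2, M5, M2, M5], 0),
  ([M2, M6, M2, M6], 0),
  ([M2, M7, M2, M7], 0),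
  ([M2, M8, M2, M8], 0),
  ([M2, M9, M2, M9], 0),
  ([M2, M10, M2, M10], 0),
  ([M2, M11, M2, M11], 0),
  ([M3, M4, M3, M4, M3, M4], 0),
  ([M3, M5, M3, M5], 0),
  ([M3, M6, M3, M6], 0),
  ([M3, M7, M3, M7], 0),
  ([M3, M8, M3, M8], 0),
  ([M3, M9, M3, M9], 0),
  ([M3, M10, M3, M10], 0),
  ([M3, M11, M3, M11], 0),
  ([M4, M5, M4, M5, M4, M5], 0),
  ([M4, M6, M4, M6], 0),
  ([M4, M7, M4, M7], 0),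
  ([M4, M8, M4, M8], 0),
  ([M4, M9, M4, M9], 0),
  ([M4, M10, M4, M10], 0),
  ([M4, M11, M4, M11], 0),
  ([M5, M6, M5, M6, M5, M6], 0),
  ([M5, M7, M5, M7], 0),
  ([M5, M8, M5, M8], 0),
  ([M5, M9, M5, M9], 0),
  ([M5, M10, M5, M10, M5, M10], 0),
  ([M5, M11, M5, M11], 0),
  ([M6, M7, M6, M7, M6, M7], 0),
  ([M6, M8, M6, M8], 0),
  ([M6, M9, M6, M9], 0),
  ([M6, M10, M6, M10], 0),
  ([M6, M11, M6, M11], 0),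
  ([M7, M8, M7, M8, M7, M8], 0),
  ([M7, M9, M7, M9], 0),
  ([M7, M10, M7, M10], 0),
  ([M7, M11, M7, M11], 0),
  ([M8, M9, M8, M9, M8, M9], 0),
  ([M8, M10, M8, M10], 0),
  ([M8, M11, M8, M11], 0),
  ([M9, M10, M9, M10], 0),
  ([M9, M11, M9, M11], 0),
  ([M10, M11, M10, M11, M10, M11], 0),
  ([M0, M14, M14, M14, M14, M14, M14, M14, M14, M14], 0),
  ([M12, M13, M12, M13, M12, M13, M12, M13, M12, M13, M12, M13, M12, M13, M12, M13, M12, M13, M12, M13, M12, M13, M12, M13, M12, M13, M12, M13, M12, M13, M12, M13, M12, M13], 1)]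

theorem WLF_eq : WLF = WLm.map (fun we => (we.1.map M, we.2)) := rfl

/-- the letters standing for words, as table functions -/
noncomputable def MCF : List ((ℕ → ℕ) × List (ℕ → ℕ)) := [(M12, [M5, M4, M3, M2, M1, M0, M5]), (M13, [M6, M7, M8, M9, M5, M10, M11]), (M14, [M10, M7, M6, M5, M4, M3, M2])]

theorem MCF_eq : MCF = MC.map (fun cw => (M cw.1, cw.2.map M)) := rfl

/-- the table functions of the fifteen letters -/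
noncomputable def MLF : List (ℕ → ℕ) := [M0, M1, M2, M3, M4, M5, M6, M7, M8, M9, M10, M11, M12, M13, M14]

theorem MLF_eq : MLF = (List.range 15).map M := rfl

end Cfsg.Agent.Lib.Helper4.F24M
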