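import Cfsg.Agent.Lib.Helper4.TCov.FWalk
import Cfsg.Agent.Lib.Helper4.F24M.Words

set_option autoImplicit false

/-! # The checks at a point of the tables of the triple cover of the Fischer group -/

namespace Cfsg.Agent.Lib.Helper4.F24M

open Cfsg.Agent.Lib.Helper4.TCov Cfsg.Agent.Lib.Helper6.TC

/-- the images of the points under the letters -/
noncomputable def px : ℕ → ℕ → ℕ := pxM M 3

/-- the labels of the letters at the points -/
noncomputable def lb : ℕ → ℕ → ℕ := lbM M 3

/-- the statement of the checks at the point `j`: the entries of the tables are bounded, the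
letters standing for words act as their words, and the relator words are closed walks with the
listed twisted sums of labels -/
def PtOK (j : ℕ) : Prop :=
  (∀ c ∈ List.range 15, M c j ≤ 920808) ∧
  (∀ cw ∈ MC, wapp px cw.2 j = px cw.1 j ∧
    zsum px lb 3 cw.2 j 0 = ((lb cw.1 j : ℕ) : ZMod 3)) ∧
  (∀ we ∈ WLm, wapp px we.1 j = j ∧ zsum px lb 3 we.1 j 0 = ((we.2 : ℕ) : ZMod 3))

theorem ptOK_of_chk (lo cnt : ℕ) (h : chkPtRange 3 920808 MLF MCF WLF lo cnt = true)
    (j : ℕ) (h1 : lo ≤ j) (h2 : j < lo + cnt) : PtOK j := by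
  rw [MLF_eq, MCF_eq, WLF_eq] at h
  exact chkPtRange_spec M 3 920808 _ MC WLm lo cnt h j h1 h2

end Cfsg.Agent.Lib.Helper4.F24M
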