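import Cfsg.Agent.Lib.Helper4.TCov.Main
import Cfsg.Agent.Lib.Helper4.TCov.FMacro
import Cfsg.Agent.Lib.Helper4.F24M.PtOK
import Cfsg.Agent.Lib.Helper6.TCP.Fi24

set_option autoImplicit false
set_option maxRecDepth 100000

/-! # The triple cover of the Fischer group: the relators act as shifts in the twisted labelled
action of the twelve generators -/

namespace Cfsg.Agent.Lib.Helper4.F24M

open Cfsg.Spor Cfsg.Agent.Lib.Helper6.TC Cfsg.Agent.Lib.Helper6.TCP.Fi24
open Cfsg.Agent.Lib.Helper4.PCov Cfsg.Agent.Lib.Helper4.TCov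

/-- the number of points -/
abbrev NP : ℕ := 306936

theorem WLm_lt : ∀ wm ∈ WLm, ∀ c ∈ wm.1, c < 15 := by decide +kernel

theorem base_eq_WL : base = WL.map Prod.fst := by decide +kernel

theorem WL_even : ∀ we ∈ WL, we.1.length % 2 = 0 := by decide +kernel

theorem WL_small : ∀ we ∈ WL, we.1.length ≤ 64 → we.2 = 0 := by decide +kernel

theorem sq_mem : ∀ c < 12, ([c, c], 0) ∈ WL := by decide +kernel

theorem sq_mem_m : ∀ c < 12, ([c, c], 0) ∈ WLm := by decide +kernel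

section

variable (hpt : ∀ j < NP, PtOK j)

include hpt in
theorem px_lt (c : ℕ) (hc : c < 15) (j : ℕ) (hj : j < NP) : px c j < NP := by
  have h := (hpt j hj).1 c (List.mem_range.mpr hc)
  show (M c j - 1) / 3 < 306936
  omega

include hpt in
theorem walk_m (j : ℕ) (hj : j < NP) (we : List ℕ × ℕ) (hwe : we ∈ WLm) :
    wapp px we.1 j = j ∧ zsum px lb 3 we.1 j 0 = ((we.2 : ℕ) : ZMod 3) :=
  (hpt j hj).2.2 we hwe

include hpt in
theorem sq_closed (c : ℕ) (hc : c < 12) (j : ℕ) (hj : j < NP) : px c (px c j) = j :=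
  (walk_m hpt j hj _ (sq_mem_m c hc)).1

include hpt in
theorem hP : PHyp px NP 12 INV where
  Npos := by norm_num
  hinv1 := hinv1
  hinvinv := by
    intro c hc
    rw [invc_eq c hc, invc_eq c hc]
  hlt := fun c hc p hp => px_lt hpt c (by omega) p hp
  hpx := by
    intro c hc p hp
    rw [invc_eq c hc]
    exact sq_closed hpt c hc p hp

include hpt in
theorem ex_ok : ∀ c < 15, (ex c).length % 2 = 1 ∧ ∀ j < NP, wapp px (ex c) j = px c j ∧
    zsum px lb 3 (ex c) j 0 = ((lb c j : ℕ) : ZMod 3) := by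
  intro c hc
  by_cases h12 : c < 12
  · have e : ex c = [c] := by
      unfold ex
      rw [if_neg (by omega), if_neg (by omega), if_neg (by omega)]
    rw [e]
    refine ⟨rfl, fun j _ => ⟨rfl, ?_⟩⟩
    rw [zsum_cons, zsum_nil, neg_zero, zero_add]
  · have : c = 12 ∨ c = 13 ∨ c = 14 := by omega
    rcases this with rfl | rfl | rfl
    · exact ⟨by decide, fun j hj => (hpt j hj).2.1 (12, ex 12) (by decide)⟩
    · exact ⟨by decide, fun j hj => (hpt j hj).2.1 (13, ex 13) (by decide)⟩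
    · exact ⟨by decide, fun j hj => (hpt j hj).2.1 (14, ex 14) (by decide)⟩

include hpt in
/-- every relator word is a closed walk at every point, with the listed twisted sum of labels -/
theorem walk_ok (j : ℕ) (hj : j < NP) :
    ∀ we ∈ WL, wapp px we.1 j = j ∧ zsum px lb 3 we.1 j 0 = ((we.2 : ℕ) : ZMod 3) := by
  intro we hwe
  rw [WL_eq, List.mem_map] at hwe
  obtain ⟨wm, hwm, rfl⟩ := hwe
  obtain ⟨h1, h2⟩ := expand_ok px lb 3 NP 15 ex (fun c hc p hp => px_lt hpt c hc p hp)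
    (ex_ok hpt) wm.1 (WLm_lt wm hwm) j hj 0
  obtain ⟨h3, h4⟩ := walk_m hpt j hj wm hwm
  exact ⟨h1.trans h3, h2.trans h4⟩

/-- the twisted labelled permutation of a letter -/
noncomputable abbrev T (c : ℕ) : Equiv.Perm (Fin NP × ZMod 3) := Tc (hP hpt) lb 3 c

/-- the twisted labelled permutation of a generator -/
noncomputable abbrev X (x : Fi24.Gen) : Equiv.Perm (Fin NP × ZMod 3) := Xt (hP hpt) lb 3 col x

theorem mem_lt (we : List ℕ × ℕ) (hwe : we ∈ WL) : ∀ c ∈ we.1, c < 12 := by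
  apply hbl
  rw [base_eq_WL]
  exact List.mem_map_of_mem hwe

theorem Tw_of_mem (we : List ℕ × ℕ) (hwe : we ∈ WL) :
    Tw (hP hpt) lb 3 we.1 = zs (Fin NP) 3 ((we.2 : ℕ) : ZMod 3) :=
  Tw_eq_zs (hP hpt) lb 3 we.1 (mem_lt we hwe) (WL_even we hwe) _
    (fun j hj => walk_ok hpt j hj we hwe)

theorem hinvT : ∀ c < 12, T hpt (invc INV c) = (T hpt c)⁻¹ := by
  intro c hc
  rw [invc_eq c hc]
  have h := Tw_of_mem hpt _ (sq_mem c hc)
  rw [Tw_cons, Tw_cons, Tw_nil, one_mul] at h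
  apply eq_inv_of_mul_eq_one_left
  rw [h]
  simp only [Nat.cast_zero]
  exact zs_zero

/-- the value of the twisted labelled action on a relator word -/
theorem lam_of_mem (we : List ℕ × ℕ) (hwe : we ∈ WL) :
    lam (X hpt) (wordElt gc we.1) = zs (Fin NP) 3 (-((we.2 : ℕ) : ZMod 3)) :=
  lam_wordElt_eq_zs_t (hP hpt) lb 3 gc col hC (hinvT hpt) we.1 (mem_lt we hwe)
    (WL_even we hwe) _ (fun j hj => walk_ok hpt j hj we hwe)

theorem lam_base (b : List ℕ) (hb : b ∈ base) :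
    ∃ c, lam (X hpt) (wordElt gc b) = zs (Fin NP) 3 c ∧ (b.length ≤ 64 → c = 0) := by
  rw [base_eq_WL, List.mem_map] at hb
  obtain ⟨we, hwe, rfl⟩ := hb
  refine ⟨_, lam_of_mem hpt we hwe, fun hl => ?_⟩
  rw [WL_small we hwe hl]
  simp

theorem X_inv (x : Fi24.Gen) :
    (lam (X hpt) (FreeGroup.of x))⁻¹ = lam (X hpt) (FreeGroup.of x) := by
  have h1 := hinvT hpt (col x) (col_lt x)
  rw [invc_eq _ (col_lt x)] at h1
  show (FreeGroup.lift (X hpt) (FreeGroup.of x))⁻¹ = FreeGroup.lift (X hpt) (FreeGroup.of x)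
  rw [FreeGroup.lift_apply_of]
  show ((T hpt (col x))⁻¹)⁻¹ = (T hpt (col x))⁻¹
  rw [inv_inv]
  exact h1

/-- the action of a Coxeter relator -/
theorem lam_pair (x y : Fi24.Gen) :
    ∃ c, lam (X hpt) ((FreeGroup.of x * FreeGroup.of y) ^ coxLabel Fi24.edges x y) =
      zs (Fin NP) 3 c ∧ c = 0 := by
  rw [← wordElt_pairw (gc_col x) (gc_col y)]
  rcases pair_cover x y with h | ⟨b, hb, h⟩
  · obtain ⟨c, hc, hc0⟩ := lam_base hpt _ h
    refine ⟨c, hc, hc0 ?_⟩
    unfold pairw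
    cases x <;> cases y <;> decide
  · obtain ⟨c, hc, hc0⟩ := lam_base hpt b hb
    have hlen : b.length ≤ 64 := by
      have : (b.rotate 1).length ≤ 64 := by
        rw [← h]
        unfold pairw
        cases x <;> cases y <;> decide
      rwa [List.length_rotate] at this
    obtain ⟨e', he', he0⟩ := lam_wordElt_rotate_t (hP hpt) lb 3 gc col hC (hinvT hpt) b
      (hbl b hb) c hc
    rw [h]
    exact ⟨e', he', he0 (hc0 hlen)⟩

/-- every relator acts as a shift -/
theorem hrel : ∀ r ∈ Rels, ∃ c, lam (X hpt) r = zs (Fin NP) 3 c := by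
  intro r hr
  rcases hr with hr | hr
  · obtain ⟨x, _, y, _, rfl⟩ := hr
    obtain ⟨c, hc, _⟩ := lam_pair hpt x y
    exact ⟨c, hc⟩
  · have hr' : r ∈ Fi24.extra := hr
    simp only [Fi24.extra, List.mem_cons, List.mem_nil_iff, or_false] at hr'
    rcases hr' with rfl | rfl
    · rw [extra0 (lam (X hpt)) (X_inv hpt)]
      obtain ⟨c, hc, _⟩ := lam_base hpt _ extra_mem.1
      exact ⟨c, hc⟩
    · rw [extra1 (lam (X hpt)) (X_inv hpt)]
      obtain ⟨c, hc, _⟩ := lam_base hpt _ extra_mem.2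
      exact ⟨c, hc⟩

end

end Cfsg.Agent.Lib.Helper4.F24M
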