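import Cfsg.Agent.Lib.Helper4.TCov.Main
import Cfsg.Agent.Lib.Helper6.TCP.Fi24

set_option autoImplicit false
set_option maxRecDepth 100000

/-! # The sign character of the presented Fischer group: its kernel is the commutator subgroup -/

namespace Cfsg.Agent.Lib.Helper4.F24M

open Cfsg.Spor Cfsg.Agent.Lib.Helper6.TC Cfsg.Agent.Lib.Helper6.TCP.Fi24
open Cfsg.Agent.Lib.Helper4.TCov

/-- every relator is an even word -/
theorem hsgn : ∀ r ∈ Rels, sgn r = 1 := by
  intro r hr
  rcases hr with hr | hr
  · obtain ⟨x, _, y, _, rfl⟩ := hr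
    rw [map_pow, map_mul, sgn_of, sgn_of]
    have e : ((-1 : ℤˣ) * -1) = 1 := by decide
    rw [e, one_pow]
  · have hr' : r ∈ Fi24.extra := hr
    simp only [Fi24.extra, List.mem_cons, List.mem_nil_iff, or_false] at hr'
    rcases hr' with rfl | rfl
    · simp only [map_mul, map_inv, map_pow, sgn_of]
      decide
    · simp only [map_mul, map_pow, sgn_of]
      decide

/-- the kernel of the sign character is the commutator subgroup -/
theorem ker_eq (hidx : (commutator Fi24).index = 2) :
    (sgnG Rels hsgn).ker = commutator Fi24 := by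
  have hle : commutator Fi24 ≤ (sgnG Rels hsgn).ker :=
    Abelianization.commutator_subset_ker (sgnG Rels hsgn)
  have hne : (sgnG Rels hsgn).ker ≠ ⊤ := by
    intro h
    have hm : PresentedGroup.mk Rels (FreeGroup.of Fi24.Gen.l) ∈ (sgnG Rels hsgn).ker := by
      rw [h]
      exact Subgroup.mem_top _
    rw [MonoidHom.mem_ker, sgnG_mk, sgn_of] at hm
    exact absurd hm (by decide)
  have h1 := Subgroup.relIndex_mul_index hle
  rw [hidx] at h1
  have h2 : (sgnG Rels hsgn).ker.index ≠ 1 := fun h => hne (Subgroup.index_eq_one.mp h)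
  have h3 : (sgnG Rels hsgn).ker.index ∣ 2 := Dvd.intro_left _ h1
  have h4 : (sgnG Rels hsgn).ker.index = 2 := by
    rcases (Nat.dvd_prime Nat.prime_two).mp h3 with h | h
    · exact absurd h h2
    · exact h
  rw [h4] at h1
  have h5 : (commutator Fi24).relIndex (sgnG Rels hsgn).ker = 1 := by omega
  exact le_antisymm (Subgroup.relIndex_eq_one.mp h5) hle

/-- the elements of the commutator subgroup are the images of the even words -/
theorem mem_comm_iff (hidx : (commutator Fi24).index = 2) (f : FreeGroup Fi24.Gen) :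
    PresentedGroup.mk Rels f ∈ commutator Fi24 ↔ sgn f = 1 := by
  rw [← ker_eq hidx, MonoidHom.mem_ker, sgnG_mk]

/-- a stem extension of a subgroup is a stem extension of an equal subgroup -/
theorem stem_congr {G : Type*} [Group G] {K K' : Subgroup G} (h : K = K') {Γ₀ : Type*}
    [Group Γ₀] (σ₀ : Γ₀ →* K) (hσ : Cfsg.IsStemExtension σ₀) :
    ∃ σ₁ : Γ₀ →* K', Cfsg.IsStemExtension σ₁ ∧ σ₁.ker = σ₀.ker := by
  subst h
  exact ⟨σ₀, hσ, rfl⟩

theorem perf_congr {G : Type*} [Group G] {K K' : Subgroup G} (h : K = K')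
    (hp : commutator K' = ⊤) : commutator K = ⊤ := by
  subst h
  exact hp

end Cfsg.Agent.Lib.Helper4.F24M
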