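import Cfsg.Agent.Lib.Helper4.F24M.Exist
import Cfsg.Agent.Lib.Helper4.F24M.Sgn

set_option autoImplicit false
set_option maxRecDepth 100000

/-! # The triple cover of the Fischer group: the stem extension of the even subgroup -/

namespace Cfsg.Agent.Lib.Helper4.F24M

open Cfsg.Spor Cfsg.Agent.Lib.Helper6.TC Cfsg.Agent.Lib.Helper6.TCP.Fi24
open Cfsg.Agent.Lib.Helper4.PCov Cfsg.Agent.Lib.Helper4.TCov

section

variable (hpt : ∀ j < NP, PtOK j)

/-- the squares of the generators act trivially -/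
theorem hsq (x : Fi24.Gen) :
    lam' Rels (X hpt) (FreeGroup.of x * FreeGroup.of x) = 1 := by
  have h1 : coxLabel Fi24.edges x x = 1 := coxLabel_self _ x
  obtain ⟨c, hc, hc0⟩ := lam_pair hpt x x
  rw [h1, pow_one, hc0, zs_zero] at hc
  have h2 := cox_rel x x
  rw [h1, pow_one] at h2
  show ((PresentedGroup.mk Rels (FreeGroup.of x * FreeGroup.of x),
    lam (X hpt) (FreeGroup.of x * FreeGroup.of x)) : PresentedGroup Rels × _) = 1
  rw [h2, hc]
  rfl

/-- the squares of the products of two commuting generators act trivially -/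
theorem hpair2 (x z : Fi24.Gen) (h : coxLabel Fi24.edges x z = 2) :
    lam' Rels (X hpt) ((FreeGroup.of x * FreeGroup.of z) ^ 2) = 1 := by
  obtain ⟨c, hc, hc0⟩ := lam_pair hpt x z
  rw [h, hc0, zs_zero] at hc
  have h2 := cox_rel x z
  rw [h] at h2
  show ((PresentedGroup.mk Rels ((FreeGroup.of x * FreeGroup.of z) ^ 2),
    lam (X hpt) ((FreeGroup.of x * FreeGroup.of z) ^ 2)) : PresentedGroup Rels × _) = 1
  rw [h2, hc]
  rfl

theorem hconn (x y : Fi24.Gen) : ∃ z : Fi24.Gen,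
    lam' Rels (X hpt) ((FreeGroup.of x * FreeGroup.of z) ^ 2) = 1 ∧
      lam' Rels (X hpt) ((FreeGroup.of z * FreeGroup.of y) ^ 2) = 1 := by
  have hz : ∃ z : Fi24.Gen, coxLabel Fi24.edges x z = 2 ∧ coxLabel Fi24.edges z y = 2 := by
    cases x <;> cases y <;>
      first
      | exact ⟨.l, by decide, by decide⟩
      | exact ⟨.j, by decide, by decide⟩
      | exact ⟨.i, by decide, by decide⟩
  obtain ⟨z, h1, h2⟩ := hz
  exact ⟨z, hpair2 hpt x z h1, hpair2 hpt z y h2⟩

/-- the last relator acts as a shift which is not trivial -/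
theorem hlast : ∃ c0 : ZMod 3, c0 ≠ 0 ∧
    lam (X hpt) ((Fi24.d * Fi24.c * Fi24.b * Fi24.a * Fi24.k * Fi24.l * Fi24.d * Fi24.e *
      Fi24.f * Fi24.g * Fi24.j * Fi24.d * Fi24.h * Fi24.i) ^ 17) = zs (Fin NP) 3 c0 := by
  have hm : ((List.replicate 17 u1).flatten, 1) ∈ WL := by decide +kernel
  have h := lam_of_mem hpt _ hm
  rw [← extra1 (lam (X hpt)) (X_inv hpt)] at h
  exact ⟨_, by decide, h⟩

include hpt in
/-- **the triple cover of the simple Fischer group `Fi24'`**, as a stem extension of the even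
subgroup of the presented group -/
theorem exists_cover_even [Finite Fi24]
    (hperf : commutator (sgnG Rels hsgn).ker = ⊤) :
    ∃ (Γ₀ : Type) (_ : Group Γ₀) (_ : Finite Γ₀) (σ₀ : Γ₀ →* (sgnG Rels hsgn).ker),
      Cfsg.IsStemExtension σ₀ ∧ Nonempty (σ₀.ker ≃* Multiplicative (ZMod 3)) := by
  haveI : Fact (Nat.Prime 3) := ⟨Nat.prime_three⟩
  haveI : Nonempty (Fin NP) := ⟨⟨0, by norm_num⟩⟩
  haveI : Finite (PresentedGroup Rels) := (inferInstance : Finite Fi24)
  obtain ⟨c0, hc0, hl0⟩ := hlast hpt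
  have hr0 : PresentedGroup.mk Rels ((Fi24.d * Fi24.c * Fi24.b * Fi24.a * Fi24.k * Fi24.l *
      Fi24.d * Fi24.e * Fi24.f * Fi24.g * Fi24.j * Fi24.d * Fi24.h * Fi24.i) ^ 17) = 1 :=
    PresentedGroup.one_of_mem (Or.inr (by simp [Fi24.extra]))
  exact exists_even_cover Rels (X hpt) hsgn (fun x c => Xt_conj (hP hpt) lb 3 col x c)
    (hrel hpt) _ hr0 c0 hc0 hl0 (hsq hpt) (hconn hpt) hperf (by decide)

end

end Cfsg.Agent.Lib.Helper4.F24M
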