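import Cfsg.Agent.Lib.Helper4.F24M.URel

set_option autoImplicit false
set_option maxRecDepth 100000

/-! # The relations between the letters hold in the simple Fischer group: a stronger reduction,
which moves the first generator through the ten generators commuting with it -/

namespace Cfsg.Agent.Lib.Helper4.F24M

open Cfsg.Spor Cfsg.Agent.Lib.Helper6.TC Cfsg.Agent.Lib.Helper6.TCP.Fi24
open Cfsg.Agent.Lib.Helper1.MatCode

/-- the first generator commutes with the ten generators not joined to it -/
theorem tg_comm : ∀ d, 2 ≤ d → d < 12 → tg 0 * tg d = tg d * tg 0 := by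
  intro d h2 h12
  have hm : [0, d, 0, d] ∈ base := by
    interval_cases d <;> decide +kernel
  have h := hbase _ hm
  rw [wordElt_cons, wordElt_cons, wordElt_cons, wordElt_cons, wordElt_nil, mul_one, map_mul,
    map_mul, map_mul] at h
  have h' : tg 0 * (tg d * (tg 0 * tg d)) = 1 := h
  have h2 : (tg 0 * tg d) * (tg 0 * tg d) = 1 := by rw [mul_assoc]; exact h'
  have h3 : tg 0 * tg d = (tg 0 * tg d)⁻¹ := eq_inv_of_mul_eq_one_left h2
  rw [h3, mul_inv_rev, tg_inv, tg_inv]

/-- push the first generator to the right through the generators commuting with it, and cancel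
it against the next letter if this is again the first generator -/
def push0 : List ℕ → List ℕ
  | [] => [0]
  | d :: r => if d = 0 then r else if 2 ≤ d ∧ d < 12 then d :: push0 r else 0 :: d :: r

theorem mk_push0 (v : List ℕ) :
    PresentedGroup.mk Rels (wordElt gc (push0 v)) =
      tg 0 * PresentedGroup.mk Rels (wordElt gc v) := by
  induction v with
  | nil =>
    show PresentedGroup.mk Rels (wordElt gc [0]) = _
    rw [wordElt_cons, map_mul]
  | cons d r ih =>
    show PresentedGroup.mk Rels (wordElt gc
      (if d = 0 then r else if 2 ≤ d ∧ d < 12 then d :: push0 r else 0 :: d :: r)) = _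
    by_cases hd : d = 0
    · subst hd
      rw [if_pos rfl, wordElt_cons, map_mul, ← mul_assoc]
      have := tg_sq 0
      unfold tg at this
      rw [this, one_mul]
    · rw [if_neg hd]
      by_cases hc : 2 ≤ d ∧ d < 12
      · rw [if_pos hc, wordElt_cons, map_mul, ih, wordElt_cons, map_mul, ← mul_assoc, ← mul_assoc]
        have := tg_comm d hc.1 hc.2
        unfold tg at this
        rw [this]
      · rw [if_neg hc, wordElt_cons, map_mul]

/-- the stronger reduction of a word -/
def nrm : List ℕ → List ℕ
  | [] => []
  | c :: w =>
    if c = 0 then push0 (nrm w) else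
    match nrm w with
    | [] => [c]
    | d :: r => if c = d then r else c :: d :: r

theorem nrm_cons (c : ℕ) (w : List ℕ) : nrm (c :: w) =
    if c = 0 then push0 (nrm w) else
    match nrm w with
    | [] => [c]
    | d :: r => if c = d then r else c :: d :: r := rfl

theorem mk_nrm (w : List ℕ) :
    PresentedGroup.mk Rels (wordElt gc (nrm w)) = PresentedGroup.mk Rels (wordElt gc w) := by
  induction w with
  | nil => rfl
  | cons c w ih =>
    rw [wordElt_cons gc c w, map_mul, ← ih, nrm_cons]
    by_cases hc : c = 0
    · subst hc
      rw [if_pos rfl, mk_push0]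
    · rw [if_neg hc]
      generalize nrm w = v
      cases v with
      | nil =>
        show PresentedGroup.mk Rels (wordElt gc [c]) = _
        rw [wordElt_cons, map_mul]
      | cons d r =>
        show PresentedGroup.mk Rels (wordElt gc (if c = d then r else c :: d :: r)) = _
        by_cases hcd : c = d
        · subst hcd
          rw [if_pos rfl, wordElt_cons, map_mul, ← mul_assoc]
          have := tg_sq c
          unfold tg at this
          rw [this, one_mul]
        · rw [if_neg hcd, wordElt_cons, map_mul]

/-- the stronger check of a relation between the letters -/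
def relOK2 (w : List ℕ × List ℕ) : Bool :=
  w.2 == [] && baseL.any (fun b => nrm (w.1.flatMap yx) == nrm b)

theorem relOK2_spec (w : List ℕ × List ℕ) (h : relOK2 w = true) :
    w.2 = [] ∧ PresentedGroup.mk Rels (wordElt gc (w.1.flatMap yx)) = 1 := by
  unfold relOK2 at h
  rw [Bool.and_eq_true, List.any_eq_true] at h
  obtain ⟨h1, b, hb, h2⟩ := h
  refine ⟨by simpa using h1, ?_⟩
  have h3 : nrm (w.1.flatMap yx) = nrm b := by simpa using h2
  rw [← mk_nrm, h3, mk_nrm]
  exact baseL_one b hb

/-- the relations hold in the simple group -/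
theorem hrel_F2 (hidx : (commutator Fi24).index = 2) (rels : List (List ℕ × List ℕ))
    (hlt : ∀ w ∈ rels, (∀ i ∈ w.1, i < 12) ∧ ∀ i ∈ w.2, i < 12)
    (hok : ∀ w ∈ rels, relOK2 w = true) :
    ∀ w ∈ rels, wordProd (gsY hidx) w.1 = wordProd (gsY hidx) w.2 := by
  intro w hw
  obtain ⟨h1, h2⟩ := relOK2_spec w (hok w hw)
  rw [h1, wordProd_nil]
  apply Subtype.ext
  rw [coe_wordProd hidx w.1 (hlt w hw).1, h2]
  rfl

end Cfsg.Agent.Lib.Helper4.F24M
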