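import Cfsg.Agent.Lib.Helper4.F24M.URel

set_option autoImplicit false
set_option maxRecDepth 100000

/-! # The stabilizer of the first point in the action of the simple Fischer group `Fi24'` on
306936 points -/

namespace Cfsg.Agent.Lib.Helper4.F24M

open Cfsg.Spor Cfsg.Agent.Lib.Helper6.TC Cfsg.Agent.Lib.Helper6.TCP.Fi24
open Cfsg.Agent.Lib.Helper4.TCov

/-- the first generator -/
noncomputable abbrev Lg : Fi24 := PresentedGroup.mk Rels (FreeGroup.of Fi24.Gen.l)

theorem Lg_not_comm (hidx : (commutator Fi24).index = 2) : Lg ∉ commutator Fi24 := by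
  intro h
  rw [mem_comm_iff hidx, sgn_of] at h
  exact absurd h (by decide)

section stab

variable {φ : Fi24 →* Equiv.Perm (Fin 306936)} (hidx : (commutator Fi24).index = 2)
  (H0 S1 : Subgroup Fi24)
  (hfix : ∀ h ∈ H0, φ h (ptF 0) = ptF 0)
  (htrans : ∀ p : Fin 306936, ∃ g, φ g (ptF 0) = p)
  (hH0 : H0.index = 306936)
  (hS1 : S1 ≤ H0) (hS1c : S1 ≤ commutator Fi24)
  (hdec : ∀ h ∈ H0, h ∈ S1 ∨ h * Lg ∈ S1)
include hfix htrans hH0

/-- the stabilizer of the first point in the whole group -/
theorem stab_full :
    letI := MulAction.compHom (Fin 306936) φ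
    H0 = MulAction.stabilizer Fi24 (ptF 0) := by
  letI := MulAction.compHom (Fin 306936) φ
  have hle : H0 ≤ MulAction.stabilizer Fi24 (ptF 0) := by
    intro h hh
    rw [MulAction.mem_stabilizer_iff]
    exact hfix h hh
  have h2 : (MulAction.stabilizer Fi24 (ptF 0)).index = 306936 := by
    rw [MulAction.index_stabilizer]
    have : MulAction.orbit Fi24 (ptF 0) = Set.univ :=
      Set.eq_univ_of_forall fun p => MulAction.mem_orbit_iff.mpr (htrans p)
    rw [this, Set.ncard_univ, Nat.card_fin]
  have h3 := Subgroup.relIndex_mul_index hle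
  rw [hH0, h2] at h3
  have h4 : H0.relIndex (MulAction.stabilizer Fi24 (ptF 0)) = 1 := by omega
  exact le_antisymm hle (Subgroup.relIndex_eq_one.mp h4)

include hidx hS1 hS1c hdec in
/-- the stabilizer of the first point in the simple group -/
theorem stab_eq_F :
    letI := actF φ
    S1.subgroupOf (commutator Fi24) = MulAction.stabilizer Fi24' (ptF 0) := by
  letI := actF φ
  ext g
  rw [Subgroup.mem_subgroupOf, MulAction.mem_stabilizer_iff]
  constructor
  · intro hg
    exact hfix _ (hS1 hg)
  · intro hg
    have hg' : φ (g : Fi24) (ptF 0) = ptF 0 := hg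
    have hst : (g : Fi24) ∈ H0 := by
      rw [stab_full H0 hfix htrans hH0]
      letI := MulAction.compHom (Fin 306936) φ
      rw [MulAction.mem_stabilizer_iff]
      exact hg'
    rcases hdec _ hst with h | h
    · exact h
    · exfalso
      have h1 : (g : Fi24) * Lg ∈ commutator Fi24 := hS1c h
      have h2 : Lg ∈ commutator Fi24 := by
        have := Subgroup.mul_mem _ (Subgroup.inv_mem _ g.2) h1
        rwa [inv_mul_cancel_left] at this
      exact Lg_not_comm hidx h2

end stab

end Cfsg.Agent.Lib.Helper4.F24M
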