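import Cfsg.Agent.Lib.Helper4.F24M.Even
import Cfsg.Agent.Lib.Helper4.F24M.UStab
import Cfsg.Agent.Lib.Helper4.F24M.URel2
import Cfsg.Agent.Lib.Helper4.F24M.U2.Mat
import Cfsg.Agent.Lib.Helper4.F24M.U2.Struct
import Cfsg.Agent.Lib.Helper4.F24M.U3.Mat
import Cfsg.Agent.Lib.Helper4.F24M.U3.Struct
import Cfsg.Agent.Lib.Helper4.F24M.U7.Mat
import Cfsg.Agent.Lib.Helper4.F24M.U7.Struct
import Cfsg.Agent.Lib.Helper1.Stem21
import Cfsg.Agent.Lib.Helper1.Stem17
import Cfsg.Agent.Lib.Helper5.StemRes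

set_option autoImplicit false
set_option maxRecDepth 100000

/-! # The multiplier of the simple Fischer group `Fi24'` is cyclic of order 3, from the checked
facts -/

namespace Cfsg.Agent.Lib.Helper4.F24M

open Cfsg.Spor Cfsg.Agent.Lib.Helper6.TC Cfsg.Agent.Lib.Helper6.TCP.Fi24
open Cfsg.Agent.Lib.Helper1.StemSA Cfsg.Agent.Lib.Helper1.MatCode Cfsg.Agent.Lib.Helper4.Sparse
open Cfsg.Agent.Lib.Helper1 Cfsg.Agent.Lib.Helper4.TCov

/-- the facts on the Fischer group which the proof uses -/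
structure F24Hyp (φ : Fi24 →* Equiv.Perm (Fin 306936)) (H0 S1 : Subgroup Fi24) : Prop where
  rep : RepHyp φ
  hidx : (commutator Fi24).index = 2
  card : Nat.card Fi24 = 2 * 1255205709190661721292800
  simple : IsSimpleGroup Fi24'
  fix : ∀ h ∈ H0, φ h (ptF 0) = ptF 0
  trans : ∀ p : Fin 306936, ∃ g, φ g (ptF 0) = p
  idxH0 : H0.index = 306936
  S1_le : S1 ≤ H0
  dec : ∀ h ∈ H0, h ∈ S1 ∨ h * Lg ∈ S1
  cardS1 : Nat.card S1 = 4089470473293004800
  perf : commutator S1 = ⊤
  bS : ∀ (p : ℕ) (Γ : Type) [Group Γ] [Finite Γ] (σ : Γ →* S1),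
    Cfsg.IsStemExtension σ → IsPGroup p σ.ker → Nat.card σ.ker ≤ 1
  vb2 : ValsBoundN.{0} U2.D 2 0 12
  vb3 : ValsBoundN.{0} U3.D 3 1 12
  vb7 : ValsBoundN.{0} U7.D 7 0 12
  hpt : ∀ j < NP, PtOK j

theorem rels_ok2 : ∀ w ∈ U2.rels, relOK2 w = true := by decide +kernel
theorem rels_ok3 : ∀ w ∈ U3.rels, relOK2 w = true := by decide +kernel
theorem rels_ok7 : ∀ w ∈ U7.rels, relOK2 w = true := by decide +kernel

/-- perfect groups are preserved by isomorphisms -/
theorem commutator_eq_top_of_equiv {A B : Type*} [Group A] [Group B] (e : A ≃* B)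
    (h : commutator A = ⊤) : commutator B = ⊤ := by
  have hs : Function.Surjective e.toMonoidHom := e.surjective
  have hmap : Subgroup.map e.toMonoidHom (commutator A) = commutator B := by
    rw [commutator_def, Subgroup.map_commutator, ← MonoidHom.range_eq_map,
      MonoidHom.range_eq_top.mpr hs, ← commutator_def]
  rw [← hmap, h, ← MonoidHom.range_eq_map, MonoidHom.range_eq_top.mpr hs]

/-- the bounds for the stem extensions are preserved by isomorphisms -/
theorem bound_of_equiv {A B : Type} [Group A] [Group B] (e : A ≃* B) (p t : ℕ)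
    (hB : ∀ (Γ : Type) [Group Γ] [Finite Γ] (σ : Γ →* B),
      Cfsg.IsStemExtension σ → IsPGroup p σ.ker → Nat.card σ.ker ≤ t) :
    ∀ (Γ : Type) [Group Γ] [Finite Γ] (σ : Γ →* A),
      Cfsg.IsStemExtension σ → IsPGroup p σ.ker → Nat.card σ.ker ≤ t := by
  intro Γ _ _ σ hσ hk
  have h1 := Stem.isStem_comp_equiv (MulEquiv.refl Γ) e σ hσ
  have ke := Stem.kerEquiv (MulEquiv.refl Γ) e σ
  have h2 := hB Γ _ h1 (hk.of_equiv ke.symm)
  rw [Nat.card_congr ke.toEquiv] at h2
  exact h2

section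

variable {φ : Fi24 →* Equiv.Perm (Fin 306936)} {H0 S1 : Subgroup Fi24} (H : F24Hyp φ H0 S1)
include H

theorem finite_Fi24 : Finite Fi24 :=
  Nat.finite_of_card_ne_zero (by rw [H.card]; norm_num)

theorem card_Fi24' : Nat.card Fi24' = 1255205709190661721292800 := by
  have h := Subgroup.card_mul_index (commutator Fi24)
  rw [H.hidx, H.card] at h
  show Nat.card (commutator Fi24) = _
  omega

theorem S1c : S1 ≤ commutator Fi24 := by
  have h1 : (commutator S1).map S1.subtype ≤ commutator Fi24 := by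
    rw [commutator_def, Subgroup.map_commutator, commutator_def]
    exact Subgroup.commutator_mono le_top le_top
  intro s hs
  apply h1
  refine ⟨⟨s, hs⟩, ?_, rfl⟩
  rw [H.perf]
  exact Subgroup.mem_top _

/-- the stabilizer of the first point -/
noncomputable abbrev St : Subgroup Fi24' := S1.subgroupOf (commutator Fi24)

/-- the stabilizer is isomorphic to the subgroup -/
noncomputable def stEquiv : S1.subgroupOf (commutator Fi24) ≃* S1 :=
  Subgroup.subgroupOfEquivOfLe (S1c H)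

theorem perf_St : commutator (S1.subgroupOf (commutator Fi24)) = ⊤ :=
  commutator_eq_top_of_equiv (stEquiv H).symm H.perf

theorem bound_St (p : ℕ) : ∀ (Γ : Type) [Group Γ] [Finite Γ]
    (σ : Γ →* S1.subgroupOf (commutator Fi24)),
    Cfsg.IsStemExtension σ → IsPGroup p σ.ker → Nat.card σ.ker ≤ 1 :=
  bound_of_equiv (stEquiv H) p 1 (H.bS p)

theorem index_St : (S1.subgroupOf (commutator Fi24)).index = 306936 := by
  have h1 := Subgroup.card_mul_index (S1.subgroupOf (commutator Fi24))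
  rw [Nat.card_congr (stEquiv H).toEquiv, H.cardS1, card_Fi24' H] at h1
  omega

/-- the bound from a certificate -/
theorem bound_cert (p : ℕ) [hp : Fact p.Prime] (D : SAData) (E : ℕ)
    (hV : ValsBoundN.{0} D p E D.k) (hk12 : D.k = 12) (hm : D.m = 306936) (hpi : D.pi = piF)
    (hS : D.chkStruct = true) (hords : ∀ i < D.k, D.ords.getD i 0 = 0)
    (hkr : D.k ≤ D.rels.length)
    (Em Fm : ℕ → ℕ → ℤ) (Dt : ℤ) (hDt : IsCoprime Dt (p : ℤ))
    (hEm : ∀ r < D.k, ∀ g < D.k, Em r g = ((D.rels.getD r ([], [])).1.count g : ℤ) -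
      ((D.rels.getD r ([], [])).2.count g : ℤ))
    (hEF : ∀ r < D.k, ∀ j < D.k,
      ∑ g ∈ Finset.range D.k, Em r g * Fm g j = if r = j then Dt else 0)
    (hlt : ∀ w ∈ D.rels, (∀ i ∈ w.1, i < 12) ∧ ∀ i ∈ w.2, i < 12)
    (hok : ∀ w ∈ D.rels, relOK2 w = true)
    (Γ : Type) [Group Γ] [Finite Γ] (σ : Γ →* Fi24') (hσ : Cfsg.IsStemExtension σ)
    (hk : IsPGroup p σ.ker) : Nat.card σ.ker ≤ p ^ E * 1 := by
  letI := actF φ
  have hst := stab_eq_F H.hidx H0 S1 H.fix H.trans H.idxH0 H.S1_le (S1c H) H.dec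
  exact card_ker_le_pow_mul_cycN.{0} p D E hV hS (by rw [hm]; norm_num) hords hkr Em Fm Dt hDt
    hEm hEF ptF (gsY H.hidx) (by rw [hk12]; exact gsY_gen H.hidx)
    (by rw [hm]; exact pt_zero_F)
    (by
      rw [hk12, hm, hpi]
      exact fun i hi j hj => pi_act_F H.hidx H.rep i hi j hj)
    (hrel_F2 H.hidx D.rels hlt hok) (S1.subgroupOf (commutator Fi24)) hst
    (1 : S1.subgroupOf (commutator Fi24) →* Unit) (fun _ => ⟨1, rfl⟩)
    (by rw [Nat.card_unique]; exact Nat.coprime_one_left p)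
    (S1.subgroupOf (commutator Fi24)) le_rfl
    (fun k => ⟨fun _ => k.2, fun _ => rfl⟩) (perf_St H) 1 (bound_St H p) Γ σ hσ hk

/-- the kernels which are 2-groups -/
theorem bound2 (Γ : Type) [Group Γ] [Finite Γ] (σ : Γ →* Fi24') (hσ : Cfsg.IsStemExtension σ)
    (hk : IsPGroup 2 σ.ker) : Nat.card σ.ker ≤ 1 := by
  haveI : Fact (Nat.Prime 2) := ⟨Nat.prime_two⟩
  have hS : U2.D.chkStruct = true := U2.chkStruct_of (piF_lt H.rep)
  have h := bound_cert H 2 U2.D 0 H.vb2 rfl rfl rfl hS U2.D_ords U2.hkr U2.Em U2.Fm _ U2.hDt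
    U2.hEm U2.hEF U2.rels_lt rels_ok2 Γ σ hσ hk
  omega

/-- the kernels which are 7-groups -/
theorem bound7 (Γ : Type) [Group Γ] [Finite Γ] (σ : Γ →* Fi24') (hσ : Cfsg.IsStemExtension σ)
    (hk : IsPGroup 7 σ.ker) : Nat.card σ.ker ≤ 1 := by
  haveI : Fact (Nat.Prime 7) := ⟨by norm_num⟩
  have hS : U7.D.chkStruct = true := U7.chkStruct_of (piF_lt H.rep)
  have h := bound_cert H 7 U7.D 0 H.vb7 rfl rfl rfl hS U7.D_ords U7.hkr U7.Em U7.Fm _ U7.hDt
    U7.hEm U7.hEF U7.rels_lt rels_ok7 Γ σ hσ hk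
  omega

/-- the kernels which are 3-groups -/
theorem bound3 (Γ : Type) [Group Γ] [Finite Γ] (σ : Γ →* Fi24') (hσ : Cfsg.IsStemExtension σ)
    (hk : IsPGroup 3 σ.ker) : Nat.card σ.ker ≤ 3 := by
  haveI : Fact (Nat.Prime 3) := ⟨Nat.prime_three⟩
  have hS : U3.D.chkStruct = true := U3.chkStruct_of (piF_lt H.rep)
  have h := bound_cert H 3 U3.D 1 H.vb3 rfl rfl rfl hS U3.D_ords U3.hkr U3.Em U3.Fm _ U3.hDt
    U3.hEm U3.hEF U3.rels_lt rels_ok3 Γ σ hσ hk
  omega

/-- the kernels which are 5-groups -/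
theorem bound5 (Γ : Type) [Group Γ] [Finite Γ] (σ : Γ →* Fi24') (hσ : Cfsg.IsStemExtension σ)
    (hk : IsPGroup 5 σ.ker) : Nat.card σ.ker ≤ 1 := by
  haveI : Fact (Nat.Prime 5) := ⟨by norm_num⟩
  exact Cfsg.Agent.Lib.Helper5.StemRes.card_ker_le_of_index_coprime σ hσ 5 hk
    (S1.subgroupOf (commutator Fi24)) (by rw [index_St H]; norm_num) 1 (bound_St H 5)

end

theorem not_sq_dvd (p : ℕ) (hp : p.Prime) (h2 : p ≠ 2) (h3 : p ≠ 3) (h5 : p ≠ 5) (h7 : p ≠ 7) :
    ¬ p * p ∣ 1255205709190661721292800 := by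
  intro h
  have hd : p ∣ 1255205709190661721292800 := dvd_trans (dvd_mul_right p p) h
  have e : (1255205709190661721292800 : ℕ) =
      2 ^ 21 * 3 ^ 16 * 5 ^ 2 * 7 ^ 3 * 11 * 13 * 17 * 23 * 29 := by norm_num
  rw [e] at hd
  have key : ∀ q : ℕ, q.Prime → p ∣ q → p * p ∣ 1255205709190661721292800 →
      q * q ∣ 1255205709190661721292800 := by
    intro q hq hpq hh
    rw [(Nat.prime_dvd_prime_iff_eq hp hq).mp hpq] at hh
    exact hh
  rcases (Nat.Prime.dvd_mul hp).mp hd with hd | hd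
  · rcases (Nat.Prime.dvd_mul hp).mp hd with hd | hd
    · rcases (Nat.Prime.dvd_mul hp).mp hd with hd | hd
      · rcases (Nat.Prime.dvd_mul hp).mp hd with hd | hd
        · rcases (Nat.Prime.dvd_mul hp).mp hd with hd | hd
          · rcases (Nat.Prime.dvd_mul hp).mp hd with hd | hd
            · rcases (Nat.Prime.dvd_mul hp).mp hd with hd | hd
              · rcases (Nat.Prime.dvd_mul hp).mp hd with hd | hd
                · exact h2 ((Nat.prime_dvd_prime_iff_eq hp Nat.prime_two).mp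
                    (hp.dvd_of_dvd_pow hd))
                · exact h3 ((Nat.prime_dvd_prime_iff_eq hp Nat.prime_three).mp
                    (hp.dvd_of_dvd_pow hd))
              · exact h5 ((Nat.prime_dvd_prime_iff_eq hp (by norm_num : Nat.Prime 5)).mp
                  (hp.dvd_of_dvd_pow hd))
            · exact h7 ((Nat.prime_dvd_prime_iff_eq hp (by norm_num : Nat.Prime 7)).mp
                (hp.dvd_of_dvd_pow hd))
          · have := key 11 (by norm_num) hd h
            norm_num at this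
        · have := key 13 (by norm_num) hd h
          norm_num at this
      · have := key 17 (by norm_num) hd h
        norm_num at this
    · have := key 23 (by norm_num) hd h
      norm_num at this
  · have := key 29 (by norm_num) hd h
    norm_num at this

section

variable {φ : Fi24 →* Equiv.Perm (Fin 306936)} {H0 S1 : Subgroup Fi24} (H : F24Hyp φ H0 S1)
include H

/-- the bound for the kernels of the stem extensions which are `p`-groups -/
theorem bound_p (p : ℕ) [hp : Fact p.Prime] (Γ : Type) [Group Γ] [Finite Γ]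
    (σ : Γ →* Fi24') (hσ : Cfsg.IsStemExtension σ) (hk : IsPGroup p σ.ker) :
    Nat.card σ.ker ≤ if p = 3 then 3 else 1 := by
  by_cases h3 : p = 3
  · subst h3
    rw [if_pos rfl]
    exact bound3 H Γ σ hσ hk
  · rw [if_neg h3]
    by_cases h2 : p = 2
    · subst h2
      exact bound2 H Γ σ hσ hk
    · by_cases h7 : p = 7
      · subst h7
        exact bound7 H Γ σ hσ hk
      · by_cases h5 : p = 5
        · subst h5
          exact bound5 H Γ σ hσ hk
        · have h1 : Nat.card σ.ker = 1 := by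
            haveI := finite_Fi24 H
            haveI : Finite Fi24' := Subtype.finite
            apply Stem.card_ker_eq_one_of_not_sq_dvd σ hσ p hk
            rw [card_Fi24' H]
            exact not_sq_dvd p hp.out h2 h3 h5 h7
          omega

/-- the kernel of a stem extension has order dividing 3 -/
theorem hub (Γ : Type) [Group Γ] [Finite Γ] (σ : Γ →* Fi24')
    (hσ : Cfsg.IsStemExtension σ) : Nat.card σ.ker ∣ 3 := by
  apply Stem.card_dvd_of_primary σ 3 (by norm_num) ?_ hσ
  intro p hp Γ' _ _ σ' hσ' hk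
  have h1 := bound_p H p Γ' σ' hσ' hk
  obtain ⟨a, ha⟩ := IsPGroup.iff_card.mp hk
  by_cases h3 : p = 3
  · subst h3
    rw [if_pos rfl] at h1
    rw [ha] at h1 ⊢
    have : a ≤ 1 := by
      by_contra hcon
      have : 3 ^ 2 ≤ 3 ^ a := Nat.pow_le_pow_right (by norm_num) (by omega)
      omega
    interval_cases a <;> norm_num
  · rw [if_neg h3] at h1
    have : Nat.card σ'.ker = 1 := by
      have := Nat.card_pos (α := σ'.ker)
      omega
    rw [this]
    exact one_dvd 3

theorem not_prime_card : ¬ (1255205709190661721292800 : ℕ).Prime := by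
  intro h
  have h2 : (2 : ℕ) ∣ 1255205709190661721292800 := by norm_num
  have := (Nat.prime_dvd_prime_iff_eq Nat.prime_two h).mp h2
  norm_num at this

/-- **the multiplier of the simple Fischer group `Fi24'` is cyclic of order 3** -/
theorem multiplier_Fi24' : Cfsg.HasCyclicSchurMultiplier Fi24' 3 := by
  haveI := finite_Fi24 H
  haveI : Finite Fi24' := Subtype.finite
  have hperf : commutator Fi24' = ⊤ :=
    commutator_eq_top_of_simple H.simple (by rw [card_Fi24' H]; exact not_prime_card H)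
  obtain ⟨Γ₀, i1, i2, σ₀, h₀, ⟨e⟩⟩ := exists_cover_Fi24' H.hpt H.hidx hperf
  have hc : Nat.card (Multiplicative (ZMod 3)) = 3 := by
    rw [Nat.card_eq_fintype_card]
    rfl
  exact Stem.hasSchurMultiplier_of_cover_of_bound
    (MulEquiv.refl Fi24') hperf (Multiplicative (ZMod 3)) σ₀ h₀ e
    (fun Γ' _ _ σ' hσ' => by
      rw [hc]
      exact Nat.le_of_dvd (by norm_num) (hub H Γ' σ' hσ'))

end

end Cfsg.Agent.Lib.Helper4.F24M
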