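import Cfsg.Agent.Lib.Helper4.F24M.TB0
import Cfsg.Agent.Lib.Helper4.F24M.TB1
import Cfsg.Agent.Lib.Helper4.F24M.TB2
import Cfsg.Agent.Lib.Helper4.F24M.TB3
import Cfsg.Agent.Lib.Helper4.F24M.TB4
import Cfsg.Agent.Lib.Helper4.F24M.TB5
import Cfsg.Agent.Lib.Helper4.F24M.TB6
import Cfsg.Agent.Lib.Helper4.F24M.TB7
import Cfsg.Agent.Lib.Helper4.F24M.TB8
import Cfsg.Agent.Lib.Helper4.F24M.TB9
import Cfsg.Agent.Lib.Helper4.F24M.TB10
import Cfsg.Agent.Lib.Helper4.F24M.TB11
import Cfsg.Agent.Lib.Helper4.F24M.TB12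
import Cfsg.Agent.Lib.Helper4.F24M.TB13
import Cfsg.Agent.Lib.Helper4.F24M.TB14
set_option autoImplicit false

/-! # The merged tables of the twelve letters, and of three letters standing for words -/

namespace Cfsg.Agent.Lib.Helper4.F24M

/-- the merged table of a letter -/
noncomputable def M (c : Nat) : Nat → Nat := Nat.rec (motive := fun _ => Nat → Nat) M0 (fun k0 _ => Nat.rec (motive := fun _ => Nat → Nat) M1 (fun k1 _ => Nat.rec (motive := fun _ => Nat → Nat) M2 (fun k2 _ => Nat.rec (motive := fun _ => Nat → Nat) M3 (fun k3 _ => Nat.rec (motive := fun _ => Nat → Nat) M4 (fun k4 _ => Nat.rec (motive := fun _ => Nat → Nat) M5 (fun k5 _ => Nat.rec (motive := fun _ => Nat → Nat) M6 (fun k6 _ => Nat.rec (motive := fun _ => Nat → Nat) M7 (fun k7 _ => Nat.rec (motive := fun _ => Nat → Nat) M8 (fun k8 _ => Nat.rec (motive := fun _ => Nat → Nat) M9 (fun k9 _ => Nat.rec (motive := fun _ => Nat → Nat) M10 (fun k10 _ => Nat.rec (motive :=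 fun _ => Nat → Nat) M11 (fun k11 _ => Nat.rec (motive := fun _ => Nat → Nat) M12 (fun k12 _ => Nat.rec (motive := fun _ => Nat → Nat) M13 (fun k13 _ => M14) k12) k11) k10) k9) k8) k7) k6) k5) k4) k3) k2) k1) k0) c

end Cfsg.Agent.Lib.Helper4.F24M
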