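import Cfsg.Agent.Lib.Helper4.Sparse.GroupB
import Cfsg.Agent.Lib.Helper4.TCov.EvenGen
import Cfsg.Agent.Lib.Helper4.F24M.Sgn
import Cfsg.Agent.Lib.Helper6.TCD.Fi24a.Par

set_option autoImplicit false
set_option maxRecDepth 100000

/-! # The labelled action of the simple Fischer group `Fi24'` on 306936 points: the hypotheses of
the bounds, from a permutation representation of `Fi24` given by the tables -/

namespace Cfsg.Agent.Lib.Helper4.F24M

open Cfsg.Spor Cfsg.Agent.Lib.Helper6.TC Cfsg.Agent.Lib.Helper6.TCD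
open Cfsg.Agent.Lib.Helper6.TCP.Fi24
open Cfsg.Agent.Lib.Helper1.StemSA Cfsg.Agent.Lib.Helper1.MatCode Cfsg.Agent.Lib.Helper4.Sparse
open Cfsg.Agent.Lib.Helper4.TCov

/-- the hypothesis on the permutation representation: the inverse of a word of letters acts by
the tables -/
def RepHyp (φ : Fi24 →* Equiv.Perm (Fin 306936)) : Prop :=
  ∀ w, (∀ c ∈ w, c < 12) → ∀ p : Fin 306936,
    ((φ (PresentedGroup.mk Rels (wordElt gc w)))⁻¹ p).val = wapp Fi24a.px w p.val

/-- the action of the simple group on the points through the representation -/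
@[reducible] def actF (φ : Fi24 →* Equiv.Perm (Fin 306936)) : MulAction Fi24' (Fin 306936) :=
  MulAction.compHom (Fin 306936) (φ.comp (commutator Fi24).subtype)

/-- the points -/
def ptF (j : ℕ) : Fin 306936 := if h : j < 306936 then ⟨j, h⟩ else ⟨0, by norm_num⟩

theorem ptF_val {j : ℕ} (h : j < 306936) : (ptF j).val = j := by
  unfold ptF
  rw [dif_pos h]

theorem pt_zero_F : ∀ j < 306936, ptF j = ptF 0 → j = 0 := by
  intro j hj h
  have := congrArg Fin.val h
  rwa [ptF_val hj, ptF_val (by norm_num)] at this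

/-- the words in the twelve generators of the twelve letters: `l k`, `k l`, and `l x` for the
ten other generators `x` -/
def yx (i : ℕ) : List ℕ := if i = 0 then [0, 1] else if i = 1 then [1, 0] else [0, i]

theorem yx_lt (i : ℕ) (hi : i < 12) : ∀ c ∈ yx i, c < 12 := by
  unfold yx
  split_ifs <;> simp <;> omega

theorem sgn_ceOf (c : ℕ) : sgn (ceOf gc c) = -1 := by
  rw [ceOf_gc, sgn_of]

theorem sgn_yx (i : ℕ) : sgn (wordElt gc (yx i)) = 1 := by
  have e : ((-1 : ℤˣ) * -1) = 1 := by decide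
  unfold yx
  split_ifs <;>
    rw [wordElt_cons, wordElt_cons, wordElt_nil, mul_one, map_mul, sgn_ceOf, sgn_ceOf, e]

/-- the tables of the letters -/
noncomputable def piF : ℕ → ℕ → ℕ :=
  fun i j => Bool.rec (Bool.rec (Bool.rec (Fi24a.P0 (Fi24a.P1 j)) (Bool.rec (Fi24a.P1 (Fi24a.P0 j)) (Fi24a.P0 (Fi24a.P2 j)) (Nat.ble 2 i)) (Nat.ble 1 i)) (Bool.rec (Fi24a.P0 (Fi24a.P3 j)) (Bool.rec (Fi24a.P0 (Fi24a.P4 j)) (Fi24a.P0 (Fi24a.P5 j)) (Nat.ble 5 i)) (Nat.ble 4 i)) (Nat.ble 3 i)) (Bool.rec (Bool.rec (Fi24a.P0 (Fi24a.P6 j)) (Bool.rec (Fi24a.P0 (Fi24a.P7 j)) (Fi24a.P0 (Fi24a.P8 j)) (Nat.ble 8 i)) (Nat.ble 7 i)) (Bool.rec (Fi24a.P0 (Fi24a.P9 j)) (Bool.rec (Fi24a.P0 (Fi24a.P10 j)) (Fi24a.P0 (Fi24a.P11 j)) (Nat.ble 11 i)) (Nat.ble 10 i)) (Nat.ble 9 i)) (Nat.ble 6 i)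

theorem piF_eq (i : ℕ) (hi : i < 12) (p : ℕ) : piF i p = wapp Fi24a.px (yx i).reverse p := by
  interval_cases i <;> rfl

/-- the images of the generators -/
noncomputable abbrev tg (c : ℕ) : Fi24 := PresentedGroup.mk Rels (ceOf gc c)

theorem tg_sq (c : ℕ) : tg c * tg c = 1 := gen_sq (gen c)

theorem tg_inv (c : ℕ) : (tg c)⁻¹ = tg c := (eq_inv_of_mul_eq_one_left (tg_sq c)).symm

/-- the reversed word is the inverse -/
theorem mk_reverse (w : List ℕ) :
    PresentedGroup.mk Rels (wordElt gc w.reverse) = (PresentedGroup.mk Rels (wordElt gc w))⁻¹ := by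
  induction w with
  | nil => rw [List.reverse_nil, wordElt_nil, map_one, inv_one]
  | cons c w ih =>
    rw [List.reverse_cons, wordElt_append, wordElt_cons, wordElt_cons, wordElt_nil, mul_one,
      map_mul, map_mul, ih, mul_inv_rev]
    show _ * tg c = _ * (tg c)⁻¹
    rw [tg_inv]

section rep

variable {φ : Fi24 →* Equiv.Perm (Fin 306936)} (hφ : RepHyp φ)
include hφ

theorem px_lt_F (c : ℕ) (hc : c < 12) (p : ℕ) (hp : p < 306936) : Fi24a.px c p < 306936 := by
  have h := hφ [c] (by simpa using hc) ⟨p, hp⟩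
  rw [wapp_cons, wapp_nil] at h
  rw [← h]
  exact Fin.isLt _

theorem wapp_lt_F (w : List ℕ) (hw : ∀ c ∈ w, c < 12) (p : ℕ) (hp : p < 306936) :
    wapp Fi24a.px w p < 306936 := by
  have h := hφ w hw ⟨p, hp⟩
  rw [← h]
  exact Fin.isLt _

theorem piF_lt (i : ℕ) (hi : i < 12) (j : ℕ) (hj : j < 306936) : piF i j < 306936 := by
  rw [piF_eq i hi]
  apply wapp_lt_F hφ _ _ j hj
  intro c hc
  exact yx_lt i hi c (List.mem_reverse.mp hc)

/-- the action of a letter on a point -/
theorem phi_letter (i : ℕ) (hi : i < 12) (p : Fin 306936) :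
    (φ (PresentedGroup.mk Rels (wordElt gc (yx i))) p).val = piF i p.val := by
  have h := hφ (yx i).reverse (fun c hc => yx_lt i hi c (List.mem_reverse.mp hc)) p
  rw [mk_reverse, map_inv, inv_inv] at h
  rw [h, piF_eq i hi]

end rep

section gens

variable (hidx : (commutator Fi24).index = 2)

/-- the letters, in the simple group -/
noncomputable def yS (i : ℕ) : Fi24' :=
  ⟨PresentedGroup.mk Rels (wordElt gc (yx i)), (mem_comm_iff hidx _).mpr (sgn_yx i)⟩

/-- the list of the letters -/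
noncomputable def gsY : List Fi24' :=
  [yS hidx 0, yS hidx 1, yS hidx 2, yS hidx 3, yS hidx 4, yS hidx 5, yS hidx 6, yS hidx 7,
    yS hidx 8, yS hidx 9, yS hidx 10, yS hidx 11]

theorem gsY_getD (i : ℕ) (hi : i < 12) : (gsY hidx).getD i 1 = yS hidx i := by
  interval_cases i <;> rfl

theorem coe_wordProd (w : List ℕ) (hw : ∀ c ∈ w, c < 12) :
    ((wordProd (gsY hidx) w : Fi24') : Fi24) =
      PresentedGroup.mk Rels (wordElt gc (w.flatMap yx)) := by
  induction w with
  | nil =>
    rw [wordProd_nil, List.flatMap_nil, wordElt_nil, map_one]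
    rfl
  | cons c w ih =>
    rw [wordProd_cons, List.flatMap_cons, wordElt_append, map_mul, Subgroup.coe_mul,
      ih (fun d hd => hw d (List.mem_cons_of_mem _ hd)), gsY_getD hidx c (hw c List.mem_cons_self)]
    rfl

theorem pi_act_F {φ : Fi24 →* Equiv.Perm (Fin 306936)} (hφ : RepHyp φ) (i : ℕ) (hi : i < 12)
    (j : ℕ) (hj : j < 306936) :
    letI := actF φ
    (gsY hidx).getD i 1 • ptF j = ptF (piF i j) := by
  rw [gsY_getD hidx i hi]
  apply Fin.ext
  rw [ptF_val (piF_lt hφ i hi j hj)]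
  show (φ (PresentedGroup.mk Rels (wordElt gc (yx i))) (ptF j)).val = _
  rw [phi_letter hφ i hi, ptF_val hj]

/-- the letters generate the simple group -/
theorem gsY_gen : Subgroup.closure {g : Fi24' | ∃ i < 12, g = (gsY hidx).getD i 1} = ⊤ := by
  rw [eq_top_iff]
  intro g _
  -- the elements of the closure of the products lift to the closure of the letters
  have key : ∀ h ∈ Subgroup.closure (pairSet Rels Fi24.Gen.l),
      ∃ hm : h ∈ commutator Fi24, (⟨h, hm⟩ : Fi24') ∈
        Subgroup.closure {g : Fi24' | ∃ i < 12, g = (gsY hidx).getD i 1} := by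
    intro h hh
    induction hh using Subgroup.closure_induction with
    | mem y hy =>
      obtain ⟨x, rfl⟩ := hy
      by_cases hx : x = Fi24.Gen.l
      · subst hx
        have e : PresentedGroup.mk Rels (FreeGroup.of Fi24.Gen.l) *
            PresentedGroup.mk Rels (FreeGroup.of Fi24.Gen.l) = 1 := gen_sq _
        have hm : PresentedGroup.mk Rels (FreeGroup.of Fi24.Gen.l) *
            PresentedGroup.mk Rels (FreeGroup.of Fi24.Gen.l) ∈ commutator Fi24 := by
          rw [e]
          exact Subgroup.one_mem _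
        refine ⟨hm, ?_⟩
        have : (⟨_, hm⟩ : Fi24') = 1 := Subtype.ext e
        rw [this]
        exact Subgroup.one_mem _
      · -- the letter of the generator
        have hi : ∃ i < 12, PresentedGroup.mk Rels (FreeGroup.of Fi24.Gen.l) *
            PresentedGroup.mk Rels (FreeGroup.of x) =
              PresentedGroup.mk Rels (wordElt gc (yx i)) := by
          cases x
          · exact absurd rfl hx
          · exact ⟨0, by norm_num, by simp [yx, wordElt_cons, wordElt_nil, ceOf_gc, gen]⟩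
          · exact ⟨2, by norm_num, by simp [yx, wordElt_cons, wordElt_nil, ceOf_gc, gen]⟩
          · exact ⟨3, by norm_num, by simp [yx, wordElt_cons, wordElt_nil, ceOf_gc, gen]⟩
          · exact ⟨4, by norm_num, by simp [yx, wordElt_cons, wordElt_nil, ceOf_gc, gen]⟩
          · exact ⟨5, by norm_num, by simp [yx, wordElt_cons, wordElt_nil, ceOf_gc, gen]⟩
          · exact ⟨6, by norm_num, by simp [yx, wordElt_cons, wordElt_nil, ceOf_gc, gen]⟩
          · exact ⟨7, by norm_num, by simp [yx, wordElt_cons, wordElt_nil, ceOf_gc, gen]⟩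
          · exact ⟨8, by norm_num, by simp [yx, wordElt_cons, wordElt_nil, ceOf_gc, gen]⟩
          · exact ⟨9, by norm_num, by simp [yx, wordElt_cons, wordElt_nil, ceOf_gc, gen]⟩
          · exact ⟨10, by norm_num, by simp [yx, wordElt_cons, wordElt_nil, ceOf_gc, gen]⟩
          · exact ⟨11, by norm_num, by simp [yx, wordElt_cons, wordElt_nil, ceOf_gc, gen]⟩
        obtain ⟨i, hi12, hi⟩ := hi
        have hm : PresentedGroup.mk Rels (FreeGroup.of Fi24.Gen.l) *
            PresentedGroup.mk Rels (FreeGroup.of x) ∈ commutator Fi24 := by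
          rw [hi]
          exact (yS hidx i).2
        refine ⟨hm, Subgroup.subset_closure ⟨i, hi12, ?_⟩⟩
        rw [gsY_getD hidx i hi12]
        exact Subtype.ext hi
    | one => exact ⟨Subgroup.one_mem _, Subgroup.one_mem _⟩
    | mul a b _ _ iha ihb =>
      obtain ⟨ha, ha'⟩ := iha
      obtain ⟨hb, hb'⟩ := ihb
      exact ⟨Subgroup.mul_mem _ ha hb, Subgroup.mul_mem _ ha' hb'⟩
    | inv a _ iha =>
      obtain ⟨ha, ha'⟩ := iha
      exact ⟨Subgroup.inv_mem _ ha, Subgroup.inv_mem _ ha'⟩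
  obtain ⟨f, hf⟩ := PresentedGroup.mk_surjective Rels (g : Fi24)
  have hsf : sgn f = 1 := by
    rw [← mem_comm_iff hidx, hf]
    exact g.2
  have hcl := even_mem_closure Rels (fun x => gen_sq x) Fi24.Gen.l f hsf
  rw [hf] at hcl
  obtain ⟨_, hm'⟩ := key _ hcl
  exact hm'

end gens

end Cfsg.Agent.Lib.Helper4.F24M
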