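import Cfsg.Agent.Lib.Helper4.F24M.UGroup

set_option autoImplicit false
set_option maxRecDepth 100000

/-! # The relations between the letters hold in the simple Fischer group -/

namespace Cfsg.Agent.Lib.Helper4.F24M

open Cfsg.Spor Cfsg.Agent.Lib.Helper6.TC Cfsg.Agent.Lib.Helper6.TCP.Fi24
open Cfsg.Agent.Lib.Helper1.MatCode

/-- cancel the adjacent equal letters of a word (the generators are involutions) -/
def ired : List ℕ → List ℕ
  | [] => []
  | c :: w =>
    match ired w with
    | [] => [c]
    | d :: r => if c = d then r else c :: d :: r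

theorem ired_cons (c : ℕ) (w : List ℕ) : ired (c :: w) =
    match ired w with
    | [] => [c]
    | d :: r => if c = d then r else c :: d :: r := rfl

theorem mk_ired (w : List ℕ) :
    PresentedGroup.mk Rels (wordElt gc (ired w)) = PresentedGroup.mk Rels (wordElt gc w) := by
  induction w with
  | nil => rfl
  | cons c w ih =>
    rw [wordElt_cons gc c w, map_mul, ← ih, ired_cons]
    generalize ired w = v
    cases v with
    | nil =>
      show PresentedGroup.mk Rels (wordElt gc [c]) = _
      rw [wordElt_cons, map_mul]
    | cons d r =>
      show PresentedGroup.mk Rels (wordElt gc (if c = d then r else c :: d :: r)) = _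
      by_cases hcd : c = d
      · subst hcd
        rw [if_pos rfl, wordElt_cons, map_mul, ← mul_assoc]
        have := tg_sq c
        unfold tg at this
        rw [this, one_mul]
      · rw [if_neg hcd, wordElt_cons, map_mul]

/-- the relators, their conjugates under the first generator, and the empty word -/
def baseL : List (List ℕ) := base ++ base.map (fun b => 0 :: (b ++ [0])) ++ [[]]

theorem baseL_one : ∀ b ∈ baseL, PresentedGroup.mk Rels (wordElt gc b) = 1 := by
  intro b hb
  unfold baseL at hb
  rw [List.mem_append, List.mem_append] at hb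
  rcases hb with (hb | hb) | hb
  · exact hbase b hb
  · rw [List.mem_map] at hb
    obtain ⟨b0, hb0, rfl⟩ := hb
    rw [wordElt_cons, wordElt_append, map_mul, map_mul, hbase b0 hb0, one_mul, wordElt_cons,
      wordElt_nil, mul_one]
    exact tg_sq 0
  · rw [List.mem_singleton] at hb
    rw [hb, wordElt_nil, map_one]

/-- the check of a relation between the letters: its second word is empty, and its first word,
written in the generators, reduces to the same word as a relator, a conjugate of a relator or the
empty word -/
def relOK (w : List ℕ × List ℕ) : Bool :=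
  w.2 == [] && baseL.any (fun b => ired (w.1.flatMap yx) == ired b)

theorem relOK_spec (w : List ℕ × List ℕ) (h : relOK w = true) :
    w.2 = [] ∧ PresentedGroup.mk Rels (wordElt gc (w.1.flatMap yx)) = 1 := by
  unfold relOK at h
  rw [Bool.and_eq_true, List.any_eq_true] at h
  obtain ⟨h1, b, hb, h2⟩ := h
  refine ⟨by simpa using h1, ?_⟩
  have h3 : ired (w.1.flatMap yx) = ired b := by simpa using h2
  rw [← mk_ired, h3, mk_ired]
  exact baseL_one b hb

/-- the relations hold in the simple group -/
theorem hrel_F (hidx : (commutator Fi24).index = 2) (rels : List (List ℕ × List ℕ))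
    (hlt : ∀ w ∈ rels, (∀ i ∈ w.1, i < 12) ∧ ∀ i ∈ w.2, i < 12)
    (hok : ∀ w ∈ rels, relOK w = true) :
    ∀ w ∈ rels, wordProd (gsY hidx) w.1 = wordProd (gsY hidx) w.2 := by
  intro w hw
  obtain ⟨h1, h2⟩ := relOK_spec w (hok w hw)
  rw [h1, wordProd_nil]
  apply Subtype.ext
  rw [coe_wordProd hidx w.1 (hlt w hw).1, h2]
  rfl

end Cfsg.Agent.Lib.Helper4.F24M
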